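/-
An integrality condition on strongly regular graphs with 253 points and valency 112.

Main results (namespace `Cfsg.Agent.Order10200960`): `trace_condition`, `param_eq`.
-/
import Cfsg.Agent.EqLemmas
import Mathlib.LinearAlgebra.Trace
import Mathlib.LinearAlgebra.Matrix.ToLin
import Mathlib.Analysis.SpecialFunctions.Pow.Real

set_option autoImplicit false

open Matrix

namespace Cfsg.Agent.Order10200960

/-- An idempotent real matrix has a natural number as trace. -/
theorem trace_idempotent {V : Type*} [Fintype V] [DecidableEq V] (P : Matrix V V ℝ) (h : P * P = P) :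
    ∃ r : ℕ, P.trace = r := by
  have hp : LinearMap.IsProj (LinearMap.range (Matrix.toLin' P)) (Matrix.toLin' P) :=
    ⟨fun x => LinearMap.mem_range_self _ x, fun x hx => by
      obtain ⟨y, rfl⟩ := LinearMap.mem_range.mp hx
      rw [← LinearMap.comp_apply, ← Matrix.toLin'_mul, h]⟩
  refine ⟨Module.finrank ℝ (LinearMap.range (Matrix.toLin' P)), ?_⟩
  rw [← hp.trace, Matrix.trace_toLin'_eq]

/-- The all one matrix. -/
def allOne (V : Type*) : Matrix V V ℝ := Matrix.of fun _ _ => 1

theorem trace_condition {V : Type*} [Fintype V] [DecidableEq V] (hV : Fintype.card V = 253)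
    (A : Matrix V V ℝ) (l m : ℤ) (hA0 : ∀ v, A v v = 0) (hA1 : A * allOne V = (112 : ℝ) • allOne V)
    (hA2 : allOne V * A = (112 : ℝ) • allOne V)
    (hsq : A * A = (112 : ℝ) • (1 : Matrix V V ℝ) + (l : ℝ) • A + (m : ℝ) • (allOne V - 1 - A))
    (hpar : 112 * (111 - l) = 140 * m) (hpos : 0 < (l - m) ^ 2 + 4 * (112 - m)) :
    ∃ z : ℤ, (-252 * (l - m) - 224) ^ 2 = ((l - m) ^ 2 + 4 * (112 - m)) * z ^ 2 := by
  set J := allOne V with hJ
  have hJJ : J * J = (253 : ℝ) • J := by
    ext i j
    simp [hJ, allOne, Matrix.mul_apply, hV]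
  set d : ℝ := (l : ℝ) - m with hd
  set D : ℝ := d ^ 2 + 4 * (112 - (m : ℝ)) with hD
  have hD0 : 0 < D := by
    rw [hD, hd]; exact_mod_cast hpos
  set c : ℝ := (224 - d) / 253 with hc
  set C : Matrix V V ℝ := (2 : ℝ) • A - d • (1 : Matrix V V ℝ) - c • J with hC
  have hpar' : (112 : ℝ) * (111 - l) = 140 * m := by exact_mod_cast hpar
  have hCJ : C * J = 0 := by
    rw [hC, sub_mul, sub_mul, smul_mul_assoc, smul_mul_assoc, smul_mul_assoc, hA1, one_mul, hJJ, smul_smul,
      smul_smul, ← sub_smul, ← sub_smul]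
    rw [show (2 : ℝ) * 112 - d - c * 253 = 0 by rw [hc]; ring, zero_smul]
  have hCC : C * C = D • ((1 : Matrix V V ℝ) - (1 / 253 : ℝ) • J) := by
    have key : (4 : ℝ) * m - (224 - d) * c = - D / 253 := by
      rw [hc, hD, hd]
      field_simp
      nlinarith [hpar']
    calc C * C = ((2 : ℝ) • A - d • (1 : Matrix V V ℝ)) * ((2 : ℝ) • A - d • (1 : Matrix V V ℝ))
          - (c * (224 - d)) • J := by
          have e : C * C = C * ((2 : ℝ) • A - d • (1 : Matrix V V ℝ)) - c • (C * J) := by
            conv_lhs => arg 2; rw [hC]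
            rw [mul_sub, mul_smul_comm]
          rw [e, hCJ, smul_zero, sub_zero]
          conv_lhs => rw [hC, sub_mul]
          congr 1
          rw [smul_mul_assoc, mul_sub, mul_smul_comm, mul_smul_comm, hA2, mul_one, smul_smul, ← sub_smul, smul_smul]
          norm_num
      _ = D • (1 : Matrix V V ℝ) + ((4 : ℝ) * m - (224 - d) * c) • J := by
          rw [sub_mul, mul_sub, mul_sub, smul_mul_smul_comm, smul_mul_smul_comm, smul_mul_smul_comm,
            smul_mul_smul_comm, mul_one, one_mul, mul_one, hsq]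
          simp only [hD, hd]
          module
      _ = _ := by rw [key]; module
  have hC3 : C * C * C = D • C := by
    rw [hCC, smul_mul_assoc, sub_mul, one_mul, smul_mul_assoc]
    have : J * C = 0 := by
      rw [hC, mul_sub, mul_sub, mul_smul_comm, mul_smul_comm, mul_smul_comm, hA2, mul_one, hJJ, smul_smul,
        smul_smul, ← sub_smul, ← sub_smul,
        show (2 : ℝ) * 112 - d - c * 253 = 0 by rw [hc]; ring, zero_smul]
    rw [this, smul_zero, sub_zero]
  set s := Real.sqrt D with hs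
  have hs2 : s * s = D := Real.mul_self_sqrt hD0.le
  have hs0 : s ≠ 0 := fun e => by rw [e, mul_zero] at hs2; linarith
  have hC4 : C * C * (C * C) = D • (C * C) := by rw [← mul_assoc, hC3, smul_mul_assoc]
  set P := (1 / (2 * D)) • (C * C) + (1 / (2 * s)) • C with hP
  have hgen : ∀ u v : ℝ, (u • (C * C) + v • C) * (u • (C * C) + v • C)
      = (u * u * D + v * v) • (C * C) + (2 * u * v * D) • C := fun u v => by
    rw [add_mul, mul_add, mul_add, smul_mul_smul_comm, smul_mul_smul_comm, smul_mul_smul_comm,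
      smul_mul_smul_comm, hC4, hC3, ← mul_assoc, hC3]
    module
  have hPP : P * P = P := by
    rw [hP, hgen]
    congr 2
    · rw [show (1 / (2 * s)) * (1 / (2 * s)) = 1 / (4 * (s * s)) by rw [div_mul_div_comm]; ring_nf, hs2]
      field_simp
      ring
    · field_simp
  obtain ⟨r, hr⟩ := trace_idempotent P hPP
  have htJ : J.trace = 253 := by simp [hJ, allOne, Matrix.trace, hV]
  have htA : A.trace = 0 := by simp [Matrix.trace, hA0]
  have ht1 : (1 : Matrix V V ℝ).trace = 253 := by rw [Matrix.trace_one, hV]; norm_num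
  have htC : C.trace = -252 * d - 224 := by
    rw [hC, trace_sub, trace_sub, trace_smul, trace_smul, trace_smul, htA, ht1, htJ]
    simp only [smul_eq_mul, hc]
    ring
  rw [hP, trace_add, trace_smul, trace_smul, hCC, trace_smul, trace_sub, trace_smul, ht1, htJ, htC] at hr
  simp only [smul_eq_mul] at hr
  refine ⟨2 * (r : ℤ) - 252, ?_⟩
  have hz : (-252 * d - 224) = s * (2 * (r : ℝ) - 252) := by
    rw [← hr]
    field_simp
    nlinarith [hs2]
  have hz2 : (-252 * d - 224) ^ 2 = D * (2 * (r : ℝ) - 252) ^ 2 := by rw [hz, mul_pow, pow_two s, hs2]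
  rw [hD, hd] at hz2
  exact_mod_cast hz2

theorem param_eq {l a m : ℤ} (hl : l = 6 * a ∨ l = 15 + 6 * a) (ha : 0 ≤ a) (ha' : a ≤ 16)
    (hl' : l ≤ 111) (hpar : 112 * (111 - l) = 140 * m)
    (hz : ∃ z : ℤ, (-252 * (l - m) - 224) ^ 2 = ((l - m) ^ 2 + 4 * (112 - m)) * z ^ 2) :
    l = 36 ∧ m = 60 ∧ a = 6 := by
  obtain ⟨z, hz⟩ := hz
  have hcases : a = 1 ∨ a = 6 ∨ a = 11 ∨ a = 16 := by omega
  have nd : ∀ D T : ℤ, T ^ 2 = D * z ^ 2 → D ∣ T ^ 2 := fun D T h => Dvd.intro _ h.symm
  have hdvd := nd _ _ hz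
  have hm : m = 84 ∨ m = 60 ∨ m = 36 ∨ m = 12 ∨ m = 72 ∨ m = 48 ∨ m = 24 ∨ m = 0 := by omega
  rcases hl with rfl | rfl <;> rcases hcases with rfl | rfl | rfl | rfl <;>
    rcases hm with rfl | rfl | rfl | rfl | rfl | rfl | rfl | rfl <;>
    first
      | omega
      | (norm_num at hdvd)
      | norm_num

end Cfsg.Agent.Order10200960
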