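/-
Representatives of the classes of `Cfsg.Spor.M23`, coded by five bits for each point; produced by a
search program and checked by the kernel where used.
-/
import Cfsg.Agent.EqLemmas

set_option autoImplicit false

namespace Cfsg.Agent.Order10200960

/-- Representatives: order, order of centraliser, code, code of inverse, number of classes. -/
def reps : List (ℕ × ℕ × ℕ × ℕ × ℕ) :=
  [(2, 2688, 0xbd0d69ae2f8152c911a83d5ca18440, 0xbd0d69ae2f8152c911a83d5ca18440, 1),
   (3, 180, 0xbda6f3a1c4516125d12ca9a2d18402, 0xbd8eaab0ada44885bd32999d018041, 1),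
   (4, 32, 0xbd9b2654a723a905bcca9a62800c41, 0xbda4d3d0ac53ab35a0c48262f10403, 1),
   (5, 15, 0xbd1e6ab228539a9391769407309402, 0xba27621e26ab9b24bd905d04a28061, 1),
   (6, 12, 0xba24e29d26652cb1926dac1510bc40, 0xbb4ee4d4861510f616369426a58460, 1),
   (7, 14, 0xbd4e8925ca315b35d9f0a106c0c402, 0xbaac764c484c5a45c254abdc628061, 2),
   (8, 8, 0xbad8f4b5c4944c8a5613b1c6a09440, 0xb9d4b43dc9a4655b126c3345028460, 1),
   (11, 11, 0xbc4b6820ec74d432516993ccd0d440, 0xbd04a71ed333c904b512896ab60460, 2),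
   (14, 14, 0xbce87b2c6a4460d4bc95349cc10405, 0xbcd15b19cd515849416fa1c0988c41, 2),
   (15, 15, 0xb88f592db1b19d49b1e44c14540061, 0xbbe8c5ce064b62a914e3ab8880d802, 2),
   (23, 23, 0xbc096a45496364e155e55ccc740061, 0xbd153336564b1cf3c603215150ac02, 2)]

end Cfsg.Agent.Order10200960
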