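/-
A verified search bounding the number of elements of `Cfsg.Spor.M23` conjugating one coded permutation
to another.

Main results (namespace `Cfsg.Agent.Order10200960`): `cnt`, `card_conjugators_le`, `iterCode`.
-/
import Cfsg.Agent.Lib.Golay.Dodecad
import Cfsg.Agent.Lib.GolayClasses.Enum
import Cfsg.Prelude.Def_Spor_Mathieu

set_option autoImplicit false

open Cfsg Cfsg.Agent.Golay Cfsg.Agent.GolayClasses

namespace Cfsg.Agent.Order10200960

/-- The `i`th base index. -/
def bix (i : ℕ) : ℕ := baseIdx.getD i 0

/-- The images known for the first `k + 1` base points are compatible. -/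
def stepOK (r r' k : ℕ) (ds : List ℕ) : Bool :=
  (List.range (k + 1)).all fun i =>
    (!(fn r (bix i) == bix k) || fn r' (app ds (bix i)) == app ds (bix k)) &&
      (!(fn r (bix k) == bix i) || fn r' (app ds (bix k)) == app ds (bix i))

/-- The product conjugates `r` to `r'`. -/
def fullOK (r r' : ℕ) (ds : List ℕ) : Bool :=
  (List.range 24).all fun i => app ds (fn r i) == fn r' (app ds i)

/-- An upper bound for the number of conjugators with the given beginning. -/
def cnt (r r' : ℕ) : ℕ → List ℕ → ℕ
  | 0, ds => bif fullOK r r' ds then 1 else 0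
  | j + 1, ds => ((transTable.getD (6 - j) []).map fun d =>
      bif stepOK r r' (6 - j) (ds ++ [d]) then cnt r r' j (ds ++ [d]) else 0).sum

/-- The product of a list of coded permutations. -/
noncomputable def prodPerm (ds : List ℕ) : Equiv.Perm GolayPt := (ds.map toPerm).prod

theorem idx_prodPerm : ∀ (ds : List ℕ), (∀ d ∈ ds, isAut d = true) →
    ∀ p, idx (prodPerm ds p) = app ds (idx p)
  | [], _, p => by simp [prodPerm, app]
  | d :: ds, h, p => by
    have hd := validPerm_of_isAut (h d List.mem_cons_self)
    have e : prodPerm (d :: ds) = toPerm d * prodPerm ds := by simp [prodPerm]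
    rw [e, Equiv.Perm.mul_apply, idx_toPerm hd, idx_prodPerm ds fun x hx => h x (List.mem_cons_of_mem _ hx)]
    rfl

theorem prodPerm_concat (ds : List ℕ) (d : ℕ) : prodPerm (ds ++ [d]) = prodPerm ds * toPerm d := by
  simp [prodPerm]

theorem bpt_eq (k : ℕ) : bpt k = pt (bix k) := rfl

theorem idx_bix (k : ℕ) (hk : k < 7) : idx (bpt k) = bix k := idx_bpt k hk

variable {r r' : ℕ}

theorem fullOK_of_conj (hr : validPerm r = true) (hr' : validPerm r' = true) {ds : List ℕ}
    (hds : ∀ d ∈ ds, isAut d = true) (h : prodPerm ds * toPerm r = toPerm r' * prodPerm ds) :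
    fullOK r r' ds = true := by
  simp only [fullOK, List.all_eq_true, List.mem_range, beq_iff_eq]
  intro i hi
  have e := congrArg idx (Equiv.Perm.ext_iff.mp h (pt i))
  rwa [Equiv.Perm.mul_apply, Equiv.Perm.mul_apply, idx_prodPerm ds hds, idx_toPerm hr, idx_toPerm hr',
    idx_prodPerm ds hds, idx_pt hi] at e

theorem stepOK_of_conj (hr : validPerm r = true) (hr' : validPerm r' = true) {k : ℕ} (hk : k < 7)
    {ds : List ℕ} (hds : ∀ d ∈ ds, isAut d = true) {h : Equiv.Perm GolayPt} (hh : h ∈ chain (k + 1))
    (hc : prodPerm ds * h * toPerm r = toPerm r' * (prodPerm ds * h)) :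
    stepOK r r' k ds = true := by
  have hfix : ∀ i, i < k + 1 → idx ((prodPerm ds * h) (bpt i)) = app ds (bix i) := fun i hi => by
    rw [Equiv.Perm.mul_apply, (mem_chain.mp hh).2 i hi, idx_prodPerm ds hds, idx_bix i (by omega)]
  have key : ∀ i j, i < k + 1 → j < k + 1 → fn r (bix i) = bix j →
      fn r' (app ds (bix i)) = app ds (bix j) := fun i j hi hj e => by
    have hmap : toPerm r (bpt i) = bpt j := idx_injective (by
      rw [idx_toPerm hr, idx_bix i (by omega), e, idx_bix j (by omega)])
    have e' := congrArg idx (Equiv.Perm.ext_iff.mp hc (bpt i))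
    rw [Equiv.Perm.mul_apply, Equiv.Perm.mul_apply (toPerm r'), hmap, idx_toPerm hr', hfix i hi,
      hfix j hj] at e'
    exact e'.symm
  simp only [stepOK, List.all_eq_true, List.mem_range, Bool.and_eq_true, Bool.or_eq_true,
    Bool.not_eq_true', beq_eq_false_iff_ne, ne_eq, beq_iff_eq]
  intro i hi
  exact ⟨Classical.or_iff_not_imp_left.mpr fun h => key i k hi (by omega) (not_not.mp h),
    Classical.or_iff_not_imp_left.mpr fun h => key k i (by omega) hi (not_not.mp h)⟩

theorem card_le_cnt (hr : validPerm r = true) (hr' : validPerm r' = true) :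
    ∀ j, j ≤ 7 → ∀ ds : List ℕ, (∀ d ∈ ds, isAut d = true) →
      Nat.card {h : Equiv.Perm GolayPt //
        h ∈ chain (7 - j) ∧ prodPerm ds * h * toPerm r = toPerm r' * (prodPerm ds * h)} ≤ cnt r r' j ds
  | 0, _, ds, hds => by
    classical
    by_cases hc : prodPerm ds * toPerm r = toPerm r' * prodPerm ds
    · rw [cnt, fullOK_of_conj hr hr' hds hc]
      refine Finite.card_le_one_iff_subsingleton.mpr ⟨fun a b => Subtype.ext ?_⟩
      have ha : a.1 = 1 := Subgroup.mem_bot.mp (chain_seven ▸ a.2.1)
      have hb : b.1 = 1 := Subgroup.mem_bot.mp (chain_seven ▸ b.2.1)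
      rw [ha, hb]
    · have : IsEmpty {h : Equiv.Perm GolayPt //
          h ∈ chain (7 - 0) ∧ prodPerm ds * h * toPerm r = toPerm r' * (prodPerm ds * h)} := ⟨fun a => by
        have ha : a.1 = 1 := Subgroup.mem_bot.mp (chain_seven ▸ a.2.1)
        exact hc (by simpa [ha] using a.2.2)⟩
      simp
  | j + 1, hj, ds, hds => by
    classical
    set k := 6 - j with hk
    have hk7 : k < 7 := by omega
    have e1 : 7 - (j + 1) = k := by omega
    have e2 : 7 - j = k + 1 := by omega
    set T := transTable.getD k [] with hT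
    have hTaut : ∀ d ∈ T, isAut d = true := fun d hd => by
      have h := levelCheck_all k hk7
      simp only [levelCheck, Bool.and_eq_true, List.all_eq_true] at h
      exact (h.1 d hd).1
    let S : ℕ → Finset (Equiv.Perm GolayPt) := fun d => Finset.univ.filter fun h =>
      h ∈ chain (k + 1) ∧ prodPerm (ds ++ [d]) * h * toPerm r = toPerm r' * (prodPerm (ds ++ [d]) * h)
    have hS : ∀ d ∈ T, (S d).card ≤
        bif stepOK r r' k (ds ++ [d]) then cnt r r' j (ds ++ [d]) else 0 := fun d hd => by
      have hds' : ∀ x ∈ ds ++ [d], isAut x = true := by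
        simp only [List.mem_append, List.mem_singleton]
        rintro x (hx | rfl)
        exacts [hds x hx, hTaut x hd]
      by_cases hok : stepOK r r' k (ds ++ [d]) = true
      · rw [hok, cond_true]
        refine le_trans (le_of_eq ?_) (card_le_cnt hr hr' j (by omega) _ hds')
        rw [e2, Nat.card_eq_fintype_card, Fintype.card_subtype]
      · rw [Bool.not_eq_true] at hok
        rw [hok, cond_false, Nat.le_zero, Finset.card_eq_zero, Finset.filter_eq_empty_iff]
        intro h _ hh
        rw [stepOK_of_conj hr hr' hk7 hds' hh.1 hh.2] at hok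
        exact Bool.noConfusion hok
    calc Nat.card {h : Equiv.Perm GolayPt //
          h ∈ chain (7 - (j + 1)) ∧ prodPerm ds * h * toPerm r = toPerm r' * (prodPerm ds * h)}
        ≤ (T.toFinset.biUnion fun d => (S d).image (toPerm d * ·)).card := by
          rw [Nat.card_eq_fintype_card, Fintype.card_subtype]
          refine Finset.card_le_card fun h hh => ?_
          rw [Finset.mem_filter, e1] at hh
          obtain ⟨d, hd, haut, hrest⟩ := exists_transversal_mem hk7 hh.2.1
          refine Finset.mem_biUnion.mpr ⟨d, List.mem_toFinset.mpr hd, Finset.mem_image.mpr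
            ⟨(toPerm d)⁻¹ * h, Finset.mem_filter.mpr ⟨Finset.mem_univ _, hrest, ?_⟩, by simp⟩⟩
          simpa [prodPerm_concat, mul_assoc] using hh.2.2
      _ ≤ ∑ d ∈ T.toFinset, ((S d).image (toPerm d * ·)).card := Finset.card_biUnion_le
      _ ≤ ∑ d ∈ T.toFinset, (bif stepOK r r' k (ds ++ [d]) then cnt r r' j (ds ++ [d]) else 0) :=
          Finset.sum_le_sum fun d hd => Finset.card_image_le.trans (hS d (List.mem_toFinset.mp hd))
      _ ≤ cnt r r' (j + 1) ds := by
          rw [cnt, ← hk, ← hT, Finset.sum_list_map_count]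
          refine Finset.sum_le_sum fun d hd => ?_
          rw [smul_eq_mul]
          exact Nat.le_mul_of_pos_left _ (List.count_pos_iff.mpr (List.mem_toFinset.mp hd))

theorem chain_one_eq : chain 1 = Spor.M23 := by
  have e : bpt 0 = (none : GolayPt) := by decide
  simp [chain, Spor.M23, e]

/-- The number of elements of `M23` conjugating `r` to `r'` is at most the count. -/
theorem card_conjugators_le (hr : validPerm r = true) (hr' : validPerm r' = true) :
    Nat.card {g : Equiv.Perm GolayPt // g ∈ Spor.M23 ∧ g * toPerm r = toPerm r' * g} ≤ cnt r r' 6 [] := by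
  refine le_trans (le_of_eq ?_) (card_le_cnt hr hr' 6 (by norm_num) [] (by simp))
  simp [prodPerm, chain_one_eq]

/-- The iterate of a coded permutation. -/
def iterCode (d : ℕ) : ℕ → ℕ → ℕ
  | 0, i => i
  | k + 1, i => fn d (iterCode d k i)

theorem idx_pow {d : ℕ} (hd : validPerm d = true) (k : ℕ) (p : GolayPt) :
    idx ((toPerm d ^ k) p) = iterCode d k (idx p) := by
  induction k with
  | zero => rfl
  | succ k ih => rw [pow_succ', Equiv.Perm.mul_apply, idx_toPerm hd, ih]; rfl

end Cfsg.Agent.Order10200960
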