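/-
The kernel check of the class representatives of `Cfsg.Spor.M23`.

Main results (namespace `Cfsg.Agent.Order10200960`): `repOK`, `reps_check`.
-/
import Cfsg.Agent.Lib.Order10200960.CountsData
import Cfsg.Agent.Lib.Order10200960.Search

set_option autoImplicit false
set_option maxRecDepth 100000

open Cfsg Cfsg.Agent.Golay

namespace Cfsg.Agent.Order10200960

/-- One class entry: codes valid, fixing the extra point, of the stated order, with the centraliser
bound, and not conjugate to the inverse when two classes are claimed. -/
def repOK : ℕ × ℕ × ℕ × ℕ × ℕ → Bool
  | (m, c, r, r', n) =>
    isAut r && fn r 23 == 23 && validPerm r' && ((List.range 24).all fun i => fn r' (fn r i) == i) &&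
      ((List.range 24).all fun i => iterCode r m i == i) &&
      ((List.range m).all fun k => k == 0 || (List.range 24).any fun i => iterCode r k i != i) &&
      decide (cnt r r 6 [] = c) && decide (0 < c) && decide (0 < m) &&
      (n == 1 || (n == 2 && decide (cnt r r' 6 [] = 0)))

theorem reps_check : reps.all repOK = true := by decide +kernel

end Cfsg.Agent.Order10200960
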