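/-
The numbers of elements of each order of `Cfsg.Spor.M23`.

Main results (namespace `Cfsg.Agent.Order10200960`): `natCard_m23'`, `countTable`, `numOrder_m23`,
`values_m23`.
-/
import Cfsg.Agent.Lib.Order10200960.CountsCheck
import Cfsg.Agent.Lib.Golay.Mathieu
import Cfsg.Agent.Lib.SameOrder.Basic
import Mathlib.GroupTheory.QuotientGroup.Basic

set_option autoImplicit false
set_option maxRecDepth 100000

open Cfsg Cfsg.Agent.Golay Cfsg.Agent.SameOrder

namespace Cfsg.Agent.Order10200960

/-- The numbers of elements of each order. -/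
def countTable : List (ℕ × ℕ) := (1, 1) :: reps.map fun t => (t.1, t.2.2.2.2 * (10200960 / t.2.1))

theorem countTable_eq : countTable = [(1, 1), (2, 3795), (3, 56672), (4, 318780), (5, 680064), (6, 850080),
    (7, 1457280), (8, 1275120), (11, 1854720), (14, 1457280), (15, 1360128), (23, 887040)] := by
  decide +kernel

theorem natCard_m23' : Nat.card ↥Spor.M23 = 10200960 := natCard_m23 (none : GolayPt)

/-- A lower bound on a class from a bound on the centraliser. -/
theorem class_card_lb {G : Type*} [Group G] [Finite G] (g : G) {c : ℕ}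
    (hc : Nat.card {x : G // x * g = g * x} ≤ c) (hpos : 0 < c) :
    Nat.card G / c ≤ Nat.card {x : G // IsConj g x} := by
  let C : Subgroup G := Subgroup.centralizer ({g} : Set G)
  have hC : Nat.card C ≤ c := by
    refine le_trans (le_of_eq (Nat.card_congr (Equiv.subtypeEquivRight fun x => ?_))) hc
    exact Subgroup.mem_centralizer_singleton_iff
  let φ : G ⧸ C → {x : G // IsConj g x} := fun q =>
    Quotient.liftOn' q (fun a => ⟨a * g * a⁻¹, isConj_iff.mpr ⟨a, rfl⟩⟩) fun a b hab => Subtype.ext (by
      rw [QuotientGroup.leftRel_apply, Subgroup.mem_centralizer_singleton_iff] at hab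
      calc a * g * a⁻¹ = a * (g * (a⁻¹ * b)) * b⁻¹ := by group
        _ = a * ((a⁻¹ * b) * g) * b⁻¹ := by rw [hab]
        _ = b * g * b⁻¹ := by group)
  have hφ : Function.Injective φ := by
    intro p q
    refine Quotient.inductionOn₂' p q fun a b h => Quotient.sound' ?_
    have h' : a * g * a⁻¹ = b * g * b⁻¹ := congrArg Subtype.val h
    rw [QuotientGroup.leftRel_apply, Subgroup.mem_centralizer_singleton_iff]
    calc a⁻¹ * b * g = a⁻¹ * (b * g * b⁻¹) * b := by group
      _ = a⁻¹ * (a * g * a⁻¹) * b := by rw [h']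
      _ = g * (a⁻¹ * b) := by group
  have h1 : C.index ≤ Nat.card {x : G // IsConj g x} := Nat.card_le_card_of_injective φ hφ
  refine le_trans ((Nat.div_le_iff_le_mul_add_pred hpos).mpr ?_) h1
  calc Nat.card G = Nat.card C * C.index := (Subgroup.card_mul_index C).symm
    _ ≤ c * C.index := Nat.mul_le_mul_right _ hC
    _ ≤ c * C.index + (c - 1) := Nat.le_add_right _ _

/-- The count of one table entry is a lower bound. -/
theorem count_lb {m c r r' n : ℕ} (h : repOK (m, c, r, r', n) = true) :
    n * (10200960 / c) ≤ numOrder ↥Spor.M23 m := by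
  classical
  simp only [repOK, Bool.and_eq_true, Bool.or_eq_true, List.all_eq_true, List.any_eq_true, List.mem_range,
    beq_iff_eq, bne_iff_ne, decide_eq_true_eq] at h
  obtain ⟨⟨⟨⟨⟨⟨⟨⟨⟨hr, h23⟩, hr'⟩, hinv⟩, hpow⟩, hmin⟩, hc⟩, hpos⟩, hm0⟩, hn⟩ := h
  have hv := validPerm_of_isAut hr
  have hmem : toPerm r ∈ Spor.M23 := by
    refine Subgroup.mem_inf.mpr ⟨toPerm_mem_M24 hr, MulAction.mem_stabilizer_iff.mpr (idx_injective ?_)⟩
    rw [Equiv.Perm.smul_def, idx_toPerm hv]
    exact h23
  set g : ↥Spor.M23 := ⟨toPerm r, hmem⟩ with hg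
  have hord : orderOf g = m := by
    refine (orderOf_eq_iff hm0).mpr ⟨Subtype.ext (Equiv.ext fun p => idx_injective ?_), fun k hk hk0 e => ?_⟩
    · rw [SubgroupClass.coe_pow, idx_pow hv]
      exact hpow _ (idx_lt p)
    · rcases hmin k hk with h0 | ⟨i, hi, hne⟩
      · omega
      · have e' := congrArg (fun x : ↥Spor.M23 => idx ((x : Equiv.Perm GolayPt) (pt i))) e
        simp only [SubgroupClass.coe_pow, OneMemClass.coe_one, Equiv.Perm.one_apply, hg] at e'
        rw [idx_pow hv, idx_pt hi] at e'
        exact hne e'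
  have hcent : Nat.card {x : ↥Spor.M23 // x * g = g * x} ≤ c := by
    rw [← hc]
    refine le_trans (Nat.card_le_card_of_injective
      (fun x => (⟨x.1.1, x.1.2, congrArg Subtype.val x.2⟩ :
        {y : Equiv.Perm GolayPt // y ∈ Spor.M23 ∧ y * toPerm r = toPerm r * y}))
      fun a b e => Subtype.ext (Subtype.ext (congrArg (fun y : {y : Equiv.Perm GolayPt //
          y ∈ Spor.M23 ∧ y * toPerm r = toPerm r * y} => (y : Equiv.Perm GolayPt)) e))) (card_conjugators_le hv hv)
  have hlb : ∀ x : ↥Spor.M23, IsConj g x → orderOf x = m := fun x hx => by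
    obtain ⟨u, rfl⟩ := isConj_iff.mp hx
    rw [← hord]
    exact orderOf_injective (MulAut.conj u).toMonoidHom (MulEquiv.injective _) g
  have h1 := class_card_lb g hcent hpos
  rw [natCard_m23'] at h1
  have hsub : Nat.card {x : ↥Spor.M23 // IsConj g x} ≤ numOrder ↥Spor.M23 m :=
    Nat.card_le_card_of_injective (fun x => (⟨x.1, hlb x.1 x.2⟩ : {y : ↥Spor.M23 // orderOf y = m}))
      fun a b e => Subtype.ext (congrArg (fun y : {y : ↥Spor.M23 // orderOf y = m} => (y : ↥Spor.M23)) e)
  rcases hn with rfl | ⟨rfl, hzero⟩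
  · rw [one_mul]; exact h1.trans hsub
  · have hgi : toPerm r' = (toPerm r)⁻¹ := by
      refine eq_inv_of_mul_eq_one_left (Equiv.ext fun p => idx_injective ?_)
      rw [Equiv.Perm.mul_apply, idx_toPerm hr', idx_toPerm hv, hinv _ (idx_lt p)]
      rfl
    have hnot : ¬ IsConj g g⁻¹ := fun hcj => by
      obtain ⟨u, hu⟩ := isConj_iff.mp hcj
      have hle := card_conjugators_le hv hr'
      rw [hzero, Nat.le_zero, Finite.card_eq_zero_iff] at hle
      refine hle.false ⟨u.1, u.2, ?_⟩
      have e : u.1 * toPerm r * u.1⁻¹ = (toPerm r)⁻¹ := congrArg Subtype.val hu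
      rw [hgi, ← e, inv_mul_cancel_right]
    have hci : Nat.card {x : ↥Spor.M23 // x * g⁻¹ = g⁻¹ * x} ≤ c :=
      le_trans (le_of_eq (Nat.card_congr (Equiv.subtypeEquivRight fun x => by
        constructor <;> intro h
        · have := congrArg (fun y => g * y * g) h; simpa [mul_assoc] using this.symm
        · have := congrArg (fun y => g⁻¹ * y * g⁻¹) h; simpa [mul_assoc] using this.symm))) hcent
    have h2 := class_card_lb g⁻¹ hci hpos
    rw [natCard_m23'] at h2
    have hinj : Function.Injective (Sum.elim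
        (fun x : {x : ↥Spor.M23 // IsConj g x} => (⟨x.1, hlb x.1 x.2⟩ : {y : ↥Spor.M23 // orderOf y = m}))
        (fun x : {x : ↥Spor.M23 // IsConj g⁻¹ x} => (⟨x.1, by
          obtain ⟨u, hu⟩ := isConj_iff.mp x.2
          rw [← hu, ← hord, ← orderOf_inv g]
          exact orderOf_injective (MulAut.conj u).toMonoidHom (MulEquiv.injective _) g⁻¹⟩))) := by
      refine Function.Injective.sumElim ?_ ?_ fun a b e => ?_
      · exact fun a b e => Subtype.ext (congrArg (fun y : {y : ↥Spor.M23 // orderOf y = m} => (y : ↥Spor.M23)) e)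
      · exact fun a b e => Subtype.ext (congrArg (fun y : {y : ↥Spor.M23 // orderOf y = m} => (y : ↥Spor.M23)) e)
      · have e' : a.1 = b.1 := congrArg (fun y : {y : ↥Spor.M23 // orderOf y = m} => (y : ↥Spor.M23)) e
        exact hnot (a.2.trans (e' ▸ b.2.symm))
    have h3 := Nat.card_le_card_of_injective _ hinj
    rw [Nat.card_sum] at h3
    calc 2 * (10200960 / c) ≤ Nat.card {x : ↥Spor.M23 // IsConj g x} + Nat.card {x : ↥Spor.M23 // IsConj g⁻¹ x} := by
          omega
      _ ≤ _ := h3

theorem count_table_lb : ∀ e ∈ countTable, e.2 ≤ numOrder ↥Spor.M23 e.1 := by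
  simp only [countTable, List.mem_cons, List.mem_map]
  rintro e (rfl | ⟨t, ht, rfl⟩)
  · exact (numOrder_one (G := ↥Spor.M23)).ge
  · exact count_lb (List.all_eq_true.mp reps_check t ht)

/-- The numbers of elements of different orders add up to at most the order. -/
theorem sum_numOrder_le (G : Type*) [Group G] [Finite G] (K : Finset ℕ) :
    ∑ k ∈ K, numOrder G k ≤ Nat.card G := by
  classical
  have := Fintype.ofFinite G
  simp only [numOrder, Nat.card_eq_fintype_card, Fintype.card_subtype]
  refine le_trans (le_of_eq (Finset.card_biUnion ?_).symm) (Finset.card_le_univ _)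
  exact fun x _ y _ hxy => Finset.disjoint_filter.mpr fun g _ h1 h2 => hxy (h1.symm.trans h2)

/-- The numbers of elements of each order of `M23`. -/
theorem numOrder_m23 (m : ℕ) : numOrder ↥Spor.M23 m = (countTable.lookup m).getD 0 := by
  classical
  have := Fintype.ofFinite ↥Spor.M23
  set f := fun m => numOrder ↥Spor.M23 m with hf
  set b := fun m => (countTable.lookup m).getD 0 with hb
  have hle : ∀ k, b k ≤ f k := fun k => by
    simp only [hb]
    cases h : countTable.lookup k with
    | none => exact Nat.zero_le _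
    | some v =>
      obtain ⟨e, he, hk, hv⟩ : ∃ e ∈ countTable, e.1 = k ∧ e.2 = v := by
        obtain ⟨_, _, heq, -⟩ := List.lookup_eq_some_iff.mp h
        exact ⟨(k, v), by rw [heq]; simp, rfl, rfl⟩
      subst hk hv
      exact count_table_lb e he
  by_contra hne
  have hlt : b m < f m := lt_of_le_of_ne (hle m) (Ne.symm hne)
  set K : Finset ℕ := insert m (countTable.map Prod.fst).toFinset with hK
  have hsum : ∑ k ∈ K, f k ≤ 10200960 := natCard_m23' ▸ sum_numOrder_le ↥Spor.M23 K
  have hb' : ∑ k ∈ K, b k = 10200960 := by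
    rw [← Finset.sum_subset (Finset.subset_insert m _) (fun k _ hk => ?_)]
    · simp only [hb, countTable_eq]
      decide +kernel
    · simp only [hb]
      cases h : countTable.lookup k with
      | none => rfl
      | some v =>
        obtain ⟨_, _, heq, -⟩ := List.lookup_eq_some_iff.mp h
        exact absurd (List.mem_toFinset.mpr (by rw [heq]; simp)) hk
  have := Finset.sum_lt_sum (s := K) (fun k _ => hle k) ⟨m, hK ▸ Finset.mem_insert_self m _, hlt⟩
  change ∑ k ∈ K, b k < ∑ k ∈ K, f k at this
  omega

/-- The values taken by the numbers of elements of each order. -/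
def valueList : List ℕ :=
  [1, 3795, 56672, 318780, 680064, 850080, 1457280, 1275120, 1854720, 1360128, 887040]

theorem values_m23 :
    {c : ℕ | 0 < c ∧ ∃ n : ℕ, c = Nat.card {g : ↥Spor.M23 // orderOf g = n}} = {c | c ∈ valueList} := by
  ext c
  constructor
  · rintro ⟨hc, n, rfl⟩
    have h := numOrder_m23 n
    rw [numOrder] at h
    rw [Set.mem_ofPred_eq, h]
    cases hl : countTable.lookup n with
    | none => rw [hl] at h; simp [h] at hc
    | some v =>
      obtain ⟨l₁, l₂, heq, -⟩ := List.lookup_eq_some_iff.mp hl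
      have hmem : (n, v) ∈ countTable := by rw [heq]; simp
      rw [countTable_eq] at hmem
      simp only [List.mem_cons, Prod.mk.injEq, List.not_mem_nil, or_false] at hmem
      rcases hmem with h | h | h | h | h | h | h | h | h | h | h | h <;> simp [valueList, h.2]
  · intro hc
    have key : ∀ n v, (countTable.lookup n).getD 0 = v → Nat.card {g : ↥Spor.M23 // orderOf g = n} = v :=
      fun n v h => (numOrder_m23 n).trans h
    simp only [Set.mem_ofPred_eq, valueList, List.mem_cons, List.not_mem_nil, or_false] at hc ⊢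
    rcases hc with rfl | rfl | rfl | rfl | rfl | rfl | rfl | rfl | rfl | rfl | rfl
    exacts [⟨by norm_num, 1, (key 1 _ (by decide +kernel)).symm⟩,
      ⟨by norm_num, 2, (key 2 _ (by decide +kernel)).symm⟩,
      ⟨by norm_num, 3, (key 3 _ (by decide +kernel)).symm⟩,
      ⟨by norm_num, 4, (key 4 _ (by decide +kernel)).symm⟩,
      ⟨by norm_num, 5, (key 5 _ (by decide +kernel)).symm⟩,
      ⟨by norm_num, 6, (key 6 _ (by decide +kernel)).symm⟩,
      ⟨by norm_num, 7, (key 7 _ (by decide +kernel)).symm⟩,
      ⟨by norm_num, 8, (key 8 _ (by decide +kernel)).symm⟩,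
      ⟨by norm_num, 11, (key 11 _ (by decide +kernel)).symm⟩,
      ⟨by norm_num, 15, (key 15 _ (by decide +kernel)).symm⟩,
      ⟨by norm_num, 23, (key 23 _ (by decide +kernel)).symm⟩]

end Cfsg.Agent.Order10200960
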