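/-
The local data used to identify a group of order 10200960 with `Cfsg.Spor.M23`, and general tools.

Main results (namespace `Cfsg.Agent.Order10200960`): `LocalData`, `prime_data`, `exists_conj_zpowers`,
`card_centralizer_conj`, `numOrder_mul`.
-/
import Cfsg.Agent.Lib.Order95040.Tools
import Cfsg.Agent.Lib.SmallOrders.Centralizer
import Cfsg.Agent.Lib.SameOrder.Basic

set_option autoImplicit false

open Subgroup

namespace Cfsg.Agent.Order10200960

open SmallOrders SameOrder

variable {G : Type*} [Group G]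

/-- The normaliser of the subgroup generated by `g`. -/
abbrev nrm (g : G) : Subgroup G := normalizer ((zpowers g : Subgroup G) : Set G)

/-- The centraliser of `g`. -/
abbrev cnt1 (g : G) : Subgroup G := centralizer ({g} : Set G)

/-- The facts on a group of order 10200960 used for the identification. -/
structure LocalData (G : Type*) [Group G] : Prop where
  card : Nat.card G = 10200960
  cent_five : ∀ g : G, orderOf g = 5 → Nat.card (cnt1 g) = 15
  norm_five : ∀ g : G, orderOf g = 5 → Nat.card (nrm g) = 60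
  cent_seven : ∀ g : G, orderOf g = 7 → Nat.card (cnt1 g) = 14
  norm_seven : ∀ g : G, orderOf g = 7 → Nat.card (nrm g) = 42
  cent_eleven : ∀ g : G, orderOf g = 11 → Nat.card (cnt1 g) = 11
  norm_eleven : ∀ g : G, orderOf g = 11 → Nat.card (nrm g) = 55
  cent_twentythree : ∀ g : G, orderOf g = 23 → Nat.card (cnt1 g) = 23
  norm_twentythree : ∀ g : G, orderOf g = 23 → Nat.card (nrm g) = 253
  conj_invol : ∀ s t : G, orderOf s = 2 → orderOf t = 2 → IsConj s t
  cent_invol : ∀ t : G, orderOf t = 2 → Nat.card (cnt1 t) = 2688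

theorem cnt1_le_nrm (g : G) : cnt1 g ≤ nrm g := by
  rw [cnt1, ← centralizer_zpowers]
  exact centralizer_le_normalizer _

theorem card_centralizer_conj {x : G} (u : G) :
    Nat.card (cnt1 (u * x * u⁻¹)) = Nat.card (cnt1 x) := by
  have e : (cnt1 x).map (MulAut.conj u).toMonoidHom = cnt1 (u * x * u⁻¹) := by
    ext y
    rw [mem_map_equiv, MulAut.conj_symm_apply, mem_centralizer_singleton_iff, mem_centralizer_singleton_iff]
    constructor <;> intro h
    · calc y * (u * x * u⁻¹) = u * (u⁻¹ * y * u * x) * u⁻¹ := by group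
        _ = u * (x * (u⁻¹ * y * u)) * u⁻¹ := by rw [h]
        _ = u * x * u⁻¹ * y := by group
    · calc u⁻¹ * y * u * x = u⁻¹ * (y * (u * x * u⁻¹)) * u := by group
        _ = u⁻¹ * (u * x * u⁻¹ * y) * u := by rw [h]
        _ = x * (u⁻¹ * y * u) := by group
  rw [← e]
  exact Nat.card_congr ((cnt1 x).equivMapOfInjective _ (MulEquiv.injective _)).toEquiv.symm

variable [Finite G]

/-- Subgroups of a prime order dividing the group order once are conjugate. -/
theorem exists_conj_zpowers {p : ℕ} [Fact p.Prime] (hq : ∀ Q : Sylow p G, Nat.card (Q : Subgroup G) = p)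
    {a b : G} (ha : orderOf a = p) (hb : orderOf b = p) :
    ∃ u : G, (zpowers (u * a * u⁻¹) : Subgroup G) = zpowers b := by
  obtain ⟨P, hP⟩ := exists_sylow_eq_zpowers hq ha
  obtain ⟨Q, hQ⟩ := exists_sylow_eq_zpowers hq hb
  obtain ⟨u, hu⟩ := MulAction.exists_smul_eq G P Q
  refine ⟨u, ?_⟩
  have h := congrArg (fun R : Sylow p G => (R : Subgroup G)) hu
  simp only [Sylow.coe_subgroup_smul] at h
  rw [← hQ, ← h, hP, ← MulAut.conj_apply]
  exact (MonoidHom.map_zpowers (MulAut.conj u).toMonoidHom a).symm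

theorem card_centralizer_const {p : ℕ} [Fact p.Prime] (hq : ∀ Q : Sylow p G, Nat.card (Q : Subgroup G) = p)
    {a b : G} (ha : orderOf a = p) (hb : orderOf b = p) :
    ∃ u : G, cnt1 (u * a * u⁻¹) = cnt1 b := by
  obtain ⟨u, hu⟩ := exists_conj_zpowers hq ha hb
  exact ⟨u, by rw [cnt1, cnt1, ← centralizer_zpowers, ← centralizer_zpowers, hu]⟩

/-- Sylow data at a prime dividing the order once. -/
theorem prime_data {p m : ℕ} [Fact p.Prime] (h : Nat.card G = p ^ 1 * m) (hm : ¬ p ∣ m) {a : G}
    (ha : orderOf a = p) :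
    Nat.card (nrm a) * numOrder G p = Nat.card G * (p - 1) ∧ p ∣ Nat.card (cnt1 a) ∧
      Nat.card (cnt1 a) ∣ Nat.card (nrm a) := by
  have hq : ∀ Q : Sylow p G, Nat.card (Q : Subgroup G) = p := fun Q => by
    rw [card_sylow_subgroup h hm Q, pow_one]
  obtain ⟨P, hP⟩ := exists_sylow_eq_zpowers hq ha
  have hN := card_normalizer_mul_card_sylow P
  rw [hP] at hN
  refine ⟨?_, ?_, card_dvd_of_le (cnt1_le_nrm a)⟩
  · rw [numOrder, card_orderOf_eq_prime hq, ← mul_assoc, hN]
  · have := card_dvd_of_le (zpowers_le_centralizer a)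
    rwa [Nat.card_zpowers, ha] at this

/-- The number of elements of order `p * q` through commuting pairs. -/
theorem numOrder_mul {p q k : ℕ} (hpq : Nat.Coprime p q) (hp : p ≠ 0) (hq : q ≠ 0)
    (hk : ∀ a : G, orderOf a = p → Nat.card {b : G // orderOf b = q ∧ a * b = b * a} = k) :
    numOrder G (p * q) = numOrder G p * k := by
  classical
  have := Fintype.ofFinite G
  let f : (Σ a : {a : G // orderOf a = p}, {b : G // orderOf b = q ∧ a.1 * b = b * a.1}) →
      {g : G // orderOf g = p * q} := fun s => ⟨s.1.1 * s.2.1, by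
    rw [Commute.orderOf_mul_eq_mul_orderOf_of_coprime s.2.2.2 (by rw [s.1.2, s.2.2.1]; exact hpq), s.1.2,
      s.2.2.1]⟩
  have hf : Function.Bijective f := by
    constructor
    · rintro ⟨⟨a, ha⟩, b, hb, hab⟩ ⟨⟨a', ha'⟩, b', hb', hab'⟩ h
      have h' : a * b = a' * b' := congrArg Subtype.val h
      dsimp only at hab hab'
      have e := congrArg (fun g => g ^ q) h'
      simp only [Commute.mul_pow hab, Commute.mul_pow hab'] at e
      rw [← hb, pow_orderOf_eq_one, hb, ← hb', pow_orderOf_eq_one, hb', mul_one, mul_one] at e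
      have haa : a = a' := by
        obtain ⟨v, hv⟩ := exists_pow_eq_self_of_coprime (n := q) (x := a)
          (by rw [ha]; exact hpq.symm)
        obtain ⟨v', hv'⟩ := exists_pow_eq_self_of_coprime (n := q) (x := a')
          (by rw [ha']; exact hpq.symm)
        have key : ∀ x : G, orderOf x = p → ∀ w, (x ^ q) ^ w = x → q * w % p = 1 % p := fun x hx w hw => by
          rw [← pow_mul] at hw
          have := pow_eq_pow_iff_modEq.mp (hw.trans (pow_one x).symm)
          rwa [hx] at this
        rw [← hv, e, ← pow_mul]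
        refine (pow_eq_pow_iff_modEq.mpr ?_).trans (pow_one a')
        rw [ha']
        exact key a ha v hv
      subst haa
      obtain rfl : b = b' := mul_left_cancel h'
      rfl
    · rintro ⟨g, hg⟩
      obtain ⟨u, v, huv⟩ := Int.isCoprime_iff_gcd_eq_one.mpr (show Int.gcd (p : ℤ) (q : ℤ) = 1 by
        rw [Int.gcd_natCast_natCast]; exact hpq)
      obtain ⟨a, b, hab, he, hap, hbq⟩ : ∃ a b : G, Commute a b ∧ a * b = g ∧ a ^ p = 1 ∧ b ^ q = 1 := by
        have hpow : g ^ ((p : ℤ) * q) = 1 := by
          rw [← Nat.cast_mul, zpow_natCast, ← hg, pow_orderOf_eq_one]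
        refine ⟨g ^ (v * q), g ^ (u * p), (Commute.refl g).zpow_zpow _ _, ?_, ?_, ?_⟩
        · rw [← zpow_add, show v * (q : ℤ) + u * p = 1 by rw [add_comm]; exact huv, zpow_one]
        · rw [← zpow_natCast, ← zpow_mul, show v * (q : ℤ) * p = ((p : ℤ) * q) * v by ring, zpow_mul, hpow, one_zpow]
        · rw [← zpow_natCast, ← zpow_mul, show u * (p : ℤ) * q = ((p : ℤ) * q) * u by ring, zpow_mul, hpow, one_zpow]
      have h1 := orderOf_dvd_of_pow_eq_one hap
      have h2 := orderOf_dvd_of_pow_eq_one hbq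
      have hmul : orderOf a * orderOf b = p * q := by
        rw [← Commute.orderOf_mul_eq_mul_orderOf_of_coprime hab
          (Nat.Coprime.coprime_dvd_left h1 (Nat.Coprime.coprime_dvd_right h2 hpq)), he, hg]
      have ha1 : orderOf a = p := by
        refine Nat.dvd_antisymm h1 ((Nat.Coprime.coprime_dvd_right h2 hpq).dvd_of_dvd_mul_right ?_)
        exact hmul ▸ dvd_mul_right p q
      have hb1 : orderOf b = q := Nat.eq_of_mul_eq_mul_left (Nat.pos_of_ne_zero hp) (by rw [← hmul, ha1])
      exact ⟨⟨⟨a, ha1⟩, b, hb1, hab⟩, Subtype.ext he⟩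
  show Nat.card {g : G // orderOf g = p * q} = _
  rw [← Nat.card_congr (Equiv.ofBijective f hf), Nat.card_sigma,
    Finset.sum_congr rfl (fun a _ => hk a.1 a.2), Finset.sum_const, smul_eq_mul, Finset.card_univ,
    ← Nat.card_eq_fintype_card]

/-- Being conjugate to subgroups of one centraliser, the numbers of commuting elements of one order agree. -/
theorem commuting_const {p q : ℕ} [Fact p.Prime] (hq : ∀ Q : Sylow p G, Nat.card (Q : Subgroup G) = p)
    {a b : G} (ha : orderOf a = p) (hb : orderOf b = p) :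
    Nat.card {y : G // orderOf y = q ∧ a * y = y * a} = Nat.card {y : G // orderOf y = q ∧ b * y = y * b} := by
  obtain ⟨u, hu⟩ := card_centralizer_const hq ha hb
  refine Nat.card_congr (Equiv.subtypeEquiv (MulAut.conj u).toEquiv fun y => ?_)
  have ho : orderOf (u * y * u⁻¹) = orderOf y :=
    orderOf_injective (MulAut.conj u).toMonoidHom (MulEquiv.injective _) y
  have h2 : u * y * u⁻¹ ∈ cnt1 (u * a * u⁻¹) ↔ a * y = y * a := by
    rw [mem_centralizer_singleton_iff]
    constructor <;> intro h
    · have := congrArg (fun z => u⁻¹ * z * u) h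
      simpa [mul_assoc] using this.symm
    · have := congrArg (fun z => u * z * u⁻¹) h
      simpa [mul_assoc] using this.symm
  rw [hu, mem_centralizer_singleton_iff] at h2
  simp only [MulEquiv.toEquiv_eq_coe, EquivLike.coe_coe, MulAut.conj_apply, ho]
  rw [← h2]
  exact and_congr_right fun _ => eq_comm

end Cfsg.Agent.Order10200960
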