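/-
Tools on Sylow subgroups of prime order inside subgroups.

Main results (namespace `Cfsg.Agent.Order10200960`): `sub_inf_normalizer_mul`, `exists_conj_in`,
`invol_unique`, `conj_eq_or_inv`.
-/
import Cfsg.Agent.Lib.Order10200960.Data
import Mathlib.GroupTheory.SpecificGroups.Cyclic

set_option autoImplicit false

open Subgroup

namespace Cfsg.Agent.Order10200960

open SmallOrders

variable {G : Type*} [Group G] [Finite G]

/-- The Sylow count inside a subgroup whose order a prime divides once. -/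
theorem sub_inf_normalizer_mul {p : ℕ} [Fact p.Prime] {a : G} (ha : orderOf a = p) (M : Subgroup G)
    (hp2 : ¬ p ^ 2 ∣ Nat.card M) (haM : a ∈ M) :
    ∃ m, Nat.card ↥(M ⊓ nrm a) * m = Nat.card M ∧ m % p = 1 ∧ Nat.card (Sylow p M) = m := by
  set a' : M := ⟨a, haM⟩
  have ha' : orderOf a' = p := by rw [Subgroup.orderOf_mk, ha]
  have hfac : ∀ Q : Sylow p M, Nat.card (Q : Subgroup M) = p := by
    intro Q
    obtain ⟨k, hk⟩ := Q.isPGroup'.exists_card_eq
    have h1 : Nat.card (Q : Subgroup M) ∣ Nat.card M := card_subgroup_dvd_card _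
    have h2 : p ∣ Nat.card (Q : Subgroup M) := Q.dvd_card_of_dvd_card (ha' ▸ orderOf_dvd_natCard a')
    rw [hk] at h1 h2 ⊢
    have hk0 : k ≠ 0 := fun h0 => (Fact.out : p.Prime).ne_one (by simpa [h0] using h2)
    have : k < 2 := by
      by_contra hk2
      exact hp2 ((pow_dvd_pow p (by omega)).trans h1)
    rw [show k = 1 by omega, pow_one]
  obtain ⟨P, hP⟩ := exists_sylow_eq_zpowers hfac ha'
  refine ⟨_, ?_, Eq.trans (card_sylow_modEq_one p M) (Nat.one_mod_eq_one.mpr
    (Fact.out : p.Prime).ne_one), rfl⟩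
  rw [← card_normalizer_mul_card_sylow P, hP]
  congr 1
  refine Nat.card_congr
    { toFun := fun g => ⟨⟨g.1, g.2.1⟩, ?_⟩
      invFun := fun g => ⟨g.1.1, g.1.2, ?_⟩
      left_inv := fun g => rfl
      right_inv := fun g => rfl }
  · rw [mem_normalizer_iff]
    intro u
    have h := mem_normalizer_iff.mp g.2.2 (u : G)
    simp only [mem_zpowers_iff] at h ⊢
    constructor
    · rintro ⟨i, hi⟩
      obtain ⟨j, hj⟩ := h.mp ⟨i, by rw [← hi]; simp [a']⟩
      exact ⟨j, Subtype.ext (by simpa [a'] using hj)⟩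
    · rintro ⟨i, hi⟩
      obtain ⟨j, hj⟩ := h.mpr ⟨i, by simpa [a'] using congrArg Subtype.val hi⟩
      exact ⟨j, Subtype.ext (by simpa [a'] using hj)⟩
  · refine mem_normalizer_fintype fun u hu => ?_
    obtain ⟨i, rfl⟩ := mem_zpowers_iff.mp hu
    have h := (mem_normalizer_iff.mp g.2 (a' ^ i)).mp (zpow_mem (mem_zpowers a') i)
    obtain ⟨j, hj⟩ := mem_zpowers_iff.mp h
    exact mem_zpowers_iff.mpr ⟨j, by simpa [a'] using congrArg Subtype.val hj⟩

/-- Subgroups of prime order are conjugate inside a subgroup whose order the prime divides once. -/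
theorem exists_conj_in {p : ℕ} [Fact p.Prime] {M : Subgroup G} (hp2 : ¬ p ^ 2 ∣ Nat.card M) {a b : G}
    (ha : orderOf a = p) (hb : orderOf b = p) (haM : a ∈ M) (hbM : b ∈ M) :
    ∃ u ∈ M, (zpowers (u * a * u⁻¹) : Subgroup G) = zpowers b := by
  have hfac : ∀ Q : Sylow p M, Nat.card (Q : Subgroup M) = p := by
    intro Q
    obtain ⟨k, hk⟩ := Q.isPGroup'.exists_card_eq
    have h2 : p ∣ Nat.card (Q : Subgroup M) := Q.dvd_card_of_dvd_card
      ((by rw [orderOf_mk, ha] : orderOf (⟨a, haM⟩ : M) = p) ▸ orderOf_dvd_natCard _)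
    have h1 := card_subgroup_dvd_card (Q : Subgroup M)
    rw [hk] at h1 h2 ⊢
    have hk0 : k ≠ 0 := fun h0 => (Fact.out : p.Prime).ne_one (by simpa [h0] using h2)
    have : k < 2 := by
      by_contra hk2
      exact hp2 ((pow_dvd_pow p (by omega)).trans h1)
    rw [show k = 1 by omega, pow_one]
  obtain ⟨u, hu⟩ := exists_conj_zpowers hfac (a := (⟨a, haM⟩ : M)) (b := ⟨b, hbM⟩)
    (by rw [orderOf_mk, ha]) (by rw [orderOf_mk, hb])
  refine ⟨u.1, u.2, ?_⟩
  have h := congrArg (Subgroup.map M.subtype) hu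
  rwa [MonoidHom.map_zpowers, MonoidHom.map_zpowers] at h

/-- A conjugate of an element of order three inside its cyclic subgroup. -/
theorem conj_eq_or_inv {x g : G} (hx : orderOf x = 3) (h : g * x * g⁻¹ ∈ zpowers x) :
    g * x * g⁻¹ = x ∨ g * x * g⁻¹ = x⁻¹ := by
  obtain ⟨k, hk⟩ := (mem_powers_iff_mem_zpowers.mpr h)
  change x ^ k = _ at hk
  rw [← hk, ← pow_mod_orderOf, hx]
  have h3 : k % 3 < 3 := Nat.mod_lt _ (by norm_num)
  interval_cases hk' : k % 3
  · exfalso
    have e : g * x * g⁻¹ = 1 := by rw [← hk, ← pow_mod_orderOf, hx, hk', pow_zero]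
    have h1 : x = 1 := by simpa [mul_assoc] using congrArg (fun z => g⁻¹ * z * g) e
    rw [h1, orderOf_one] at hx
    omega
  · exact Or.inl (pow_one x)
  · right
    refine eq_inv_of_mul_eq_one_left ?_
    rw [← pow_succ, show 2 + 1 = orderOf x by rw [hx], pow_orderOf_eq_one]

variable (D : LocalData G)
include D

/-- An element of order seven commutes with one involution only. -/
theorem invol_unique {a u v : G} (ha : orderOf a = 7) (hu : orderOf u = 2) (hv : orderOf v = 2)
    (hua : u * a = a * u) (hva : v * a = a * v) : u = v := by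
  classical
  have := Fintype.ofFinite (cnt1 a)
  have hcyc : IsCyclic (cnt1 a) := by
    refine isCyclic_of_orderOf_eq_card
      ⟨a * u, (cnt1 a).mul_mem (mem_centralizer_singleton_iff.mpr rfl) (mem_centralizer_singleton_iff.mpr hua)⟩ ?_
    rw [orderOf_mk, D.cent_seven a ha,
      Commute.orderOf_mul_eq_mul_orderOf_of_coprime (show Commute a u from hua.symm) (by rw [ha, hu]; norm_num), ha, hu]
  by_contra hne
  have hle := IsCyclic.card_pow_eq_one_le (α := cnt1 a) (n := 2) two_pos
  have hsub : ({1, ⟨u, mem_centralizer_singleton_iff.mpr hua⟩, ⟨v, mem_centralizer_singleton_iff.mpr hva⟩} :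
      Finset (cnt1 a)) ⊆ Finset.univ.filter fun z => z ^ 2 = 1 := by
    intro z hz
    rw [Finset.mem_filter]
    refine ⟨Finset.mem_univ _, ?_⟩
    simp only [Finset.mem_insert, Finset.mem_singleton] at hz
    rcases hz with rfl | rfl | rfl
    · exact one_pow 2
    · exact Subtype.ext (by rw [SubgroupClass.coe_pow, ← hu, pow_orderOf_eq_one]; rfl)
    · exact Subtype.ext (by rw [SubgroupClass.coe_pow, ← hv, pow_orderOf_eq_one]; rfl)
  have h3 := (Finset.card_le_card hsub).trans hle
  have hu1 : u ≠ 1 := fun e => by rw [e, orderOf_one] at hu; omega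
  have hv1 : v ≠ 1 := fun e => by rw [e, orderOf_one] at hv; omega
  rw [Finset.card_insert_of_notMem, Finset.card_pair] at h3
  · omega
  · exact fun e => hne (congrArg Subtype.val e)
  · simp only [Finset.mem_insert, Finset.mem_singleton, not_or]
    exact ⟨fun e => hu1 (congrArg Subtype.val e).symm, fun e => hv1 (congrArg Subtype.val e).symm⟩

end Cfsg.Agent.Order10200960
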