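/-
Elements of order three centralising an involution, in a group with the local data of `M₂₃`.

Main results (namespace `Cfsg.Agent.Order10200960`): `seven_norm_le`, `no_three_seven`, `card_sylow_seven`,
`pair_conj`, `pair_card`, `three_cent_card`, `three_norm_card`.
-/
import Cfsg.Agent.Lib.Order10200960.Tools
import Cfsg.Agent.Lib.Cores.Basic
import Mathlib.GroupTheory.Transfer

set_option autoImplicit false

open Subgroup Cfsg Cfsg.Agent

namespace Cfsg.Agent.Order10200960

open SmallOrders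

variable {G : Type*} [Group G] [Finite G] (D : LocalData G)
include D

/-- An element of order three does not commute with one of order seven. -/
theorem no_three_seven {x a : G} (hx : orderOf x = 3) (ha : orderOf a = 7) : x * a ≠ a * x := fun h => by
  have := orderOf_dvd_of_centralizer (D.cent_seven a ha) h
  rw [hx] at this
  norm_num at this

theorem exists_seven {t : G} (ht : orderOf t = 2) : ∃ a, orderOf a = 7 ∧ t * a = a * t := by
  have : Fact (Nat.Prime 7) := ⟨by norm_num⟩
  obtain ⟨a, ha⟩ := exists_prime_orderOf_dvd_card' (G := cnt1 t) 7 (by rw [D.cent_invol t ht]; norm_num)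
  exact ⟨a, by rw [orderOf_coe, ha], (mem_centralizer_singleton_iff.mp a.2).symm⟩

theorem seven_norm_le {t a : G} (ht : orderOf t = 2) (ha : orderOf a = 7) (hta : t * a = a * t) :
    nrm a ≤ cnt1 t := by
  intro w hw
  have hc : w * t * w⁻¹ ∈ cnt1 a := by
    obtain ⟨i, hi⟩ := mem_zpowers_iff.mp ((mem_normalizer_iff.mp (inv_mem hw) a).mp (mem_zpowers a))
    rw [mem_centralizer_singleton_iff]
    have h1 : a = w * a ^ i * w⁻¹ := by rw [hi]; group
    have h2 : t * a ^ i = a ^ i * t := (Commute.zpow_right hta i).eq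
    calc w * t * w⁻¹ * a = w * t * w⁻¹ * (w * a ^ i * w⁻¹) := by rw [← h1]
      _ = w * (t * a ^ i) * w⁻¹ := by group
      _ = w * a ^ i * w⁻¹ * (w * t * w⁻¹) := by rw [h2]; group
      _ = a * (w * t * w⁻¹) := by rw [← h1]
  have e : w * t * w⁻¹ = t := invol_unique D ha
    ((orderOf_injective (MulAut.conj w).toMonoidHom (MulEquiv.injective _) t).trans ht) ht
    (mem_centralizer_singleton_iff.mp hc) hta
  rw [mem_centralizer_singleton_iff]
  exact mul_inv_eq_iff_eq_mul.mp e

theorem card_sylow_seven {t : G} (ht : orderOf t = 2) : Nat.card (Sylow 7 (cnt1 t)) = 64 := by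
  have : Fact (Nat.Prime 7) := ⟨by norm_num⟩
  obtain ⟨a, ha, hta⟩ := exists_seven D ht
  obtain ⟨m, hm, -, hS⟩ := sub_inf_normalizer_mul ha (cnt1 t) (by rw [D.cent_invol t ht]; norm_num)
    (mem_centralizer_singleton_iff.mpr hta.symm)
  rw [inf_eq_right.mpr (seven_norm_le D ht ha hta), D.norm_seven a ha, D.cent_invol t ht] at hm
  omega

/-- An element of order three centralising an involution and an element of order five. -/
theorem exists_pair : ∃ b x u : G, orderOf b = 5 ∧ orderOf x = 3 ∧ orderOf u = 2 ∧ x * u = u * x ∧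
    x * b = b * x ∧ (Nat.card ↥(nrm b ⊓ cnt1 x) = 30 ∨ Nat.card ↥(nrm b ⊓ cnt1 x) = 60) := by
  classical
  have : Fact (Nat.Prime 5) := ⟨by norm_num⟩
  have : Fact (Nat.Prime 3) := ⟨by norm_num⟩
  have : Fact (Nat.Prime 2) := ⟨by norm_num⟩
  obtain ⟨b, hb⟩ := exists_prime_orderOf_dvd_card' (G := G) 5 (by rw [D.card]; norm_num)
  obtain ⟨x', hx'⟩ := exists_prime_orderOf_dvd_card' (G := cnt1 b) 3 (by rw [D.cent_five b hb]; norm_num)
  set x : G := x'.1 with hxdef
  have hx : orderOf x = 3 := by rw [hxdef, orderOf_coe, hx']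
  have hxb : x * b = b * x := mem_centralizer_singleton_iff.mp x'.2
  -- the elements of order three of the centraliser
  have honly : ∀ z ∈ cnt1 b, orderOf z = 3 → z ∈ zpowers x := fun z hz hz3 => by
    have hu : Nat.card (Sylow 3 (cnt1 b)) = 1 := by
      have hfac : Nat.card (cnt1 b) = 3 ^ 1 * 5 := by rw [D.cent_five b hb]; norm_num
      obtain ⟨P⟩ := (inferInstance : Nonempty (Sylow 3 (cnt1 b)))
      have h1 : Nat.card (Sylow 3 (cnt1 b)) ∣ 5 := index_sylow hfac (by norm_num) P ▸ P.card_dvd_index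
      have h2 : Nat.card (Sylow 3 (cnt1 b)) % 3 = 1 :=
        Eq.trans (card_sylow_modEq_one 3 _) (by norm_num)
      rcases (Nat.dvd_prime (by norm_num)).mp h1 with h | h
      · exact h
      · omega
    have hmem := Order95040.mem_zpowers_of_unique (q := 3) (fun Q => by
      rw [card_sylow_subgroup (m := 5) (e := 1) (by rw [D.cent_five b hb]; norm_num) (by norm_num) Q, pow_one])
      hu hx' (show orderOf (⟨z, hz⟩ : cnt1 b) = 3 by rw [orderOf_mk, hz3])
    obtain ⟨i, hi⟩ := mem_zpowers_iff.mp hmem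
    exact mem_zpowers_iff.mpr ⟨i, by simpa [hxdef] using congrArg Subtype.val hi⟩
  have hsign : ∀ w ∈ nrm b, w * x * w⁻¹ = x ∨ w * x * w⁻¹ = x⁻¹ := fun w hw => by
    refine conj_eq_or_inv hx (honly _ ?_ ((orderOf_injective (MulAut.conj w).toMonoidHom (MulEquiv.injective _) x).trans hx))
    obtain ⟨i, hi⟩ := mem_zpowers_iff.mp ((mem_normalizer_iff.mp (inv_mem hw) b).mp (mem_zpowers b))
    rw [mem_centralizer_singleton_iff]
    have h1 : b = w * b ^ i * w⁻¹ := by rw [hi]; group
    calc w * x * w⁻¹ * b = w * x * w⁻¹ * (w * b ^ i * w⁻¹) := by rw [← h1]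
      _ = w * (x * b ^ i) * w⁻¹ := by group
      _ = w * b ^ i * w⁻¹ * (w * x * w⁻¹) := by rw [(Commute.zpow_right hxb i).eq]; group
      _ = b * (w * x * w⁻¹) := by rw [← h1]
  set H := nrm b ⊓ cnt1 x with hH
  have hN := D.norm_five b hb
  have hdvd : Nat.card H ∣ 60 := hN ▸ card_dvd_of_le inf_le_left
  have hle : 60 ≤ 2 * Nat.card H := by
    by_cases hall : ∃ w₀ ∈ nrm b, w₀ * x * w₀⁻¹ = x⁻¹
    · obtain ⟨w₀, hw₀, hinv⟩ := hall
      have hmem : ∀ w : nrm b, ¬ (w.1 * x * w.1⁻¹ = x) → w₀⁻¹ * w.1 ∈ H := fun w hw => by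
        refine mem_inf.mpr ⟨mul_mem (inv_mem hw₀) w.2, mem_centralizer_singleton_iff.mpr ?_⟩
        rcases hsign w.1 w.2 with h | h
        · exact absurd h hw
        · refine mul_inv_eq_iff_eq_mul.mp ?_
          calc w₀⁻¹ * w.1 * x * (w₀⁻¹ * w.1)⁻¹ = w₀⁻¹ * (w.1 * x * w.1⁻¹) * w₀ := by group
            _ = w₀⁻¹ * (w₀ * x * w₀⁻¹) * w₀ := by rw [h, ← hinv]
            _ = x := by group
      let f : nrm b → Bool × H := fun w => if h : w.1 * x * w.1⁻¹ = x then
          (true, ⟨w.1, mem_inf.mpr ⟨w.2, mem_centralizer_singleton_iff.mpr (mul_inv_eq_iff_eq_mul.mp h)⟩⟩)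
        else (false, ⟨w₀⁻¹ * w.1, hmem w h⟩)
      have hf : Function.Injective f := fun v w e => by
        simp only [f] at e
        split_ifs at e with h1 h2 h2
        · exact Subtype.ext (congrArg (fun z => (z : Bool × H).2.1) e)
        · exact absurd (congrArg Prod.fst e) (by simp)
        · exact absurd (congrArg Prod.fst e) (by simp)
        · exact Subtype.ext (mul_left_cancel (congrArg (fun z => (z : Bool × H).2.1) e))
      have := Nat.card_le_card_of_injective f hf
      rw [hN, Nat.card_prod] at this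
      simpa using this
    · push Not at hall
      have : nrm b ≤ H := fun w hw => mem_inf.mpr ⟨hw, mem_centralizer_singleton_iff.mpr
        (mul_inv_eq_iff_eq_mul.mp ((hsign w hw).resolve_right (hall w hw)))⟩
      have := card_dvd_of_le this
      rw [hN] at this
      have := Nat.le_of_dvd Nat.card_pos this
      omega
  have hH' : Nat.card H = 30 ∨ Nat.card H = 60 := by
    have h60 : Nat.card H ≤ 60 := Nat.le_of_dvd (by norm_num) hdvd
    rcases hdvd with ⟨c, hc⟩
    have : c ≤ 2 := by nlinarith [Nat.card_pos (α := H)]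
    interval_cases c <;> omega
  obtain ⟨u', hu'⟩ := exists_prime_orderOf_dvd_card' (G := H) 2 (by rcases hH' with h | h <;> rw [h] <;> norm_num)
  exact ⟨b, x, u'.1, hb, hx, by rw [orderOf_coe, hu'],
    (mem_centralizer_singleton_iff.mp (mem_inf.mp u'.2).2).symm, hxb, hH'⟩

/-- All pairs of a subgroup of order three and an involution centralising it are conjugate. -/
theorem pair_conj {x u x' u' : G} (hx : orderOf x = 3) (hu : orderOf u = 2) (hxu : x * u = u * x)
    (hx' : orderOf x' = 3) (hu' : orderOf u' = 2) (hxu' : x' * u' = u' * x') :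
    ∃ w : G, (zpowers (w * x * w⁻¹) : Subgroup G) = zpowers x' ∧ w * u * w⁻¹ = u' := by
  have : Fact (Nat.Prime 3) := ⟨by norm_num⟩
  obtain ⟨v, hv⟩ := isConj_iff.mp (D.conj_invol u u' hu hu')
  have h1 : v * x * v⁻¹ ∈ cnt1 u' := by
    rw [mem_centralizer_singleton_iff, ← hv]
    calc v * x * v⁻¹ * (v * u * v⁻¹) = v * (x * u) * v⁻¹ := by group
      _ = v * (u * x) * v⁻¹ := by rw [hxu]
      _ = v * u * v⁻¹ * (v * x * v⁻¹) := by group
  obtain ⟨c, hc, hcz⟩ := exists_conj_in (p := 3) (M := cnt1 u') (by rw [D.cent_invol u' hu']; norm_num)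
    ((orderOf_injective (MulAut.conj v).toMonoidHom (MulEquiv.injective _) x).trans hx) hx' h1
    (mem_centralizer_singleton_iff.mpr hxu')
  refine ⟨c * v, ?_, ?_⟩
  · rw [← hcz]
    congr 1
    simp only [MulEquiv.coe_toMonoidHom, MulAut.conj_apply]
    group
  · calc c * v * u * (c * v)⁻¹ = c * (v * u * v⁻¹) * c⁻¹ := by group
      _ = u' := by rw [hv]; exact mul_inv_eq_iff_eq_mul.mpr (mem_centralizer_singleton_iff.mp hc)

theorem pair_card_eq {x u x' u' : G} (hx : orderOf x = 3) (hu : orderOf u = 2) (hxu : x * u = u * x)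
    (hx' : orderOf x' = 3) (hu' : orderOf u' = 2) (hxu' : x' * u' = u' * x') :
    Nat.card ↥(cnt1 x ⊓ cnt1 u) = Nat.card ↥(cnt1 x' ⊓ cnt1 u') ∧
      Nat.card (cnt1 x) = Nat.card (cnt1 x') := by
  obtain ⟨w, hwx, hwu⟩ := pair_conj D hx hu hxu hx' hu' hxu'
  have e1 : cnt1 (w * x * w⁻¹) = cnt1 x' := by rw [cnt1, cnt1, ← centralizer_zpowers, hwx, centralizer_zpowers]
  refine ⟨?_, by rw [← card_centralizer_conj (x := x) w, e1]⟩
  refine Nat.card_congr
    (((cnt1 x ⊓ cnt1 u).equivMapOfInjective (MulAut.conj w).toMonoidHom (MulEquiv.injective _)).toEquiv.trans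
      (Equiv.subtypeEquivRight fun z => ?_))
  rw [← e1, ← hwu, mem_map_equiv, MulAut.conj_symm_apply, mem_inf, mem_inf, mem_centralizer_singleton_iff,
    mem_centralizer_singleton_iff, mem_centralizer_singleton_iff, mem_centralizer_singleton_iff]
  have key : ∀ y : G, (w⁻¹ * z * w * y = y * (w⁻¹ * z * w)) ↔ (z * (w * y * w⁻¹) = w * y * w⁻¹ * z) := fun y => by
    constructor <;> intro h
    · calc z * (w * y * w⁻¹) = w * (w⁻¹ * z * w * y) * w⁻¹ := by group
        _ = w * (y * (w⁻¹ * z * w)) * w⁻¹ := by rw [h]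
        _ = w * y * w⁻¹ * z := by group
    · calc w⁻¹ * z * w * y = w⁻¹ * (z * (w * y * w⁻¹)) * w := by group
        _ = w⁻¹ * (w * y * w⁻¹ * z) * w := by rw [h]
        _ = y * (w⁻¹ * z * w) := by group
  rw [key x, key u]

/-- The common centraliser has order `3 * 2 ^ e` with `1 ≤ e ≤ 5`. -/
theorem pair_bound {x t : G} (hx : orderOf x = 3) (ht : orderOf t = 2) (hxt : x * t = t * x) :
    ∃ e, 1 ≤ e ∧ e ≤ 5 ∧ Nat.card ↥(cnt1 x ⊓ cnt1 t) = 3 * 2 ^ e := by
  classical
  have : Fact (Nat.Prime 3) := ⟨by norm_num⟩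
  have : Fact (Nat.Prime 7) := ⟨by norm_num⟩
  have : Fact (Nat.Prime 2) := ⟨by norm_num⟩
  set C := cnt1 t with hC
  have hxC : x ∈ C := mem_centralizer_singleton_iff.mpr hxt
  have hCc : Nat.card C = 2688 := D.cent_invol t ht
  set d := Nat.card ↥(cnt1 x ⊓ C) with hd
  have hd2688 : d ∣ 2688 := hCc ▸ card_dvd_of_le inf_le_right
  have h3d : 3 ∣ d := by
    have := orderOf_dvd_natCard (⟨x, mem_inf.mpr ⟨mem_centralizer_self x, hxC⟩⟩ : ↥(cnt1 x ⊓ C))
    rwa [orderOf_mk, hx] at this
  have h2d : 2 ∣ d := by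
    have := orderOf_dvd_natCard (⟨t, mem_inf.mpr ⟨mem_centralizer_singleton_iff.mpr hxt.symm,
      mem_centralizer_self t⟩⟩ : ↥(cnt1 x ⊓ C))
    rwa [orderOf_mk, ht] at this
  have h7d : ¬ 7 ∣ d := fun h => by
    obtain ⟨a, ha⟩ := exists_prime_orderOf_dvd_card' (G := ↥(cnt1 x ⊓ C)) 7 h
    exact no_three_seven D hx (show orderOf (a : G) = 7 by rw [orderOf_coe, ha])
      (mem_centralizer_singleton_iff.mp (mem_inf.mp a.2).1).symm
  obtain ⟨n3, hn3, hmod, hS⟩ := sub_inf_normalizer_mul hx C (by rw [hCc]; norm_num) hxC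
  have hsub : cnt1 x ⊓ C ≤ C ⊓ nrm x := le_inf inf_le_right (inf_le_left.trans (cnt1_le_nrm x))
  have hdN : d ∣ Nat.card ↥(C ⊓ nrm x) := card_dvd_of_le hsub
  rw [hCc] at hn3
  -- few subgroups of order three
  have h7 : ∀ a : G, orderOf a = 7 → a * t = t * a → n3 ≠ 1 ∧ n3 ≠ 4 ∧
      (n3 = 7 → ∀ y : G, orderOf y = 3 → y * t = t * y → y ∈ nrm a) := by
    intro a ha hat
    have haC : a ∈ C := mem_centralizer_singleton_iff.mpr hat
    have hno : ∀ z : G, orderOf z = 3 → z * t = t * z → a * z * a⁻¹ ∉ zpowers z := fun z hz hzt hm => by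
      rcases conj_eq_or_inv hz hm with h | h
      · exact no_three_seven D hz ha (mul_inv_eq_iff_eq_mul.mp h).symm
      · have h2 : a ^ 2 * z * (a ^ 2)⁻¹ = z := by
          calc a ^ 2 * z * (a ^ 2)⁻¹ = a * (a * z * a⁻¹) * a⁻¹ := by rw [pow_two]; group
            _ = a * z⁻¹ * a⁻¹ := by rw [h]
            _ = (a * z * a⁻¹)⁻¹ := by group
            _ = z := by rw [h, inv_inv]
        exact no_three_seven D hz (show orderOf (a ^ 2) = 7 by rw [Nat.Coprime.orderOf_pow (by rw [ha]; norm_num), ha])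
          (mul_inv_eq_iff_eq_mul.mp h2).symm
    -- the conjugates of one subgroup under `a`
    have hseven : ∀ z : G, orderOf z = 3 → z * t = t * z → ∃ f : Fin 7 → Sylow 3 C, Function.Injective f ∧
        ∀ i, ((f i : Subgroup C).map C.subtype) = zpowers (a ^ (i : ℕ) * z * (a ^ (i : ℕ))⁻¹) := by
      intro z hz hzt
      have hz' : ∀ i : ℕ, a ^ i * z * (a ^ i)⁻¹ ∈ C := fun i =>
        C.mul_mem (C.mul_mem (pow_mem haC i) (mem_centralizer_singleton_iff.mpr hzt)) (inv_mem (pow_mem haC i))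
      have hex : ∀ i : Fin 7, ∃ Q : Sylow 3 C, (Q : Subgroup C).map C.subtype = zpowers (a ^ (i : ℕ) * z * (a ^ (i : ℕ))⁻¹) := by
        intro i
        obtain ⟨Q, hQ⟩ := exists_sylow_eq_zpowers (q := 3) (fun Q => by
          rw [card_sylow_subgroup (m := 896) (e := 1) (by rw [hCc]; norm_num) (by norm_num) Q, pow_one])
          (show orderOf (⟨_, hz' i⟩ : C) = 3 by
            rw [orderOf_mk, ← hz]
            exact orderOf_injective (MulAut.conj (a ^ (i : ℕ))).toMonoidHom (MulEquiv.injective _) z)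
        exact ⟨Q, by rw [hQ, MonoidHom.map_zpowers]; rfl⟩
      choose f hf using hex
      refine ⟨f, fun i j hij => ?_, hf⟩
      by_contra hne
      have e : (zpowers (a ^ (i : ℕ) * z * (a ^ (i : ℕ))⁻¹) : Subgroup G) = zpowers (a ^ (j : ℕ) * z * (a ^ (j : ℕ))⁻¹) := by
        rw [← hf, ← hf, hij]
      wlog hlt : (i : ℕ) < j generalizing i j
      · exact this j i hij.symm (Ne.symm hne) e.symm (by
          have : (i : ℕ) ≠ j := fun h => hne (Fin.ext h)
          omega)
      set k := (j : ℕ) - i with hk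
      have hkmem : a ^ k * z * (a ^ k)⁻¹ ∈ zpowers z := by
        have hm := e.symm ▸ mem_zpowers (a ^ (j : ℕ) * z * (a ^ (j : ℕ))⁻¹)
        obtain ⟨l, hl⟩ := mem_zpowers_iff.mp hm
        refine mem_zpowers_iff.mpr ⟨l, ?_⟩
        rw [show (j : ℕ) = i + k by omega, pow_add] at hl
        rw [conj_zpow] at hl
        have := congrArg (fun y => (a ^ (i : ℕ))⁻¹ * y * a ^ (i : ℕ)) hl
        simpa [mul_assoc] using this
      -- `a` is a power of `a ^ k`
      have hpow : ∀ m : ℕ, (a ^ k) ^ m * z * ((a ^ k) ^ m)⁻¹ ∈ zpowers z := by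
        intro m
        induction m with
        | zero => simp
        | succ m ih =>
          obtain ⟨l, hl⟩ := mem_zpowers_iff.mp ih
          rw [pow_succ']
          rw [show a ^ k * (a ^ k) ^ m * z * (a ^ k * (a ^ k) ^ m)⁻¹ =
            a ^ k * ((a ^ k) ^ m * z * ((a ^ k) ^ m)⁻¹) * (a ^ k)⁻¹ by group, ← hl, ← conj_zpow]
          exact zpow_mem hkmem l
      obtain ⟨m, hm⟩ := exists_pow_eq_self_of_coprime (n := k) (x := a) (by
        rw [ha]
        have := j.isLt
        exact ((show Nat.Prime 7 by norm_num).coprime_iff_not_dvd.mpr fun h => by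
          have := Nat.le_of_dvd (by omega) h; omega).symm)
      have := hpow m
      rw [hm] at this
      exact hno z hz hzt this
    obtain ⟨f, hf, hfz⟩ := hseven x hx hxt
    have h7le : 7 ≤ n3 := by
      have := Nat.card_le_card_of_injective f hf
      rwa [Nat.card_fin, hS] at this
    refine ⟨by omega, by omega, fun h7eq y hy hyt => ?_⟩
    -- an element of order three normalising `a`
    obtain ⟨z, hz⟩ := exists_prime_orderOf_dvd_card' (G := nrm a) 3 (by rw [D.norm_seven a ha]; norm_num)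
    have hz3 : orderOf z.1 = 3 := by rw [orderOf_coe, hz]
    have hzt : z.1 * t = t * z.1 :=
      mem_centralizer_singleton_iff.mp (seven_norm_le D ht ha hat.symm z.2)
    obtain ⟨g, hg, hgz⟩ := hseven z.1 hz3 hzt
    have hsurj : Function.Surjective g :=
      ((Nat.bijective_iff_injective_and_card g).mpr ⟨hg, by rw [Nat.card_fin, hS, h7eq]⟩).2
    have hyC : y ∈ C := mem_centralizer_singleton_iff.mpr hyt
    obtain ⟨Q, hQ⟩ := exists_sylow_eq_zpowers (q := 3) (fun Q => by
      rw [card_sylow_subgroup (m := 896) (e := 1) (by rw [hCc]; norm_num) (by norm_num) Q, pow_one])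
      (show orderOf (⟨y, hyC⟩ : C) = 3 by rw [orderOf_mk, hy])
    obtain ⟨i, rfl⟩ := hsurj Q
    have hy' : y ∈ (zpowers (a ^ (i : ℕ) * z.1 * (a ^ (i : ℕ))⁻¹) : Subgroup G) := by
      rw [← hgz, hQ, MonoidHom.map_zpowers]
      exact mem_zpowers _
    refine zpowers_le.mpr ?_ hy'
    have haN : a ^ (i : ℕ) ∈ nrm a := le_normalizer (pow_mem (mem_zpowers a) _)
    exact mul_mem (mul_mem haN z.2) (inv_mem haN)
  obtain ⟨a, ha, hta⟩ := exists_seven D ht
  obtain ⟨hn1, hn4, hn7⟩ := h7 a ha hta.symm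
  have hne7 : n3 ≠ 7 := fun h7eq => by
    -- `a` would be normalised by and normalise every subgroup of order seven
    obtain ⟨z, hz⟩ := exists_prime_orderOf_dvd_card' (G := nrm a) 3 (by rw [D.norm_seven a ha]; norm_num)
    have hz3 : orderOf z.1 = 3 := by rw [orderOf_coe, hz]
    have hzt : z.1 * t = t * z.1 :=
      mem_centralizer_singleton_iff.mp (seven_norm_le D ht ha hta z.2)
    set c := z.1 * a * z.1⁻¹ * a⁻¹ with hc
    have hcmem : c ∈ zpowers a :=
      mul_mem ((mem_normalizer_iff.mp z.2 a).mp (mem_zpowers a)) (inv_mem (mem_zpowers a))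
    have hc1 : c ≠ 1 := fun e => no_three_seven D hz3 ha (mul_inv_eq_iff_eq_mul.mp (mul_inv_eq_one.mp e))
    have hall : ∀ a' : G, orderOf a' = 7 → a' * t = t * a' → a' ∈ zpowers a := by
      intro a' ha' hat'
      have hN := (h7 a' ha' hat').2.2 h7eq
      have hcN : c ∈ nrm a' := by
        rw [hc, show z.1 * a * z.1⁻¹ * a⁻¹ = z.1 * (a * z.1⁻¹ * a⁻¹) by group]
        refine mul_mem (hN _ hz3 hzt) (hN _ ?_ ?_)
        · rw [← hz3, ← orderOf_inv z.1]
          exact orderOf_injective (MulAut.conj a).toMonoidHom (MulEquiv.injective _) z.1⁻¹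
        · exact ((show Commute a t from hta.symm).mul_left (show Commute z.1 t from hzt).inv_left).mul_left
            (show Commute a t from hta.symm).inv_left
      have hc7 : orderOf c = 7 := by
        have h := orderOf_dvd_natCard (⟨c, hcmem⟩ : zpowers a)
        rw [orderOf_mk, Nat.card_zpowers, ha] at h
        rcases (Nat.dvd_prime (by norm_num)).mp h with h | h
        · exact absurd (orderOf_eq_one_iff.mp h) hc1
        · exact h
      have hone : Nat.card (Sylow 7 (nrm a')) = 1 := by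
        obtain ⟨m, hm, -, hS⟩ := sub_inf_normalizer_mul ha' (nrm a') (by rw [D.norm_seven a' ha']; norm_num)
          (le_normalizer (mem_zpowers a'))
        rw [inf_idem, D.norm_seven a' ha'] at hm
        omega
      have hm := Order95040.mem_zpowers_of_unique (q := 7) (fun Q => by
        rw [card_sylow_subgroup (m := 6) (e := 1) (by rw [D.norm_seven a' ha']; norm_num) (by norm_num) Q, pow_one])
        hone (show orderOf (⟨c, hcN⟩ : nrm a') = 7 by rw [orderOf_mk, hc7])
        (show orderOf (⟨a', le_normalizer (mem_zpowers a')⟩ : nrm a') = 7 by rw [orderOf_mk, ha'])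
      obtain ⟨i, hi⟩ := mem_zpowers_iff.mp hm
      have hi' : c ^ i = a' := by simpa using congrArg Subtype.val hi
      exact hi' ▸ zpow_mem hcmem i
    have h64 := card_sylow_seven D ht
    have : Subsingleton (Sylow 7 C) := ⟨fun P Q => by
      have hP : ∀ R : Sylow 7 C, Nat.card (R : Subgroup C) = 7 := fun R => by
        rw [card_sylow_subgroup (m := 384) (e := 1) (by rw [hCc]; norm_num) (by norm_num) R, pow_one]
      suffices h : ∀ R : Sylow 7 C, (R : Subgroup C).map C.subtype ≤ zpowers a by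
        refine Sylow.ext (map_injective C.subtype_injective ?_)
        have hc : ∀ R : Sylow 7 C, (R : Subgroup C).map C.subtype = zpowers a := fun R => by
          refine eq_of_le_of_card_ge (h R) ?_
          rw [Nat.card_zpowers, ha, card_map_of_injective C.subtype_injective, hP]
        rw [hc, hc]
      intro R
      rintro _ ⟨r, hr, rfl⟩
      rcases eq_or_ne r 1 with rfl | hr1
      · exact one_mem _
      refine hall r.1 ?_ (mem_centralizer_singleton_iff.mp r.2)
      rw [orderOf_coe, ← orderOf_mk r hr]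
      exact orderOf_eq_prime ((congrArg (_ ^ ·) (hP R)).symm.trans pow_card_eq_one')
        fun e => hr1 (congrArg Subtype.val e)⟩
    rw [Nat.card_of_subsingleton (Classical.arbitrary (Sylow 7 C))] at h64
    omega
  have hn3dvd : n3 ∣ 2688 := ⟨_, (mul_comm _ _).trans hn3 |>.symm⟩
  have hge : 16 ≤ n3 := by
    by_contra hlt
    interval_cases n3 <;> omega
  have hd168 : d ≤ 168 := by
    have h1 : d ≤ Nat.card ↥(C ⊓ nrm x) := Nat.le_of_dvd Nat.card_pos hdN
    nlinarith
  obtain ⟨q, hq⟩ := h3d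
  have hq' : q ∣ 2 ^ 7 * 7 := Nat.dvd_of_mul_dvd_mul_left (by norm_num : 0 < 3) (hq ▸ hd2688)
  have hcop : Nat.Coprime q 7 := ((show Nat.Prime 7 by norm_num).coprime_iff_not_dvd.mpr fun h =>
    h7d (hq ▸ h.mul_left 3)).symm
  obtain ⟨e, -, he⟩ := (Nat.dvd_prime_pow Nat.prime_two).mp (hcop.dvd_of_dvd_mul_right hq')
  refine ⟨e, Nat.pos_of_ne_zero fun h0 => ?_, ?_, by rw [← he]; exact hq⟩
  · rw [he, h0] at hq
    omega
  · by_contra h6
    have : 2 ^ 6 ≤ 2 ^ e := Nat.pow_le_pow_right (by norm_num) (by omega)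
    omega

/-- The centraliser of the element of order three has order 45 times a power of two. -/
theorem three_cent_form {x t : G} (hx : orderOf x = 3) (ht : orderOf t = 2) (hxt : x * t = t * x) :
    Nat.card (cnt1 x) = 15 * Nat.card ↥(cnt1 x ⊓ cnt1 t) := by
  classical
  have : Fact (Nat.Prime 3) := ⟨by norm_num⟩
  have : Fact (Nat.Prime 2) := ⟨by norm_num⟩
  obtain ⟨b, x₀, u₀, hb, hx₀, hu₀, hxu₀, hxb₀, -⟩ := exists_pair D
  obtain ⟨e, he1, he5, hd⟩ := pair_bound D hx ht hxt
  obtain ⟨h1, h2⟩ := pair_card_eq D hx ht hxt hx₀ hu₀ hxu₀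
  rw [h1, h2]
  rw [h1] at hd
  set X := cnt1 x₀ with hX
  have hcop : ∀ q : ℕ, q.Prime → (∀ g : G, orderOf g = q → ¬ 3 ∣ Nat.card (cnt1 g)) →
      ¬ q ∣ Nat.card X := fun q hq hno hdvd => by
    have := Fact.mk hq
    obtain ⟨g, hg⟩ := exists_prime_orderOf_dvd_card' (G := X) q hdvd
    have hg' : orderOf (g : G) = q := by rw [orderOf_coe, hg]
    have h := orderOf_dvd_natCard (⟨x₀, mem_centralizer_singleton_iff.mpr
      (mem_centralizer_singleton_iff.mp g.2).symm⟩ : cnt1 (g : G))
    rw [orderOf_mk, hx₀] at h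
    exact hno _ hg' h
  have n7 := hcop 7 (by norm_num) fun g hg => by rw [D.cent_seven g hg]; norm_num
  have n11 := hcop 11 (by norm_num) fun g hg => by rw [D.cent_eleven g hg]; norm_num
  have n23 := hcop 23 (by norm_num) fun g hg => by rw [D.cent_twentythree g hg]; norm_num
  have h5 : 5 ∣ Nat.card X := by
    have := orderOf_dvd_natCard (⟨b, mem_centralizer_singleton_iff.mpr hxb₀.symm⟩ : X)
    rwa [orderOf_mk, hb] at this
  have h9 : 9 ∣ Nat.card X := by
    obtain ⟨S, hS⟩ := (IsPGroup.of_card (n := 1) (show Nat.card (zpowers x₀) = 3 ^ 1 by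
      rw [Nat.card_zpowers, hx₀, pow_one])).exists_le_sylow
    have hS9 : Nat.card (S : Subgroup G) = 3 ^ 2 :=
      card_sylow_subgroup (m := 1133440) (by rw [D.card]; norm_num) (by norm_num) S
    have hcomm := IsPGroup.isMulCommutative_of_card_eq_prime_sq hS9
    have hle : (S : Subgroup G) ≤ X := fun g hg => mem_centralizer_singleton_iff.mpr
      (congrArg Subtype.val (hcomm.1.comm ⟨g, hg⟩ ⟨x₀, hS (mem_zpowers x₀)⟩))
    exact (dvd_of_eq (by rw [hS9]; norm_num)).trans (card_dvd_of_le hle)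
  have hdX : Nat.card ↥(X ⊓ cnt1 u₀) ∣ Nat.card X := card_dvd_of_le inf_le_left
  -- a central involution of a Sylow 2-subgroup
  obtain ⟨T⟩ := (inferInstance : Nonempty (Sylow 2 X))
  have h2X : 2 ∣ Nat.card X := by
    refine dvd_trans ?_ hdX
    rw [hd]
    exact (dvd_pow_self 2 (by omega)).mul_left 3
  have hTne : (T : Subgroup X) ≠ ⊥ := T.ne_bot_of_dvd_card h2X
  have := (nontrivial_iff_ne_bot (T : Subgroup X)).mpr hTne
  have := T.isPGroup'.center_nontrivial
  obtain ⟨z, hz1⟩ := exists_prime_orderOf_dvd_card' (G := center (T : Subgroup X)) 2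
    (by
      obtain ⟨k, hk⟩ := ((T.isPGroup').to_subgroup (center (T : Subgroup X))).exists_card_eq
      rw [hk]
      refine dvd_pow_self 2 fun h0 => ?_
      rw [h0, pow_zero] at hk
      exact absurd (Finite.one_lt_card (α := center (T : Subgroup X))) (by omega))
  set u : G := (((z : (T : Subgroup X)) : X) : G) with hu
  have hu2 : orderOf u = 2 := by rw [hu, orderOf_coe, orderOf_coe, orderOf_coe, hz1]
  have hxu : x₀ * u = u * x₀ := (mem_centralizer_singleton_iff.mp ((z : (T : Subgroup X)) : X).2).symm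
  obtain ⟨h1', -⟩ := pair_card_eq D hx₀ hu2 hxu hx₀ hu₀ hxu₀
  have hT : (T : Subgroup X).map X.subtype ≤ X ⊓ cnt1 u := by
    rintro _ ⟨g, hg, rfl⟩
    refine mem_inf.mpr ⟨g.2, mem_centralizer_singleton_iff.mpr ?_⟩
    have := congrArg (fun q : (T : Subgroup X) => ((q : X) : G)) (mem_center_iff.mp z.2 ⟨g, hg⟩)
    simpa [hu] using this
  have hTc : Nat.card (T : Subgroup X) ∣ Nat.card ↥(X ⊓ cnt1 u₀) := by
    rw [← h1', ← card_map_of_injective X.subtype_injective]
    exact card_dvd_of_le hT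
  have hTm : Nat.card (T : Subgroup X) = 2 ^ (Nat.card X).factorization 2 := T.card_eq_multiplicity
  set N := Nat.card X
  have hN : N ≠ 0 := Nat.card_pos.ne'
  set f := N.factorization 2 with hf
  have hfe : f ≤ e := by
    rw [hTm, hd] at hTc
    exact (Nat.pow_dvd_pow_iff_le_right (by norm_num)).mp
      ((Nat.Coprime.pow_left f (by norm_num : Nat.Coprime 2 3)).dvd_of_dvd_mul_left hTc)
  have hef : e ≤ f := (Nat.prime_two.pow_dvd_iff_le_factorization hN).mp ((dvd_mul_left _ 3).trans (hd ▸ hdX))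
  have hNd : N ∣ 10200960 := D.card ▸ card_subgroup_dvd_card X
  have h45 : 2 ^ e * 45 ∣ N := Nat.Coprime.mul_dvd_of_dvd_of_dvd
    (Nat.Coprime.pow_left e (by norm_num)) ((dvd_mul_left _ 3).trans (hd ▸ hdX))
    (Nat.Coprime.mul_dvd_of_dvd_of_dvd (show Nat.Coprime 9 5 by norm_num) h9 h5)
  rw [hd]
  obtain ⟨c, hc⟩ := h45
  have hc' : c ∣ 2 ^ (7 - e) * (7 * 11 * 23) := by
    refine Nat.dvd_of_mul_dvd_mul_left (show 0 < 2 ^ e * 45 by positivity) ?_
    rw [← hc, show 2 ^ e * 45 * (2 ^ (7 - e) * (7 * 11 * 23)) = 2 ^ (e + (7 - e)) * (45 * (7 * 11 * 23)) by ring,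
      show e + (7 - e) = 7 by omega]
    exact hNd.trans (dvd_of_eq (by norm_num))
  have hc2 : Nat.Coprime c (2 ^ (7 - e)) := Nat.Coprime.pow_right _
    ((Nat.prime_two.coprime_iff_not_dvd.mpr fun h => by
      have : 2 ^ (e + 1) ∣ N := by rw [hc, pow_succ]; exact Nat.mul_dvd_mul (dvd_mul_right _ _) h
      have := (Nat.prime_two.pow_dvd_iff_le_factorization hN).mp this
      omega).symm)
  have hcd : c ∣ N := hc ▸ dvd_mul_left c _
  have hc3 : Nat.Coprime c (7 * 11 * 23) := Nat.Coprime.mul_right (Nat.Coprime.mul_right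
    (((show Nat.Prime 7 by norm_num).coprime_iff_not_dvd.mpr fun h => n7 (h.trans hcd)).symm)
    (((show Nat.Prime 11 by norm_num).coprime_iff_not_dvd.mpr fun h => n11 (h.trans hcd)).symm))
    (((show Nat.Prime 23 by norm_num).coprime_iff_not_dvd.mpr fun h => n23 (h.trans hcd)).symm)
  have : c = 1 := Nat.eq_one_of_dvd_coprimes (hc2.mul_right hc3) dvd_rfl hc'
  rw [hc, this]; ring

theorem three_cent_card {x t : G} (hx : orderOf x = 3) (ht : orderOf t = 2) (hxt : x * t = t * x) :
    Nat.card (cnt1 x) = 180 ∧ Nat.card ↥(cnt1 x ⊓ cnt1 t) = 12 := by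
  classical
  have : Fact (Nat.Prime 3) := ⟨by norm_num⟩
  have : Fact (Nat.Prime 5) := ⟨by norm_num⟩
  have : Fact (Nat.Prime 2) := ⟨by norm_num⟩
  obtain ⟨b, x₀, u₀, hb, hx₀, hu₀, hxu₀, hxb₀, hH⟩ := exists_pair D
  obtain ⟨h1, h2⟩ := pair_card_eq D hx ht hxt hx₀ hu₀ hxu₀
  rw [h1, h2]
  obtain ⟨e, he1, he5, hd⟩ := pair_bound D hx₀ hu₀ hxu₀
  have hX := three_cent_form D hx₀ hu₀ hxu₀
  rw [hd] at hX ⊢
  set X := cnt1 x₀
  have hbX : b ∈ X := mem_centralizer_singleton_iff.mpr hxb₀.symm
  obtain ⟨m, hm, hm5, hS5⟩ := sub_inf_normalizer_mul hb X (by rw [hX]; intro h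
                                                              have : 5 ^ 2 ∣ 10200960 :=
                                                                (hX ▸ h).trans (D.card ▸ card_subgroup_dvd_card X)
                                                              norm_num at this) hbX
  rw [inf_comm] at hm
  rw [hX] at hm
  have hcases : (e = 2 ∧ m = 6 ∧ Nat.card ↥(nrm b ⊓ X) = 30) ∨ (e = 3 ∧ m = 6) := by
    rcases hH with h | h <;> rw [h] at hm <;> interval_cases e <;> norm_num at hm <;> omega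
  rcases hcases with ⟨rfl, -, -⟩ | ⟨rfl, rfl⟩
  · exact ⟨by rw [hX]; norm_num, rfl⟩
  exfalso
  -- order 360 is impossible
  norm_num at hX
  have hfac : Nat.card X = 3 ^ 2 * 40 := by rw [hX]; norm_num
  obtain ⟨S⟩ := (inferInstance : Nonempty (Sylow 3 X))
  have hS := card_sylow_subgroup hfac (by norm_num) S
  have hScomm := IsPGroup.isMulCommutative_of_card_eq_prime_sq hS
  set xX : X := ⟨x₀, mem_centralizer_self x₀⟩
  have hxc : ∀ g : X, g * xX = xX * g := fun g => Subtype.ext (mem_centralizer_singleton_iff.mp g.2)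
  have hxS : xX ∈ (S : Subgroup X) := by
    have hn : (zpowers xX).Normal := ⟨fun n hn g => by
      obtain ⟨i, rfl⟩ := mem_zpowers_iff.mp hn
      rw [(Commute.zpow_right (hxc g) i).eq, mul_inv_cancel_right]
      exact zpow_mem (mem_zpowers _) i⟩
    have hp : IsPGroup 3 (zpowers xX) := IsPGroup.of_card (n := 1) (by
      rw [Nat.card_zpowers, orderOf_mk, hx₀, pow_one])
    exact (Cores.le_pCore hn hp |>.trans (Cores.pCore_le_sylow S)) (mem_zpowers xX)
  -- no involution centralises the Sylow subgroup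
  have hnoinv : ∀ u : X, orderOf u = 2 → ∃ s ∈ (S : Subgroup X), u * s ≠ s * u := fun u hu => by
    by_contra hall
    push Not at hall
    have hle : (S : Subgroup X).map X.subtype ≤ cnt1 (u : G) := by
      rintro _ ⟨s, hs, rfl⟩
      exact mem_centralizer_singleton_iff.mpr (congrArg Subtype.val (hall s hs)).symm
    have h := card_dvd_of_le hle
    rw [card_map_of_injective X.subtype_injective, hS, D.cent_invol _ (by rw [orderOf_coe, hu])] at h
    norm_num at h
  set N := normalizer ((S : Subgroup X) : Set X) with hN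
  have hNmul := card_normalizer_mul_card_sylow S
  rw [← hN, hX] at hNmul
  have hmod : Nat.card (Sylow 3 X) % 3 = 1 := Eq.trans (card_sylow_modEq_one 3 _) (by norm_num)
  have hdvd40 : Nat.card (Sylow 3 X) ∣ 40 := index_sylow hfac (by norm_num) S ▸ S.card_dvd_index
  have h5N : ¬ 5 ∣ Nat.card N := fun h5 => by
    obtain ⟨c, hc⟩ := exists_prime_orderOf_dvd_card' (G := N) 5 h5
    have hc5 : orderOf (c : X) = 5 := by rw [orderOf_coe, hc]
    have hmodc := Order95040.card_modEq_commute (p := 5) hc5 ((S : Subgroup X) : Set X)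
      fun g hg => (mem_normalizer_iff.mp c.2 g).mp hg
    rw [show Nat.card ((S : Subgroup X) : Set X) = 9 by rw [SetLike.coe_sort_coe, hS]; norm_num] at hmodc
    let F : Subgroup X := (S : Subgroup X) ⊓ centralizer ({(c : X)} : Set X)
    have hF : Nat.card F = Nat.card {g : X // g ∈ ((S : Subgroup X) : Set X) ∧ (c : X) * g = g * c} :=
      Nat.card_congr (Equiv.subtypeEquivRight fun g => by
        rw [mem_inf, mem_centralizer_singleton_iff, SetLike.mem_coe]
        exact and_congr_right fun _ => eq_comm)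
    have hF9 : Nat.card F ∣ 3 ^ 2 := hS ▸ card_dvd_of_le inf_le_left
    obtain ⟨k, hk, hkF⟩ := (Nat.dvd_prime_pow Nat.prime_three).mp hF9
    rw [← hF, hkF, Nat.ModEq] at hmodc
    interval_cases k <;> norm_num at hmodc
    have hSF : (S : Subgroup X) ≤ F := (eq_of_le_of_card_ge inf_le_left (by rw [hkF, hS])).ge
    have hle : (S : Subgroup X).map X.subtype ≤ cnt1 ((c : X) : G) := by
      rintro _ ⟨s, hs, rfl⟩
      exact mem_centralizer_singleton_iff.mpr (congrArg Subtype.val (mem_centralizer_singleton_iff.mp (hSF hs).2))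
    have h := card_dvd_of_le hle
    rw [card_map_of_injective X.subtype_injective, hS, D.cent_five _ (by rw [orderOf_coe, hc5])] at h
    norm_num at h
  have hk : Nat.card (Sylow 3 X) ∈ [1, 4, 10, 40] := by
    have hle : Nat.card (Sylow 3 X) ≤ 40 := Nat.le_of_dvd (by norm_num) hdvd40
    generalize Nat.card (Sylow 3 X) = k at hdvd40 hmod hle
    interval_cases k <;> first | omega | decide
  simp only [List.mem_cons, List.not_mem_nil, or_false] at hk
  rcases hk with h | h | h | h <;> rw [h] at hNmul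
  · exact h5N ⟨72, by omega⟩
  · exact h5N ⟨18, by omega⟩
  · -- a group of order four acting on the Sylow subgroup
    have hN36 : Nat.card N = 36 := by omega
    obtain ⟨T⟩ := (inferInstance : Nonempty (Sylow 2 N))
    have hT4 : Nat.card (T : Subgroup N) = 2 ^ 2 :=
      card_sylow_subgroup (m := 9) (by rw [hN36]; norm_num) (by norm_num) T
    -- it would act freely on the six elements outside `zpowers x₀`
    let W : Set X := {s | s ∈ (S : Subgroup X) ∧ s ∉ zpowers xX}
    have hW : Nat.card W = 6 := by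
      have hsub : (zpowers xX : Set X) ⊆ ((S : Subgroup X) : Set X) := zpowers_le.mpr hxS
      have h := Set.ncard_sdiff hsub
      rw [← Nat.card_coe_set_eq, ← Nat.card_coe_set_eq, ← Nat.card_coe_set_eq, SetLike.coe_sort_coe,
        SetLike.coe_sort_coe, hS, Nat.card_zpowers, orderOf_mk, hx₀] at h
      exact h
    have hmove : ∀ (w : N) (s : X), s ∈ W → (w : X) * s * (w : X)⁻¹ ∈ W := fun w s hs => by
      refine ⟨(mem_normalizer_iff.mp w.2 s).mp hs.1, fun hm => hs.2 ?_⟩
      obtain ⟨i, hi⟩ := mem_zpowers_iff.mp hm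
      have : s = (w : X)⁻¹ * xX ^ i * (w : X) := by rw [hi]; group
      rw [this, mul_assoc, ← (Commute.zpow_right (hxc (w : X)) i).eq, inv_mul_cancel_left]
      exact zpow_mem (mem_zpowers _) i
    let inst : MulAction (T : Subgroup N) W :=
      { smul := fun w s => ⟨((w : N) : X) * s.1 * ((w : N) : X)⁻¹, hmove w s.1 s.2⟩
        one_smul := fun s => Subtype.ext (show ((1 : N) : X) * s.1 * ((1 : N) : X)⁻¹ = s.1 by simp)
        mul_smul := fun v w s => Subtype.ext (show (((v * w : (T : Subgroup N)) : N) : X) * s.1 *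
            (((v * w : (T : Subgroup N)) : N) : X)⁻¹ =
          ((v : N) : X) * (((w : N) : X) * s.1 * ((w : N) : X)⁻¹) * ((v : N) : X)⁻¹ by push_cast; group) }
    have hfree : ∀ s : W, MulAction.stabilizer (T : Subgroup N) s = ⊥ := by
      intro s
      by_contra hne
      have : Nontrivial (MulAction.stabilizer (T : Subgroup N) s) := (nontrivial_iff_ne_bot _).mpr hne
      have hcd : 2 ∣ Nat.card (MulAction.stabilizer (T : Subgroup N) s) := by
        have hd := card_subgroup_dvd_card (MulAction.stabilizer (T : Subgroup N) s)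
        rw [hT4] at hd
        obtain ⟨k, -, hk⟩ := (Nat.dvd_prime_pow Nat.prime_two).mp hd
        rw [hk]
        refine dvd_pow_self 2 fun h0 => ?_
        have := Finite.one_lt_card (α := MulAction.stabilizer (T : Subgroup N) s)
        rw [hk, h0] at this
        omega
      obtain ⟨u, hu⟩ := exists_prime_orderOf_dvd_card' (G := MulAction.stabilizer (T : Subgroup N) s) 2 hcd
      set v : X := (((u : (T : Subgroup N)) : N) : X) with hvdef
      have hv2 : orderOf v = 2 := by rw [hvdef, orderOf_coe, orderOf_coe, orderOf_coe, hu]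
      obtain ⟨y, hy, hne'⟩ := hnoinv v hv2
      have hvs : v * s.1 * v⁻¹ = s.1 := congrArg Subtype.val (MulAction.mem_stabilizer_iff.mp u.2)
      let F : Subgroup X := (S : Subgroup X) ⊓ centralizer ({v} : Set X)
      have hxF : xX ∈ F := mem_inf.mpr ⟨hxS, mem_centralizer_singleton_iff.mpr (hxc v).symm⟩
      have hsF : s.1 ∈ F :=
        mem_inf.mpr ⟨s.2.1, mem_centralizer_singleton_iff.mpr (mul_inv_eq_iff_eq_mul.mp hvs).symm⟩
      obtain ⟨kF, hkF, hkF'⟩ := (Nat.dvd_prime_pow Nat.prime_three).mp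
        (hS ▸ card_dvd_of_le (inf_le_left : F ≤ (S : Subgroup X)))
      have h3F : 3 < Nat.card F := by
        by_contra h
        have e := eq_of_le_of_card_ge (zpowers_le.mpr hxF)
          (by rw [Nat.card_zpowers, orderOf_mk, hx₀]; omega)
        exact s.2.2 (e ▸ hsF)
      have hSF : (S : Subgroup X) ≤ F := (eq_of_le_of_card_ge inf_le_left (by
        rw [hkF', hS]; rw [hkF'] at h3F; interval_cases kF <;> omega)).ge
      exact hne' (mem_centralizer_singleton_iff.mp (mem_inf.mp (hSF hy)).2).symm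
    have h := Nat.card_congr (MulAction.selfEquivSigmaOrbitsQuotientStabilizer (T : Subgroup N) W)
    letI := Fintype.ofFinite (Quotient (MulAction.orbitRel (T : Subgroup N) W))
    rw [hW, Nat.card_sigma] at h
    have h4 : ∀ q : MulAction.orbitRel.Quotient (T : Subgroup N) W,
        Nat.card ((T : Subgroup N) ⧸ MulAction.stabilizer (T : Subgroup N) q.out) = 4 := fun q => by
      rw [← Subgroup.index, hfree, index_bot, hT4]; norm_num
    simp only [h4, Finset.sum_const, Finset.card_univ, smul_eq_mul] at h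
    omega
  · -- Burnside
    have hN9 : Nat.card N = 9 := by omega
    have hNS : N = (S : Subgroup X) := (eq_of_le_of_card_ge le_normalizer (by rw [hN9, hS]; norm_num)).symm
    have hb' : N ≤ centralizer ((S : Subgroup X) : Set X) := by
      rw [hNS]
      intro g hg
      rw [mem_centralizer_iff]
      exact fun s hs => congrArg Subtype.val (hScomm.1.comm ⟨s, hs⟩ ⟨g, hg⟩)
    have hc := MonoidHom.ker_transferSylow_isComplement' S hb'
    set K := (MonoidHom.transferSylow S hb').ker
    have hKc := hc.card_mul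
    rw [hS, hX] at hKc
    have hK40 : Nat.card K = 40 := by omega
    have hbK : ∀ c : X, orderOf c = 5 → c ∈ K := fun c hc5 => by
      have h := K.pow_index_mem c
      have hidx : K.index = 9 := by
        have := K.card_mul_index
        rw [hK40, hX] at this
        omega
      rw [hidx] at h
      obtain ⟨i, hi⟩ := exists_pow_eq_self_of_coprime (n := 9) (x := c) (by rw [hc5]; norm_num)
      exact hi ▸ pow_mem h i
    have hone : Nat.card (Sylow 5 K) = 1 := by
      have hf : Nat.card K = 5 ^ 1 * 8 := by rw [hK40]; norm_num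
      obtain ⟨P⟩ := (inferInstance : Nonempty (Sylow 5 K))
      have h1 : Nat.card (Sylow 5 K) ∣ 8 := index_sylow hf (by norm_num) P ▸ P.card_dvd_index
      have h2 : Nat.card (Sylow 5 K) % 5 = 1 := Eq.trans (card_sylow_modEq_one 5 _) (by norm_num)
      have := Nat.le_of_dvd (by norm_num) h1
      interval_cases Nat.card (Sylow 5 K) <;> omega
    have hXle : X ≤ nrm b := fun g hg => by
      have hg5 : orderOf (g * b * g⁻¹) = 5 :=
        (orderOf_injective (MulAut.conj g).toMonoidHom (MulEquiv.injective _) b).trans hb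
      have hm := Order95040.mem_zpowers_of_unique (q := 5) (fun Q => by
        rw [card_sylow_subgroup (m := 8) (e := 1) (by rw [hK40]; norm_num) (by norm_num) Q, pow_one]) hone
        (x := (⟨⟨b, hbX⟩, hbK _ (by rw [orderOf_mk, hb])⟩ : K))
        (y := ⟨⟨g * b * g⁻¹, X.mul_mem (X.mul_mem hg hbX) (inv_mem hg)⟩, hbK _ (by rw [orderOf_mk, hg5])⟩)
        (by rw [orderOf_mk, orderOf_mk, hb]) (by rw [orderOf_mk, orderOf_mk, hg5])
      obtain ⟨i, hi⟩ := mem_zpowers_iff.mp hm
      have hi' : b ^ i = g * b * g⁻¹ := by simpa using congrArg (fun q : K => ((q : X) : G)) hi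
      refine mem_normalizer_fintype fun y hy => ?_
      obtain ⟨l, rfl⟩ := mem_zpowers_iff.mp hy
      rw [← conj_zpow, ← hi']
      exact zpow_mem (zpow_mem (mem_zpowers b) i) l
    have := card_dvd_of_le hXle
    rw [hX, D.norm_five b hb] at this
    norm_num at this

theorem three_norm_card {x t : G} (hx : orderOf x = 3) (ht : orderOf t = 2) (hxt : x * t = t * x) :
    Nat.card ↥(cnt1 t ⊓ nrm x) = 24 ∧ Nat.card (Sylow 3 (cnt1 t)) = 112 ∧
      ∃ w ∈ cnt1 t, w * x * w⁻¹ = x⁻¹ := by
  classical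
  have : Fact (Nat.Prime 3) := ⟨by norm_num⟩
  obtain ⟨-, hd⟩ := three_cent_card D hx ht hxt
  set C := cnt1 t
  have hxC : x ∈ C := mem_centralizer_singleton_iff.mpr hxt
  obtain ⟨n3, hn3, hmod, hS⟩ := sub_inf_normalizer_mul hx C (by rw [D.cent_invol t ht]; norm_num) hxC
  rw [D.cent_invol t ht] at hn3
  have hle : Nat.card ↥(C ⊓ nrm x) ≤ 2 * Nat.card ↥(cnt1 x ⊓ C) := by
    by_cases hall : ∃ w₀ ∈ C ⊓ nrm x, w₀ * x * w₀⁻¹ = x⁻¹
    · obtain ⟨w₀, hw₀, hinv⟩ := hall
      have hsign : ∀ w : ↥(C ⊓ nrm x), w.1 * x * w.1⁻¹ = x ∨ w.1 * x * w.1⁻¹ = x⁻¹ := fun w =>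
        conj_eq_or_inv hx ((mem_normalizer_iff.mp (mem_inf.mp w.2).2 x).mp (mem_zpowers x))
      have hmem : ∀ w : ↥(C ⊓ nrm x), ¬ (w.1 * x * w.1⁻¹ = x) → w₀⁻¹ * w.1 ∈ cnt1 x ⊓ C := fun w hw => by
        refine mem_inf.mpr ⟨mem_centralizer_singleton_iff.mpr ?_,
          mul_mem (inv_mem (mem_inf.mp hw₀).1) (mem_inf.mp w.2).1⟩
        refine mul_inv_eq_iff_eq_mul.mp ?_
        calc w₀⁻¹ * w.1 * x * (w₀⁻¹ * w.1)⁻¹ = w₀⁻¹ * (w.1 * x * w.1⁻¹) * w₀ := by group
          _ = w₀⁻¹ * (w₀ * x * w₀⁻¹) * w₀ := by rw [(hsign w).resolve_left hw, ← hinv]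
          _ = x := by group
      let f : ↥(C ⊓ nrm x) → Bool × ↥(cnt1 x ⊓ C) := fun w => if h : w.1 * x * w.1⁻¹ = x then
          (true, ⟨w.1, mem_inf.mpr ⟨mem_centralizer_singleton_iff.mpr (mul_inv_eq_iff_eq_mul.mp h),
            (mem_inf.mp w.2).1⟩⟩)
        else (false, ⟨w₀⁻¹ * w.1, hmem w h⟩)
      have hf : Function.Injective f := fun v w e => by
        simp only [f] at e
        split_ifs at e with h1 h2 h2
        · exact Subtype.ext (congrArg (fun z => (z : Bool × ↥(cnt1 x ⊓ C)).2.1) e)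
        · exact absurd (congrArg Prod.fst e) (by simp)
        · exact absurd (congrArg Prod.fst e) (by simp)
        · exact Subtype.ext (mul_left_cancel (congrArg (fun z => (z : Bool × ↥(cnt1 x ⊓ C)).2.1) e))
      have := Nat.card_le_card_of_injective f hf
      rw [Nat.card_prod] at this
      simpa using this
    · push Not at hall
      have : C ⊓ nrm x ≤ cnt1 x ⊓ C := fun w hw => mem_inf.mpr ⟨mem_centralizer_singleton_iff.mpr
        (mul_inv_eq_iff_eq_mul.mp ((conj_eq_or_inv hx ((mem_normalizer_iff.mp (mem_inf.mp hw).2 x).mp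
          (mem_zpowers x))).resolve_right (hall w hw))), (mem_inf.mp hw).1⟩
      have := Nat.le_of_dvd Nat.card_pos (card_dvd_of_le this)
      omega
  have hge : cnt1 x ⊓ C ≤ C ⊓ nrm x := le_inf inf_le_right (inf_le_left.trans (cnt1_le_nrm x))
  have h12 : 12 ∣ Nat.card ↥(C ⊓ nrm x) := hd ▸ card_dvd_of_le hge
  rw [hd] at hle
  have hN : Nat.card ↥(C ⊓ nrm x) = 24 := by
    obtain ⟨c, hc⟩ := h12
    have : c ≤ 2 := by omega
    interval_cases c <;> rw [hc] at hn3 <;> omega
  refine ⟨hN, by rw [hS]; rw [hN] at hn3; omega, ?_⟩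
  by_contra hno
  push Not at hno
  have hle' : C ⊓ nrm x ≤ cnt1 x ⊓ C := fun w hw => mem_inf.mpr ⟨mem_centralizer_singleton_iff.mpr
    (mul_inv_eq_iff_eq_mul.mp ((conj_eq_or_inv hx ((mem_normalizer_iff.mp (mem_inf.mp hw).2 x).mp
      (mem_zpowers x))).resolve_right (hno w (mem_inf.mp hw).1))), (mem_inf.mp hw).1⟩
  have := Nat.le_of_dvd Nat.card_pos (card_dvd_of_le hle')
  omega

end Cfsg.Agent.Order10200960
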