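/-
The largest normal 2-subgroup of the centraliser of an involution, in a group with the local data
of `M₂₃`: it has order 16.

Main results (namespace `Cfsg.Agent.Order10200960`): `core`, `card_core`, `normal_cases`, `core_eq`,
`core_conj`, `core_abelian`, `centralizer_core`.
-/
import Cfsg.Agent.Lib.Order10200960.ThreeCent
import Cfsg.Agent.Lib.PLocal.Basic
import Cfsg.Agent.Lib.PLocal.Action
import Cfsg.Agent.Lib.SmallOrders.Orders.BetweenSpecial

set_option autoImplicit false

open Subgroup Cfsg Cfsg.Agent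

namespace Cfsg.Agent.Order10200960

open SmallOrders

variable {G : Type*} [Group G]

/-- The largest normal 2-subgroup of the centraliser of `t`, as a subgroup of `G`. -/
def core (t : G) : Subgroup G := (Cfsg.pCore 2 (cnt1 t)).map (cnt1 t).subtype

theorem core_le (t : G) : core t ≤ cnt1 t := map_subtype_le _

theorem normalizes_core (t : G) : cnt1 t ≤ normalizer ((core t : Subgroup G) : Set G) :=
  le_normalizer.trans (Cores.normalizer_le_normalizer_map _)

theorem isPGroup_core (t : G) : IsPGroup 2 (core t) := (Cores.isPGroup_pCore 2 _).map _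

theorem le_core {t : G} {L : Subgroup G} (hL : L ≤ cnt1 t)
    (hn : cnt1 t ≤ normalizer (L : Set G)) (hp : IsPGroup 2 L) : L ≤ core t := by
  have h := Cores.le_pCore (p := 2) (Cores.subgroupOf_normal_of_le_normalizer hn)
    (hp.of_equiv (subgroupOfEquivOfLe hL).symm)
  exact (map_subgroupOf_eq_of_le hL).ge.trans (map_mono h)

theorem order_dvd_card {K : Subgroup G} {y : G} (h : y ∈ K) : orderOf y ∣ Nat.card K :=
  orderOf_mk y h ▸ orderOf_dvd_natCard (⟨y, h⟩ : K)

theorem conj_mem_of_normalizes {H L : Subgroup G} (hn : H ≤ normalizer (L : Set G)) {g y : G}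
    (hg : g ∈ H) (hy : y ∈ L) : g * y * g⁻¹ ∈ L :=
  (mem_normalizer_iff.mp (hn hg) y).mp hy

/-- A subgroup of a group with Sylow `p`-subgroup of order `p` that it normalises: Frattini. -/
theorem card_normal_mul [Finite G] {p : ℕ} [Fact p.Prime] {C L : Subgroup G} (hL : L ≤ C)
    (hn : C ≤ normalizer (L : Set G)) (hp2 : ¬ p ^ 2 ∣ Nat.card C) {a : G} (ha : orderOf a = p)
    (haL : a ∈ L) : Nat.card C * Nat.card ↥(L ⊓ nrm a) = Nat.card L * Nat.card ↥(C ⊓ nrm a) := by
  have hp2L : ¬ p ^ 2 ∣ Nat.card L := fun h => hp2 (h.trans (card_dvd_of_le hL))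
  have hsup : L ⊔ (C ⊓ nrm a) = C := by
    refine le_antisymm (sup_le hL inf_le_left) fun c hc => ?_
    obtain ⟨u, hu, he⟩ := exists_conj_in hp2L ha
      (b := c * a * c⁻¹) ((orderOf_injective (MulAut.conj c).toMonoidHom (MulEquiv.injective _) a).trans ha)
      haL (conj_mem_of_normalizes hn hc haL)
    have h1 : u⁻¹ * c ∈ C ⊓ nrm a := by
      refine mem_inf.mpr ⟨mul_mem (inv_mem (hL hu)) hc, mem_normalizer_fintype fun y hy => ?_⟩
      obtain ⟨i, rfl⟩ := mem_zpowers_iff.mp hy
      have hm : c * a * c⁻¹ ∈ zpowers (u * a * u⁻¹) := he ▸ mem_zpowers _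
      obtain ⟨j, hj⟩ := mem_zpowers_iff.mp hm
      rw [← conj_zpow]
      refine zpow_mem (mem_zpowers_iff.mpr ⟨j, ?_⟩) i
      calc a ^ j = u⁻¹ * (u * a * u⁻¹) ^ j * u := by rw [conj_zpow]; group
        _ = u⁻¹ * c * a * (u⁻¹ * c)⁻¹ := by rw [hj]; group
    have := mul_mem (mem_sup_left hu : u ∈ L ⊔ (C ⊓ nrm a)) (mem_sup_right h1)
    simpa using this
  have h := PLocal.card_sup_mul_card_inf (inf_le_left.trans hn : C ⊓ nrm a ≤ normalizer (L : Set G))
  rw [hsup, ← inf_assoc, inf_eq_left.mpr hL] at h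
  exact h

/-- Fixed points of an element of prime order on a subgroup it normalises. -/
theorem modEq_inf [Finite G] {p : ℕ} [Fact p.Prime] {a : G} (ha : orderOf a = p) (K : Subgroup G)
    (hK : ∀ y ∈ K, a * y * a⁻¹ ∈ K) : Nat.card K ≡ Nat.card ↥(K ⊓ cnt1 a) [MOD p] := by
  refine Nat.ModEq.trans (Order95040.card_modEq_commute ha (K : Set G) hK) ?_
  have h : ∀ g : G, (g ∈ (K : Set G) ∧ a * g = g * a) ↔ g ∈ K ⊓ cnt1 a := fun g => by
    rw [mem_inf, mem_centralizer_singleton_iff]
    exact and_congr (Iff.rfl : g ∈ K ↔ g ∈ K) eq_comm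
  rw [Nat.card_congr (Equiv.subtypeEquivRight h)]

variable [Finite G] (D : LocalData G)
include D

theorem mem_core_self {t : G} (ht : orderOf t = 2) : t ∈ core t := by
  refine le_core (zpowers_le.mpr (mem_centralizer_singleton_iff.mpr rfl)) ?_
    (IsPGroup.of_card (n := 1) (by rw [Nat.card_zpowers, ht, pow_one])) (mem_zpowers t)
  refine fun g hg => centralizer_le_normalizer _ ?_
  rw [centralizer_zpowers]
  exact hg

theorem card_inf_seven {t a : G} (ht : orderOf t = 2) (ha : orderOf a = 7) (hta : t * a = a * t)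
    {K : Subgroup G} (hK : IsPGroup 2 K) :
    Nat.card ↥(K ⊓ cnt1 a) ≤ 2 ∧ K ⊓ cnt1 a ≤ zpowers t := by
  have : Fact (Nat.Prime 2) := ⟨by norm_num⟩
  obtain ⟨k, hk⟩ := (hK.to_le (inf_le_left : K ⊓ cnt1 a ≤ K)).exists_card_eq
  have hd : Nat.card ↥(K ⊓ cnt1 a) ∣ 14 := D.cent_seven a ha ▸ card_dvd_of_le inf_le_right
  have hk1 : k ≤ 1 := by
    by_contra h
    rw [hk] at hd
    have := (pow_dvd_pow 2 (show 2 ≤ k by omega)).trans hd
    norm_num at this
  refine ⟨by rw [hk]; exact (Nat.pow_le_pow_right two_pos hk1).trans_eq (pow_one 2), fun y hy => ?_⟩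
  rcases eq_or_ne y 1 with rfl | hy1
  · exact one_mem _
  · have h2 : y ^ 2 ^ k = 1 := by
      have h := pow_card_eq_one' (x := (⟨y, hy⟩ : ↥(K ⊓ cnt1 a)))
      rw [hk] at h
      exact congrArg Subtype.val h
    interval_cases k
    · simp at h2
      exact absurd h2 hy1
    · exact invol_unique D ha (orderOf_eq_prime h2 hy1) ht
        (mem_centralizer_singleton_iff.mp (mem_inf.mp hy).2) hta ▸ mem_zpowers y

theorem normal_cases {t : G} (ht : orderOf t = 2) {L : Subgroup G} (hL : L ≤ cnt1 t)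
    (hn : cnt1 t ≤ normalizer (L : Set G)) (htL : t ∈ L) :
    IsPGroup 2 L ∨ L = cnt1 t ∨ Nat.card L = 896 := by
  have : Fact (Nat.Prime 3) := ⟨by norm_num⟩
  have : Fact (Nat.Prime 7) := ⟨by norm_num⟩
  have hC := D.cent_invol t ht
  have hdvd : Nat.card L ∣ 2 ^ 7 * 21 := by rw [show 2 ^ 7 * 21 = 2688 by norm_num, ← hC]; exact card_dvd_of_le hL
  have seven : 7 ∣ Nat.card L → L = cnt1 t ∨ Nat.card L = 896 := fun h7 => by
    obtain ⟨a, ha⟩ := exists_prime_orderOf_dvd_card' (G := L) 7 h7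
    have ha' : orderOf (a : G) = 7 := by rw [orderOf_coe, ha]
    have hta : t * a = a * t := (mem_centralizer_singleton_iff.mp (hL a.2)).symm
    have h := card_normal_mul hL hn (by rw [hC]; norm_num) ha' a.2
    rw [hC, inf_eq_right.mpr (seven_norm_le D ht ha' hta), D.norm_seven _ ha'] at h
    have h14 : 14 ∣ Nat.card ↥(L ⊓ nrm (a : G)) := by
      refine (Nat.Coprime.mul_dvd_of_dvd_of_dvd (by norm_num : Nat.Coprime 2 7) ?_ ?_)
      · rw [← ht]
        exact order_dvd_card (mem_inf.mpr ⟨htL, cnt1_le_nrm _ (mem_centralizer_singleton_iff.mpr hta)⟩)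
      · rw [← ha']
        exact order_dvd_card (mem_inf.mpr ⟨a.2, le_normalizer (mem_zpowers _)⟩)
    have h42 : Nat.card ↥(L ⊓ nrm (a : G)) ∣ 42 := D.norm_seven _ ha' ▸ card_dvd_of_le inf_le_right
    obtain ⟨c, hc⟩ := h14
    rw [hc] at h h42
    have hc3 : c ∣ 3 := (Nat.mul_dvd_mul_iff_left (by norm_num : 0 < 14)).mp h42
    rcases (Nat.dvd_prime (by norm_num)).mp hc3 with rfl | rfl
    · exact Or.inr (by omega)
    · exact Or.inl (eq_of_le_of_card_ge hL (by omega))
  by_cases h3 : 3 ∣ Nat.card L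
  · obtain ⟨x, hx⟩ := exists_prime_orderOf_dvd_card' (G := L) 3 h3
    have hx' : orderOf (x : G) = 3 := by rw [orderOf_coe, hx]
    have hxt : (x : G) * t = t * x := mem_centralizer_singleton_iff.mp (hL x.2)
    have h := card_normal_mul hL hn (by rw [hC]; norm_num) hx' x.2
    obtain ⟨h24, -, -⟩ := three_norm_card D hx' ht hxt
    rw [hC, h24] at h
    have h7 : 7 ∣ Nat.card L :=
      ((show Nat.Prime 7 by norm_num).dvd_mul.mp (h ▸ (show 7 ∣ 2688 by norm_num).mul_right _)).resolve_right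
        (by norm_num)
    rcases seven h7 with e | e
    · exact Or.inr (Or.inl e)
    · rw [e] at h3
      norm_num at h3
  · by_cases h7 : 7 ∣ Nat.card L
    · exact Or.inr (seven h7)
    · have hco : Nat.Coprime (Nat.card L) 21 := Nat.Coprime.mul_right
        (((show Nat.Prime 3 by norm_num).coprime_iff_not_dvd.mpr h3).symm)
        (((show Nat.Prime 7 by norm_num).coprime_iff_not_dvd.mpr h7).symm)
      obtain ⟨k, -, hk⟩ := (Nat.dvd_prime_pow Nat.prime_two).mp (hco.dvd_of_dvd_mul_right hdvd)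
      exact Or.inl (IsPGroup.of_card hk)

/-- A 2-subgroup normal in the centraliser of an involution does not have odd quotient. -/
theorem card_core_ne {t : G} (ht : orderOf t = 2) : Nat.card (core t) ≠ 128 := fun h => by
  have : Fact (Nat.Prime 3) := ⟨by norm_num⟩
  obtain ⟨x, hx⟩ := exists_prime_orderOf_dvd_card' (G := cnt1 t) 3 (by rw [D.cent_invol t ht]; norm_num)
  have hx' : orderOf (x : G) = 3 := by rw [orderOf_coe, hx]
  obtain ⟨-, -, w, hw, hwx⟩ := three_norm_card D hx' ht (mem_centralizer_singleton_iff.mp x.2)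
  set R := Cfsg.pCore 2 (cnt1 t)
  have hR : Nat.card R = 128 := by rw [← h]; exact (Cores.card_map_subtype _ _).symm
  have hidx : R.index = 21 := by
    have := R.card_mul_index
    rw [hR, D.cent_invol t ht] at this
    omega
  have hw21 : (⟨w, hw⟩ : cnt1 t) ^ 21 ∈ R := hidx ▸ R.pow_index_mem _
  have hwn : ∀ n : ℕ, w ^ (2 * n + 1) * x * (w ^ (2 * n + 1))⁻¹ = (x : G)⁻¹ := by
    intro n
    induction n with
    | zero => simpa using hwx
    | succ n ih =>
      have h2 : w * (x : G)⁻¹ * w⁻¹ = x := by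
        calc w * (x : G)⁻¹ * w⁻¹ = (w * x * w⁻¹)⁻¹ := by group
          _ = x := by rw [hwx, inv_inv]
      calc w ^ (2 * (n + 1) + 1) * x * (w ^ (2 * (n + 1) + 1))⁻¹
          = w * (w * (w ^ (2 * n + 1) * x * (w ^ (2 * n + 1))⁻¹) * w⁻¹) * w⁻¹ := by
            rw [show 2 * (n + 1) + 1 = ((2 * n + 1) + 1) + 1 by omega, pow_succ', pow_succ']; group
        _ = (x : G)⁻¹ := by rw [ih, h2, hwx]
  have hwx21 := hwn 10
  norm_num at hwx21
  have hmem : (⟨w, hw⟩ : cnt1 t) ^ 21 * (x * ((⟨w, hw⟩ : cnt1 t) ^ 21)⁻¹ * x⁻¹) ∈ R :=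
    R.mul_mem hw21 ((Cores.pCore_normal 2 (cnt1 t)).conj_mem _ (R.inv_mem hw21) x)
  have he : (⟨w, hw⟩ : cnt1 t) ^ 21 * (x * ((⟨w, hw⟩ : cnt1 t) ^ 21)⁻¹ * x⁻¹) = x⁻¹ * x⁻¹ := by
    apply Subtype.ext
    push_cast
    rw [← hwx21]
    group
  rw [he] at hmem
  have hx2 : (x⁻¹ * x⁻¹ : cnt1 t) = x := by
    have := pow_orderOf_eq_one x
    rw [hx, pow_succ, pow_two] at this
    rw [← mul_inv_rev, inv_eq_iff_mul_eq_one, this]
  rw [hx2] at hmem
  have := orderOf_dvd_natCard (⟨x, hmem⟩ : R)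
  rw [orderOf_mk, hx, hR] at this
  norm_num at this

theorem card_ne_896 {t : G} (ht : orderOf t = 2) {L : Subgroup G} (hL : L ≤ cnt1 t)
    (hn : cnt1 t ≤ normalizer (L : Set G)) (htL : t ∈ L) : Nat.card L ≠ 896 := fun h => by
  have : Fact (Nat.Prime 7) := ⟨by norm_num⟩
  obtain ⟨a, ha⟩ := exists_prime_orderOf_dvd_card' (G := L) 7 (by rw [h]; norm_num)
  have ha' : orderOf (a : G) = 7 := by rw [orderOf_coe, ha]
  have hq : ∀ Q : Sylow 7 L, Nat.card (Q : Subgroup L) = 7 := fun Q => by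
    rw [card_sylow_subgroup (m := 128) (e := 1) (by rw [h]; norm_num) (by norm_num) Q, pow_one]
  obtain ⟨P, hP⟩ := exists_sylow_eq_zpowers hq ha
  obtain ⟨m, hm, hmod, hS⟩ := sub_inf_normalizer_mul ha' L (by rw [h]; norm_num) a.2
  have hN := card_normal_mul hL hn (by rw [D.cent_invol t ht]; norm_num) ha' a.2
  rw [D.cent_invol t ht, h, inf_eq_right.mpr (seven_norm_le D ht ha'
    (mem_centralizer_singleton_iff.mp (hL a.2)).symm), D.norm_seven _ ha'] at hN
  have h14 : L ⊓ cnt1 (a : G) = L ⊓ nrm (a : G) := by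
    refine eq_of_le_of_card_ge (inf_le_inf_left _ (cnt1_le_nrm _)) ?_
    have hle : cnt1 (a : G) ≤ L := by
      refine (eq_of_le_of_card_ge (inf_le_right : L ⊓ cnt1 (a : G) ≤ cnt1 (a : G)) ?_).ge.trans inf_le_left
      rw [D.cent_seven _ ha']
      refine Nat.le_of_dvd Nat.card_pos (Nat.Coprime.mul_dvd_of_dvd_of_dvd (by norm_num : Nat.Coprime 2 7) ?_ ?_)
      · rw [← ht]
        exact order_dvd_card (mem_inf.mpr ⟨htL, mem_centralizer_singleton_iff.mpr
          (mem_centralizer_singleton_iff.mp (hL a.2)).symm⟩)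
      · rw [← ha']
        exact order_dvd_card (mem_inf.mpr ⟨a.2, mem_centralizer_singleton_iff.mpr rfl⟩)
    rw [inf_eq_right.mpr hle, D.cent_seven _ ha']
    omega
  have hb : normalizer ((P : Subgroup L) : Set L) ≤ centralizer ((P : Subgroup L) : Set L) := by
    intro g hg
    rw [hP] at hg ⊢
    rw [centralizer_zpowers, mem_centralizer_singleton_iff]
    have hg' : (g : G) ∈ L ⊓ nrm (a : G) := by
      refine mem_inf.mpr ⟨g.2, mem_normalizer_fintype fun y hy => ?_⟩
      obtain ⟨i, rfl⟩ := mem_zpowers_iff.mp hy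
      obtain ⟨j, hj⟩ := mem_zpowers_iff.mp ((mem_normalizer_iff.mp hg a).mp (mem_zpowers a))
      rw [← conj_zpow]
      exact zpow_mem (mem_zpowers_iff.mpr ⟨j, by simpa using congrArg Subtype.val hj⟩) i
    rw [← h14] at hg'
    exact Subtype.ext (mem_centralizer_singleton_iff.mp (mem_inf.mp hg').2)
  have hc := MonoidHom.ker_transferSylow_isComplement' P hb
  set K := (MonoidHom.transferSylow P hb).ker
  have hKc := hc.card_mul_card
  rw [hq P, h] at hKc
  have hK : Nat.card K = 128 := by omega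
  have hKp : K ≤ Cfsg.pCore 2 L :=
    Cores.le_pCore (MonoidHom.normal_ker _) (IsPGroup.of_card (n := 7) (by rw [hK]; norm_num))
  have h1 : (Cfsg.pCore 2 L).map L.subtype ≤ core t :=
    le_core ((map_subtype_le _).trans hL) (hn.trans (Cores.normalizer_le_normalizer_map _))
      ((Cores.isPGroup_pCore 2 _).map _)
  have h2 : 128 ≤ Nat.card (core t) := by
    refine le_trans ?_ (card_le_of_le h1)
    rw [Cores.card_map_subtype, ← hK]
    exact card_le_of_le hKp
  have : Fact (Nat.Prime 2) := ⟨by norm_num⟩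
  obtain ⟨k, hk⟩ := (isPGroup_core t).exists_card_eq
  have h3 : Nat.card (core t) ∣ 2 ^ 7 * 21 := by
    rw [show 2 ^ 7 * 21 = 2688 by norm_num, ← D.cent_invol t ht]; exact card_dvd_of_le (core_le t)
  have h4 : Nat.card (core t) ∣ 2 ^ 7 :=
    (hk ▸ (Nat.Coprime.pow_left _ (by norm_num : Nat.Coprime 2 21))).dvd_of_dvd_mul_right h3
  exact card_core_ne D ht (le_antisymm (Nat.le_of_dvd (by norm_num) h4) h2)

theorem card_core {t : G} (ht : orderOf t = 2) : Nat.card (core t) = 16 := by
  have : Fact (Nat.Prime 2) := ⟨by norm_num⟩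
  have : Fact (Nat.Prime 7) := ⟨by norm_num⟩
  obtain ⟨a, ha, hta⟩ := exists_seven D ht
  obtain ⟨k, hk⟩ := (isPGroup_core t).exists_card_eq
  have haC : a ∈ cnt1 t := mem_centralizer_singleton_iff.mpr hta.symm
  have hmod := modEq_inf ha (core t) (fun y hy => conj_mem_of_normalizes (normalizes_core t) haC hy)
  have hI : Nat.card ↥(core t ⊓ cnt1 a) = 2 := by
    refine le_antisymm (card_inf_seven D ht ha hta (isPGroup_core t)).1 ?_
    rw [← ht]
    exact Nat.le_of_dvd Nat.card_pos
      (order_dvd_card (mem_inf.mpr ⟨mem_core_self D ht, mem_centralizer_singleton_iff.mpr hta⟩))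
  rw [hI, hk] at hmod
  have h3 : 2 ^ k ∣ 2 ^ 7 := by
    refine (Nat.Coprime.pow_left _ (by norm_num : Nat.Coprime 2 21)).dvd_of_dvd_mul_right ?_
    rw [show 2 ^ 7 * 21 = 2688 by norm_num, ← D.cent_invol t ht, ← hk]
    exact card_dvd_of_le (core_le t)
  have hk7 : k ≤ 7 := (Nat.pow_dvd_pow_iff_le_right (by norm_num)).mp h3
  have hne := card_core_ne D ht
  have hcases : k = 1 ∨ k = 4 := by
    rw [hk] at hne
    unfold Nat.ModEq at hmod
    interval_cases k <;> simp_all
  rcases hcases with rfl | rfl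
  swap
  · rw [hk]; norm_num
  exfalso
  set C := cnt1 t with hCd
  set R := Cfsg.pCore 2 C
  have hR : Nat.card R = 2 := by rw [← Cores.card_map_subtype]; exact hk
  let Q := C ⧸ R
  have hQ : Nat.card Q = 1344 := by
    have := R.card_eq_card_quotient_mul_card_subgroup
    rw [hR, D.cent_invol t ht] at this
    show Nat.card (C ⧸ R) = 1344
    omega
  have : Nontrivial Q := (Finite.one_lt_card_iff_nontrivial).mp (by rw [hQ]; norm_num)
  have hsimple : IsSimpleGroup Q := ⟨fun N hNn => by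
    set L₀ := N.comap (QuotientGroup.mk' R) with hL₀
    set L := L₀.map C.subtype with hLd
    have hLn : C ≤ normalizer (L : Set G) := by
      refine fun g hg => mem_normalizer_fintype fun y hy => ?_
      obtain ⟨y₀, hy₀, rfl⟩ := mem_map.mp hy
      exact mem_map.mpr ⟨⟨g, hg⟩ * y₀ * ⟨g, hg⟩⁻¹, (hNn.comap _).conj_mem _ hy₀ _, rfl⟩
    have hRL : R ≤ L₀ := by
      rw [hL₀]
      intro y hy
      rw [mem_comap, show QuotientGroup.mk' R y = 1 from (QuotientGroup.eq_one_iff y).mpr hy]
      exact one_mem _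
    have htL : t ∈ L := map_mono hRL (mem_core_self D ht)
    have back : N = L₀.map (QuotientGroup.mk' R) :=
      (map_comap_eq_self_of_surjective (QuotientGroup.mk'_surjective R) N).symm
    rcases normal_cases D ht (map_subtype_le _) hLn htL with hp | hp | hp
    · left
      have h1 : L ≤ core t := le_core (map_subtype_le _) hLn hp
      have h2 : L₀ ≤ R := (map_le_map_iff_of_injective C.subtype_injective).mp h1
      rw [back, Subgroup.map_eq_bot_iff, QuotientGroup.ker_mk']
      exact h2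
    · right
      have h2 : L₀ = ⊤ := by
        refine eq_top_of_card_eq _ ?_
        rw [← Cores.card_map_subtype]
        exact congrArg (fun K : Subgroup G => Nat.card K) hp
      rw [back, h2, map_top_of_surjective _ (QuotientGroup.mk'_surjective R)]
    · exact absurd hp (card_ne_896 D ht (map_subtype_le _) hLn htL)⟩
  have : Fact (Nat.Prime 3) := ⟨by norm_num⟩
  obtain ⟨x, hx⟩ := exists_prime_orderOf_dvd_card' (G := C) 3 (by rw [D.cent_invol t ht]; norm_num)
  have hx' : orderOf (x : G) = 3 := by rw [orderOf_coe, hx]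
  obtain ⟨-, -, w, hw, hwx⟩ := three_norm_card D hx' ht (mem_centralizer_singleton_iff.mp x.2)
  refine SmallOrders.BetweenSpecial.card_ne_1344 (G := Q) (fun hc => ?_) hQ
  have hcom : (QuotientGroup.mk' R) (⟨w, hw⟩ * x * ⟨w, hw⟩⁻¹ * x⁻¹) = 1 := by
    simp only [map_mul, map_inv]
    rw [hc.is_comm.comm (QuotientGroup.mk' R ⟨w, hw⟩) (QuotientGroup.mk' R x)]
    group
  have hmem : (⟨w, hw⟩ : C) * x * ⟨w, hw⟩⁻¹ * x⁻¹ ∈ R := (QuotientGroup.eq_one_iff _).mp hcom
  have he : (⟨w, hw⟩ : C) * x * ⟨w, hw⟩⁻¹ * x⁻¹ = x := by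
    apply Subtype.ext
    push_cast
    rw [hwx]
    have := pow_orderOf_eq_one (x : G)
    rw [hx', pow_succ, pow_two] at this
    rw [← mul_inv_rev, inv_eq_iff_mul_eq_one, this]
  rw [he] at hmem
  have := orderOf_dvd_natCard (⟨x, hmem⟩ : R)
  rw [orderOf_mk, hx, hR] at this
  norm_num at this

theorem normal_cases' {t : G} (ht : orderOf t = 2) {L : Subgroup G} (hL : L ≤ cnt1 t)
    (hn : cnt1 t ≤ normalizer (L : Set G)) (htL : t ∈ L) : L ≤ core t ∨ L = cnt1 t := by
  rcases normal_cases D ht hL hn htL with h | h | h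
  · exact Or.inl (le_core hL hn h)
  · exact Or.inr h
  · exact absurd h (card_ne_896 D ht hL hn htL)

theorem core_eq {t : G} (ht : orderOf t = 2) {L : Subgroup G} (hL : L ≤ cnt1 t)
    (hn : cnt1 t ≤ normalizer (L : Set G)) (hc : Nat.card L = 16) : L = core t :=
  eq_of_le_of_card_ge (le_core hL hn (IsPGroup.of_card (n := 4) (by rw [hc]; norm_num)))
    (by rw [card_core D ht, hc])

theorem core_conj {t : G} (ht : orderOf t = 2) (g : G) :
    core (g * t * g⁻¹) = (core t).map (MulAut.conj g).toMonoidHom := by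
  have ht' : orderOf (g * t * g⁻¹) = 2 :=
    (orderOf_injective (MulAut.conj g).toMonoidHom (MulEquiv.injective _) t).trans ht
  have hC : cnt1 (g * t * g⁻¹) = (cnt1 t).map (MulAut.conj g).toMonoidHom := by
    ext y
    rw [mem_map_equiv, MulAut.conj_symm_apply, mem_centralizer_singleton_iff, mem_centralizer_singleton_iff]
    constructor <;> intro h
    · calc g⁻¹ * y * g * t = g⁻¹ * (y * (g * t * g⁻¹)) * g := by group
        _ = g⁻¹ * (g * t * g⁻¹ * y) * g := by rw [h]
        _ = t * (g⁻¹ * y * g) := by group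
    · calc y * (g * t * g⁻¹) = g * (g⁻¹ * y * g * t) * g⁻¹ := by group
        _ = g * (t * (g⁻¹ * y * g)) * g⁻¹ := by rw [h]
        _ = g * t * g⁻¹ * y := by group
  refine (core_eq D ht' ?_ ?_ ?_).symm
  · rw [hC]; exact map_mono (core_le t)
  · rw [hC, ← map_equiv_normalizer_eq]
    exact map_mono (normalizes_core t)
  · rw [card_map_of_injective (MulEquiv.injective _), card_core D ht]

theorem centralizer_core_of_comm {t : G} (ht : orderOf t = 2)
    (hab : core t ≤ centralizer ((core t : Subgroup G) : Set G)) :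
    centralizer ((core t : Subgroup G) : Set G) = core t := by
  refine le_antisymm ?_ hab
  have hle : centralizer ((core t : Subgroup G) : Set G) ≤ cnt1 t :=
    centralizer_le (Set.singleton_subset_iff.mpr (mem_core_self D ht))
  have hn : cnt1 t ≤ normalizer ((centralizer ((core t : Subgroup G) : Set G) : Subgroup G) : Set G) :=
    (normalizes_core t).trans (PLocal.normalizer_le_normalizer_centralizer _)
  rcases normal_cases' D ht hle hn (hab (mem_core_self D ht)) with h | h
  · exact h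
  · exfalso
    obtain ⟨a, ha, hta⟩ := exists_seven D ht
    have haC : a ∈ cnt1 t := mem_centralizer_singleton_iff.mpr hta.symm
    rw [← h] at haC
    have h16 : core t ≤ cnt1 a := fun y hy =>
      mem_centralizer_singleton_iff.mpr (mem_centralizer_iff.mp haC y hy)
    have := (card_inf_seven D ht ha hta (isPGroup_core t)).1
    rw [inf_eq_left.mpr h16, card_core D ht] at this
    omega

end Cfsg.Agent.Order10200960
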