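/-
The largest normal 2-subgroup of the centraliser of an involution is elementary abelian, in a group
with the local data of `M₂₃`.

Main results (namespace `Cfsg.Agent.Order10200960`): `invariant_card`, `core_comm`, `core_sq`,
`centralizer_core`.
-/
import Cfsg.Agent.Lib.Order10200960.InvolCore

set_option autoImplicit false

open Subgroup Cfsg Cfsg.Agent

namespace Cfsg.Agent.Order10200960

open SmallOrders

variable {G : Type*} [Group G] [Finite G] (D : LocalData G)
include D

/-- Orders of the subgroups of `core t` normalised by an element of order seven. -/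
theorem invariant_card {t a : G} (ht : orderOf t = 2) (ha : orderOf a = 7) (hta : t * a = a * t)
    {K : Subgroup G} (hK : K ≤ core t) (hinv : ∀ y ∈ K, a * y * a⁻¹ ∈ K) :
    (t ∈ K → Nat.card K = 2 ∨ Nat.card K = 16) ∧ (t ∉ K → Nat.card K = 1 ∨ Nat.card K = 8) := by
  have : Fact (Nat.Prime 7) := ⟨by norm_num⟩
  have h := modEq_inf ha K hinv
  obtain ⟨-, hle⟩ := card_inf_seven D ht ha hta ((isPGroup_core t).to_le hK)
  obtain ⟨k, hk, hk'⟩ := (Nat.dvd_prime_pow Nat.prime_two).mp
    (show Nat.card K ∣ 2 ^ 4 by rw [show 2 ^ 4 = 16 by norm_num, ← card_core D ht]; exact card_dvd_of_le hK)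
  constructor <;> intro htK
  · have he : K ⊓ cnt1 a = zpowers t := le_antisymm hle
      (zpowers_le.mpr (mem_inf.mpr ⟨htK, mem_centralizer_singleton_iff.mpr hta⟩))
    rw [he, Nat.card_zpowers, ht, hk'] at h
    unfold Nat.ModEq at h
    interval_cases k <;> omega
  · have he : K ⊓ cnt1 a = ⊥ := by
      rw [eq_bot_iff]
      intro y hy
      obtain ⟨i, hi⟩ := mem_powers_iff_mem_zpowers.mpr (hle hy)
      change t ^ i = y at hi
      rw [← hi, ← pow_mod_orderOf, ht] at hy ⊢
      rcases Nat.mod_two_eq_zero_or_one i with e | e <;> rw [e] at hy ⊢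
      · simp
      · exact absurd (mem_inf.mp hy).1 (by simpa using htK)
    rw [he, card_bot, hk'] at h
    unfold Nat.ModEq at h
    interval_cases k <;> omega

theorem core_comm {t : G} (ht : orderOf t = 2) :
    ∀ y ∈ core t, ∀ z ∈ core t, y * z = z * y := by
  classical
  have : Fact (Nat.Prime 2) := ⟨by norm_num⟩
  obtain ⟨a, ha, hta⟩ := exists_seven D ht
  have haC : a ∈ cnt1 t := mem_centralizer_singleton_iff.mpr hta.symm
  set M := core t with hM
  have hainv : ∀ y ∈ M, a * y * a⁻¹ ∈ M := fun y hy =>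
    conj_mem_of_normalizes (normalizes_core t) haC hy
  have hM16 : Nat.card M = 16 := card_core D ht
  set Z := M ⊓ centralizer (M : Set G) with hZ
  have htZ : t ∈ Z := mem_inf.mpr ⟨mem_core_self D ht, mem_centralizer_iff.mpr fun y hy =>
    mem_centralizer_singleton_iff.mp (core_le t hy)⟩
  have hZinv : ∀ y ∈ Z, a * y * a⁻¹ ∈ Z := by
    intro y hy
    refine mem_inf.mpr ⟨hainv y (mem_inf.mp hy).1, mem_centralizer_iff.mpr fun m hm => ?_⟩
    have hm' : a⁻¹ * m * a ∈ M := by
      have h := conj_mem_of_normalizes (normalizes_core t) (inv_mem haC) hm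
      simpa using h
    have := mem_centralizer_iff.mp (mem_inf.mp hy).2 _ hm'
    calc m * (a * y * a⁻¹) = a * (a⁻¹ * m * a * y) * a⁻¹ := by group
      _ = a * (y * (a⁻¹ * m * a)) * a⁻¹ := by rw [this]
      _ = a * y * a⁻¹ * m := by group
  rcases (invariant_card D ht ha hta inf_le_left hZinv).1 htZ with h2 | h16
  swap
  · intro y hy z hz
    have hy' : y ∈ Z := (eq_of_le_of_card_ge (inf_le_left : Z ≤ M) (by rw [hM16, h16])).ge hy
    exact (mem_centralizer_iff.mp (mem_inf.mp hy').2 z hz).symm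
  exfalso
  -- an element centralised by a subgroup of index two
  have hcent : (center M).map M.subtype = Z := by
    ext y
    constructor
    · intro h
      obtain ⟨z, hz, rfl⟩ := mem_map.mp h
      exact mem_inf.mpr ⟨z.2, mem_centralizer_iff.mpr fun m hm =>
        congrArg Subtype.val (mem_center_iff.mp hz ⟨m, hm⟩)⟩
    · intro h
      exact mem_map.mpr ⟨⟨y, (mem_inf.mp h).1⟩, mem_center_iff.mpr fun m =>
        Subtype.ext (mem_centralizer_iff.mp (mem_inf.mp h).2 m m.2), rfl⟩
  have hc2 : Nat.card (center M) = 2 := by rw [← Cores.card_map_subtype, hcent, h2]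
  have hQ : Nat.card (M ⧸ center M) = 8 := by
    have := (center M).card_eq_card_quotient_mul_card_subgroup
    rw [hM16, hc2] at this
    omega
  have : Nontrivial (M ⧸ center M) := Finite.one_lt_card_iff_nontrivial.mp (by rw [hQ]; norm_num)
  have hQp : IsPGroup 2 (M ⧸ center M) := IsPGroup.of_card (n := 3) (by rw [hQ]; norm_num)
  have := hQp.center_nontrivial
  obtain ⟨⟨ū, hū⟩, hne⟩ := exists_ne (1 : center (M ⧸ center M))
  obtain ⟨u, rfl⟩ := QuotientGroup.mk_surjective ū
  have hu1 : u ∉ center M := fun h => hne (Subtype.ext ((QuotientGroup.eq_one_iff u).mpr h))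
  have hcu : ∀ m : M, u * m * u⁻¹ * m⁻¹ ∈ center M := fun m => by
    rw [← QuotientGroup.eq_one_iff]
    rw [QuotientGroup.mk_mul, QuotientGroup.mk_mul, QuotientGroup.mk_mul, QuotientGroup.mk_inv, QuotientGroup.mk_inv]
    rw [(mem_center_iff.mp hū (m : M ⧸ center M)).symm]
    group
  let f : M →* center M := MonoidHom.mk' (fun m => ⟨u * m * u⁻¹ * m⁻¹, hcu m⟩) fun m n => by
    apply Subtype.ext
    change u * (m * n) * u⁻¹ * (m * n)⁻¹ = u * m * u⁻¹ * m⁻¹ * (u * n * u⁻¹ * n⁻¹)
    calc u * (m * n) * u⁻¹ * (m * n)⁻¹ = u * m * u⁻¹ * (u * n * u⁻¹ * n⁻¹) * m⁻¹ := by group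
      _ = u * m * u⁻¹ * (m⁻¹ * (u * n * u⁻¹ * n⁻¹)) := by rw [mul_assoc, (mem_center_iff.mp (hcu n) m⁻¹).symm]
      _ = u * m * u⁻¹ * m⁻¹ * (u * n * u⁻¹ * n⁻¹) := by group
  set A := M ⊓ cnt1 (u : G) with hA
  have hker : f.ker.map M.subtype = A := by
    ext y
    constructor
    · intro h
      obtain ⟨z, hz, rfl⟩ := mem_map.mp h
      refine mem_inf.mpr ⟨z.2, mem_centralizer_singleton_iff.mpr ?_⟩
      have h1 : u * z * u⁻¹ * z⁻¹ = 1 := congrArg Subtype.val (MonoidHom.mem_ker.mp hz)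
      exact (congrArg Subtype.val (mul_inv_eq_iff_eq_mul.mp (mul_inv_eq_one.mp h1))).symm
    · intro h
      refine mem_map.mpr ⟨⟨y, (mem_inf.mp h).1⟩, MonoidHom.mem_ker.mpr (Subtype.ext ?_), rfl⟩
      change u * (⟨y, _⟩ : M) * u⁻¹ * (⟨y, _⟩ : M)⁻¹ = 1
      rw [mul_inv_eq_one, mul_inv_eq_iff_eq_mul]
      exact Subtype.ext (mem_centralizer_singleton_iff.mp (mem_inf.mp h).2).symm
  have hA8 : Nat.card A = 8 := by
    have hk := f.ker.card_eq_card_quotient_mul_card_subgroup
    rw [hM16, Nat.card_congr (QuotientGroup.quotientKerEquivRange f).toEquiv] at hk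
    have hr : Nat.card f.range ∣ 2 := hc2 ▸ card_subgroup_dvd_card _
    rw [← hker, Cores.card_map_subtype]
    rcases (Nat.dvd_prime Nat.prime_two).mp hr with e | e <;> rw [e] at hk
    · exfalso
      refine hu1 (mem_center_iff.mpr fun m => ?_)
      have he : f.ker = ⊤ := eq_top_of_card_eq _ (by rw [hM16]; omega)
      have h1 : u * m * u⁻¹ * m⁻¹ = 1 :=
        congrArg Subtype.val (MonoidHom.mem_ker.mp (he.ge (mem_top m)))
      exact (mul_inv_eq_iff_eq_mul.mp (mul_inv_eq_one.mp h1)).symm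
    · omega
  have huA : (u : G) ∈ A := mem_inf.mpr ⟨u.2, mem_centralizer_singleton_iff.mpr rfl⟩
  have htA : t ∈ A := mem_inf.mpr ⟨mem_core_self D ht,
    mem_centralizer_singleton_iff.mpr (mem_centralizer_singleton_iff.mp (core_le t u.2)).symm⟩
  have hut : (u : G) ≠ t := fun e => hu1 (by
    have hm : (u : G) ∈ (center M).map M.subtype := hcent.ge (e ▸ htZ)
    obtain ⟨z, hz, hz'⟩ := mem_map.mp hm
    exact Subtype.ext hz' ▸ hz)
  have hu0 : (u : G) ≠ 1 := fun e => hu1 (by rw [show u = 1 from Subtype.ext e]; exact one_mem _)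
  have ht0 : t ≠ 1 := fun e => by rw [e, orderOf_one] at ht; omega
  -- it is abelian
  have hAab : ∀ v ∈ A, ∀ w ∈ A, v * w = w * v := by
    intro v hv w hw
    set K := A ⊓ centralizer (A : Set G) with hK
    have huK : (u : G) ∈ K := mem_inf.mpr ⟨huA, mem_centralizer_iff.mpr fun y hy =>
      mem_centralizer_singleton_iff.mp (mem_inf.mp hy).2⟩
    have htK : t ∈ K := mem_inf.mpr ⟨htA, mem_centralizer_iff.mpr fun y hy =>
      mem_centralizer_singleton_iff.mp (core_le t (mem_inf.mp hy).1)⟩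
    by_cases hvK : v ∈ K
    · exact (mem_centralizer_iff.mp (mem_inf.mp hvK).2 w hw).symm
    set F := A ⊓ cnt1 v with hF
    have hKF : K ≤ F := fun y hy => mem_inf.mpr ⟨(mem_inf.mp hy).1,
      mem_centralizer_singleton_iff.mpr (mem_centralizer_iff.mp (mem_inf.mp hy).2 v hv).symm⟩
    have hvF : v ∈ F := mem_inf.mpr ⟨hv, mem_centralizer_singleton_iff.mpr rfl⟩
    have h3 : 3 ≤ Nat.card K := by
      by_contra h
      have he : zpowers t = K := eq_of_le_of_card_ge (zpowers_le.mpr htK) (by rw [Nat.card_zpowers, ht]; omega)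
      obtain ⟨n, hn⟩ := mem_powers_iff_mem_zpowers.mpr (he.ge huK)
      change t ^ n = u at hn
      rw [← pow_mod_orderOf, ht] at hn
      rcases Nat.mod_two_eq_zero_or_one n with e | e <;> rw [e] at hn
      · exact hu0 (by rw [← hn, pow_zero])
      · exact hut (by rw [← hn, pow_one])
    have hlt : Nat.card K < Nat.card F := by
      by_contra h
      exact hvK ((eq_of_le_of_card_ge hKF (by omega)).ge hvF)
    obtain ⟨i, hi, hi'⟩ := (Nat.dvd_prime_pow Nat.prime_two).mp
      (show Nat.card K ∣ 2 ^ 3 by rw [show 2 ^ 3 = 8 by norm_num, ← hA8]; exact card_dvd_of_le inf_le_left)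
    obtain ⟨j, hj, hj'⟩ := (Nat.dvd_prime_pow Nat.prime_two).mp
      (show Nat.card F ∣ 2 ^ 3 by rw [show 2 ^ 3 = 8 by norm_num, ← hA8]; exact card_dvd_of_le inf_le_left)
    have h8 : Nat.card F = 8 := by
      rw [hi'] at h3 hlt; rw [hj'] at hlt ⊢
      interval_cases i <;> interval_cases j <;> omega
    exact (mem_centralizer_singleton_iff.mp
      (mem_inf.mp ((eq_of_le_of_card_ge (inf_le_left : F ≤ A) (by rw [hA8, h8])).ge hw)).2).symm
  -- a second one
  set A' := A.map (MulAut.conj a).toMonoidHom with hA'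
  have hA'8 : Nat.card A' = 8 := by rw [hA', card_map_of_injective (MulEquiv.injective _), hA8]
  have hA'M : A' ≤ M := fun y hy => by
    obtain ⟨z, hz, rfl⟩ := mem_map.mp hy
    exact hainv z (mem_inf.mp hz).1
  have hsup : A ⊔ A' = M := by
    refine eq_of_le_of_card_ge (sup_le inf_le_left hA'M) ?_
    obtain ⟨i, hi, hi'⟩ := (Nat.dvd_prime_pow Nat.prime_two).mp
      (show Nat.card ↥(A ⊔ A') ∣ 2 ^ 4 by
        rw [show 2 ^ 4 = 16 by norm_num, ← hM16]; exact card_dvd_of_le (sup_le inf_le_left hA'M))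
    have h8 : 8 ≤ Nat.card ↥(A ⊔ A') := hA8 ▸ card_le_of_le le_sup_left
    by_contra h
    have hA'A : A' = A := by
      refine eq_of_le_of_card_ge ((le_sup_right).trans (eq_of_le_of_card_ge le_sup_left ?_).ge) (by omega)
      rw [hi'] at h h8 ⊢
      interval_cases i <;> omega
    rcases (invariant_card D ht ha hta inf_le_left
      (fun y hy => hA'A.le (mem_map_of_mem _ hy))).1 htA with e | e <;>
      rw [← hA, hA8] at e <;> omega
  have hint : A ⊓ A' ≤ Z := fun y hy => mem_inf.mpr ⟨(mem_inf.mp (mem_inf.mp hy).1).1, by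
    rw [← hsup, PLocal.centralizer_sup]
    refine mem_inf.mpr ⟨mem_centralizer_iff.mpr fun z hz => hAab z hz y (mem_inf.mp hy).1,
      mem_centralizer_iff.mpr fun z hz => ?_⟩
    obtain ⟨y', hy', rfl⟩ := mem_map.mp (mem_inf.mp hy).2
    obtain ⟨z', hz', rfl⟩ := mem_map.mp hz
    rw [← map_mul, ← map_mul, hAab z' hz' y' hy']⟩
  have h := PLocal.card_mul_card_le A A'
  rw [hsup, hA8, hA'8, hM16] at h
  have h1 := card_le_of_le hint
  rw [h2] at h1
  omega

theorem core_sq {t : G} (ht : orderOf t = 2) : ∀ y ∈ core t, y ^ 2 = 1 := by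
  classical
  have : Fact (Nat.Prime 2) := ⟨by norm_num⟩
  obtain ⟨a, ha, hta⟩ := exists_seven D ht
  have haC : a ∈ cnt1 t := mem_centralizer_singleton_iff.mpr hta.symm
  set M := core t with hM
  have hainv : ∀ y ∈ M, a * y * a⁻¹ ∈ M := fun y hy =>
    conj_mem_of_normalizes (normalizes_core t) haC hy
  let f : M →* M := MonoidHom.mk' (fun m => m ^ 2) fun m n =>
    (show Commute m n from Subtype.ext (core_comm D ht m m.2 n n.2)).mul_pow 2
  have hk := f.ker.card_eq_card_quotient_mul_card_subgroup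
  rw [Nat.card_congr (QuotientGroup.quotientKerEquivRange f).toEquiv, card_core D ht] at hk
  set P := f.ker.map M.subtype with hP
  set S := f.range.map M.subtype with hS
  have hmemP : ∀ y, y ∈ P ↔ y ∈ M ∧ y ^ 2 = 1 := fun y => by
    constructor
    · intro h
      obtain ⟨z, hz, rfl⟩ := mem_map.mp h
      exact ⟨z.2, congrArg Subtype.val (MonoidHom.mem_ker.mp hz)⟩
    · rintro ⟨h1, h2⟩
      exact mem_map.mpr ⟨⟨y, h1⟩, MonoidHom.mem_ker.mpr (Subtype.ext h2), rfl⟩
  have htP : t ∈ P := (hmemP t).mpr ⟨mem_core_self D ht, by rw [← ht, pow_orderOf_eq_one]⟩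
  rcases (invariant_card D ht ha hta (map_subtype_le _) fun y hy => (hmemP _).mpr
    ⟨hainv y ((hmemP y).mp hy).1, by rw [conj_pow, ((hmemP y).mp hy).2]; group⟩).1 htP with e | e
  · exfalso
    have e' := e
    rw [Cores.card_map_subtype] at e'
    rw [e'] at hk
    have hS8 : Nat.card S = 8 := by rw [hS, Cores.card_map_subtype]; omega
    obtain ⟨v, hv⟩ := exists_prime_orderOf_dvd_card' (G := S) 2 (by rw [hS8]; norm_num)
    have hv2 : orderOf (v : G) = 2 := by rw [orderOf_coe, hv]
    have hP2 : Nat.card P = 2 := e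
    have hvP : (v : G) ∈ P := (hmemP _).mpr ⟨map_subtype_le _ v.2, by rw [← hv2, pow_orderOf_eq_one]⟩
    have hPe : zpowers t = P := eq_of_le_of_card_ge (zpowers_le.mpr htP)
      (by rw [hP2, Nat.card_zpowers, ht])
    have hvt : (v : G) = t := by
      obtain ⟨i, hi⟩ := mem_powers_iff_mem_zpowers.mpr (hPe.ge hvP)
      change t ^ i = v at hi
      rw [← pow_mod_orderOf, ht] at hi
      rcases Nat.mod_two_eq_zero_or_one i with e' | e' <;> rw [e'] at hi
      · rw [← hi, pow_zero, orderOf_one] at hv2; omega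
      · rw [← hi, pow_one]
    have hSinv : ∀ y ∈ S, a * y * a⁻¹ ∈ S := fun y hy => by
      obtain ⟨z, hz, rfl⟩ := mem_map.mp hy
      obtain ⟨m, rfl⟩ := MonoidHom.mem_range.mp hz
      refine mem_map.mpr ⟨f ⟨a * m * a⁻¹, hainv m m.2⟩, MonoidHom.mem_range.mpr ⟨_, rfl⟩, ?_⟩
      change (a * (m : G) * a⁻¹) ^ 2 = a * ((m : G) ^ 2) * a⁻¹
      exact conj_pow
    rcases (invariant_card D ht ha hta (map_subtype_le _) hSinv).1 (hvt.subst (motive := fun z => z ∈ S) v.2) with e' | e' <;>
      rw [← hS, hS8] at e' <;> omega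
  · intro y hy
    exact ((hmemP y).mp ((eq_of_le_of_card_ge (map_subtype_le _ : P ≤ M)
      (by rw [card_core D ht, e])).ge hy)).2

theorem centralizer_core {t : G} (ht : orderOf t = 2) :
    centralizer ((core t : Subgroup G) : Set G) = core t :=
  centralizer_core_of_comm D ht fun y hy => mem_centralizer_iff.mpr fun z hz => core_comm D ht z hz y hy

end Cfsg.Agent.Order10200960
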