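/-
The elementary abelian subgroup of order 16 of an involution centraliser is shared by the centralisers
of all its involutions, in a group with the local data of `M₂₃`.

Main results (namespace `Cfsg.Agent.Order10200960`): `exists_three`, `vfour_spec`, `exists_rotation`,
`core_eq_of_mem`, `card_normalizer_core`, `exists_conj_core`.
-/
import Cfsg.Agent.Lib.Order10200960.InvolElem
import Mathlib.GroupTheory.Transfer

set_option autoImplicit false
set_option maxHeartbeats 1000000

open Subgroup Cfsg Cfsg.Agent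

namespace Cfsg.Agent.Order10200960

open SmallOrders

variable {G : Type*} [Group G]

/-- In a subgroup of order four, four distinct members are all of them. -/
theorem mem_four {K : Subgroup G} [Finite G] (hK : Nat.card K = 4) {p q r s : G} (hp : p ∈ K) (hq : q ∈ K)
    (hr : r ∈ K) (hs : s ∈ K) (h : [p, q, r, s].Nodup) {y : G} (hy : y ∈ K) : y ∈ [p, q, r, s] := by
  classical
  by_contra hne
  have hsub : ({y, p, q, r, s} : Finset G) ⊆ (K : Set G).toFinite.toFinset := by
    intro z hz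
    rw [Set.Finite.mem_toFinset]
    simp only [Finset.mem_insert, Finset.mem_singleton] at hz
    rcases hz with rfl | rfl | rfl | rfl | rfl <;> assumption
  have h1 := Finset.card_le_card hsub
  rw [← Set.ncard_eq_toFinset_card _ (Set.toFinite _), ← Nat.card_coe_set_eq, show Nat.card (K : Set G) = Nat.card K from rfl, hK] at h1
  simp only [List.mem_cons, List.not_mem_nil, or_false, not_or] at hne
  simp only [List.nodup_cons, List.mem_cons, List.not_mem_nil, or_false, not_or, not_false_iff,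
    List.nodup_nil, and_true] at h
  rw [Finset.card_insert_of_notMem (by simp [hne]), Finset.card_insert_of_notMem (by simp [h]),
    Finset.card_insert_of_notMem (by simp [h]), Finset.card_pair h.2.2] at h1
  omega

variable [Finite G] (D : LocalData G)
include D

theorem exists_three {t s : G} (ht : orderOf t = 2) (hs : s ∈ core t) (hs2 : orderOf s = 2) (hst : s ≠ t) :
    ∃ x : G, orderOf x = 3 ∧ x * t = t * x ∧ x * s = s * x := by
  classical
  have : Fact (Nat.Prime 3) := ⟨by norm_num⟩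
  have : Fact (Nat.Prime 7) := ⟨by norm_num⟩
  set I := cnt1 t ⊓ cnt1 s with hI
  have hIle : Nat.card (cnt1 t) ≤ 16 * Nat.card I := by
    let φ : cnt1 t → core t := fun c =>
      ⟨c * s * (c : G)⁻¹, conj_mem_of_normalizes (normalizes_core t) c.2 hs⟩
    let rep : core t → cnt1 t := Function.invFun φ
    have hrep : ∀ c, φ (rep (φ c)) = φ c := fun c => Function.invFun_eq ⟨c, rfl⟩
    have hmem : ∀ c : cnt1 t, (rep (φ c) : G)⁻¹ * (c : G) ∈ I := fun c => by
      refine mem_inf.mpr ⟨mul_mem (inv_mem (rep (φ c)).2) c.2, mem_centralizer_singleton_iff.mpr ?_⟩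
      have e : (rep (φ c) : G) * s * (rep (φ c) : G)⁻¹ = (c : G) * s * (c : G)⁻¹ :=
        congrArg Subtype.val (hrep c)
      calc (rep (φ c) : G)⁻¹ * c * s = (rep (φ c) : G)⁻¹ * ((c : G) * s * (c : G)⁻¹) * c := by group
        _ = s * ((rep (φ c) : G)⁻¹ * c) := by rw [← e]; group
    have := Nat.card_le_card_of_injective (fun c => ((φ c, ⟨_, hmem c⟩) : core t × I)) fun c d h => by
      simp only [Prod.mk.injEq, Subtype.mk.injEq] at h
      have h1 := h.2
      rw [h.1] at h1
      exact Subtype.ext (mul_left_cancel h1)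
    rwa [Nat.card_prod, card_core D ht] at this
  rw [D.cent_invol t ht] at hIle
  have hId : Nat.card I ∣ 2688 := D.cent_invol t ht ▸ card_dvd_of_le inf_le_left
  have h7 : ¬ 7 ∣ Nat.card I := fun h => by
    obtain ⟨a, ha⟩ := exists_prime_orderOf_dvd_card' (G := I) 7 h
    have ha' : orderOf (a : G) = 7 := by rw [orderOf_coe, ha]
    exact hst (invol_unique D ha' hs2 ht
      (mem_centralizer_singleton_iff.mp (mem_inf.mp a.2).2).symm
      (mem_centralizer_singleton_iff.mp (mem_inf.mp a.2).1).symm)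
  have h3 : 3 ∣ Nat.card I := by
    by_contra h3
    have hco : Nat.Coprime (Nat.card I) 21 := Nat.Coprime.mul_right
      (((show Nat.Prime 3 by norm_num).coprime_iff_not_dvd.mpr h3).symm)
      (((show Nat.Prime 7 by norm_num).coprime_iff_not_dvd.mpr h7).symm)
    have := Nat.le_of_dvd (by norm_num) (hco.dvd_of_dvd_mul_right (show Nat.card I ∣ 128 * 21 from hId))
    omega
  obtain ⟨x, hx⟩ := exists_prime_orderOf_dvd_card' (G := I) 3 h3
  exact ⟨x, by rw [orderOf_coe, hx], mem_centralizer_singleton_iff.mp (mem_inf.mp x.2).1,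
    mem_centralizer_singleton_iff.mp (mem_inf.mp x.2).2⟩

/-- The four-group `C_{core t}(x)`. -/
theorem vfour_spec {t s x : G} (ht : orderOf t = 2) (hs : s ∈ core t) (hs2 : orderOf s = 2) (hst : s ≠ t)
    (hx : orderOf x = 3) (hxt : x * t = t * x) (hxs : x * s = s * x) :
    Nat.card ↥(core t ⊓ cnt1 x) = 4 ∧ [1, t, s, t * s].Nodup ∧
      (∀ y ∈ core t ⊓ cnt1 x, y ∈ [1, t, s, t * s]) ∧ core s ⊓ cnt1 x = core t ⊓ cnt1 x ∧
      cnt1 x ⊓ cnt1 s = cnt1 x ⊓ cnt1 t := by
  classical
  have : Fact (Nat.Prime 2) := ⟨by norm_num⟩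
  have : Fact (Nat.Prime 3) := ⟨by norm_num⟩
  set V := core t ⊓ cnt1 x with hV
  obtain ⟨-, hD⟩ := three_cent_card D hx ht hxt
  obtain ⟨-, hD'⟩ := three_cent_card D hx hs2 hxs
  have ht1 : t ≠ 1 := fun e => by rw [e, orderOf_one] at ht; omega
  have hs1 : s ≠ 1 := fun e => by rw [e, orderOf_one] at hs2; omega
  have htt : t * t = 1 := by rw [← pow_two, ← ht, pow_orderOf_eq_one]
  have htV : t ∈ V := mem_inf.mpr ⟨mem_core_self D ht, mem_centralizer_singleton_iff.mpr hxt.symm⟩
  have hsV : s ∈ V := mem_inf.mpr ⟨hs, mem_centralizer_singleton_iff.mpr hxs.symm⟩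
  have hnd : [1, t, s, t * s].Nodup := by
    simp only [List.nodup_cons, List.mem_cons, List.not_mem_nil, or_false, not_or, not_false_iff,
      List.nodup_nil, and_true]
    refine ⟨⟨ht1.symm, hs1.symm, fun e => hst ?_⟩, ⟨hst.symm, fun e => hs1 ?_⟩, fun e => ht1 ?_⟩
    · calc s = t * (t * s) := by rw [← mul_assoc, htt, one_mul]
        _ = t := by rw [← e, mul_one]
    · exact mul_left_cancel (e.symm.trans (mul_one t).symm)
    · exact mul_eq_right.mp e.symm
  have hVD : V ≤ cnt1 x ⊓ cnt1 t := fun y hy => mem_inf.mpr ⟨(mem_inf.mp hy).2, core_le t (mem_inf.mp hy).1⟩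
  obtain ⟨k, hk⟩ := ((isPGroup_core t).to_le (inf_le_left : V ≤ core t)).exists_card_eq
  have hk4 : 4 ≤ Nat.card V := by
    have hi : ({1, t, s, t * s} : Finset G) ⊆ (V : Set G).toFinite.toFinset := by
      intro z hz
      rw [Set.Finite.mem_toFinset]
      simp only [Finset.mem_insert, Finset.mem_singleton] at hz
      rcases hz with rfl | rfl | rfl | rfl
      exacts [one_mem V, htV, hsV, mul_mem htV hsV]
    have h1 := Finset.card_le_card hi
    rw [← Set.ncard_eq_toFinset_card _ (Set.toFinite _), ← Nat.card_coe_set_eq, show Nat.card (V : Set G) = Nat.card V from rfl] at h1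
    simp only [List.nodup_cons, List.mem_cons, List.not_mem_nil, or_false, not_or, not_false_iff,
      List.nodup_nil, and_true] at hnd
    rw [Finset.card_insert_of_notMem (by simp [hnd]), Finset.card_insert_of_notMem (by simp [hnd]),
      Finset.card_pair hnd.2.2] at h1
    omega
  have hV4 : Nat.card V = 4 := by
    have h12 : Nat.card V ∣ 12 := hD ▸ card_dvd_of_le hVD
    rw [hk] at h12 hk4 ⊢
    have : k ≤ 2 := by
      by_contra h
      have h' := (pow_dvd_pow 2 (show 3 ≤ k by omega)).trans h12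
      norm_num at h'
    interval_cases k <;> omega
  have hmem : ∀ y ∈ V, y ∈ [1, t, s, t * s] := fun y hy =>
    mem_four hV4 (one_mem V) htV hsV (mul_mem htV hsV) hnd hy
  -- the product of `V` and `⟨x⟩`
  have hXV : zpowers x ≤ normalizer (V : Set G) := fun z hz => centralizer_le_normalizer _
    (mem_centralizer_iff.mpr fun v hv => (mem_centralizer_singleton_iff.mp
      ((zpowers_le.mpr (mem_centralizer_singleton_iff.mpr rfl) : zpowers x ≤ cnt1 x) hz) |> fun _ => by
        obtain ⟨i, rfl⟩ := mem_zpowers_iff.mp hz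
        exact (Commute.zpow_right (show Commute v x from mem_centralizer_singleton_iff.mp (mem_inf.mp hv).2) i).eq))
  have hxD : zpowers x ≤ cnt1 x ⊓ cnt1 t :=
    zpowers_le.mpr (mem_inf.mpr ⟨mem_centralizer_singleton_iff.mpr rfl, mem_centralizer_singleton_iff.mpr hxt⟩)
  have hcop : V ⊓ zpowers x = ⊥ := by
    refine inf_eq_bot_of_coprime ?_
    rw [hV4, Nat.card_zpowers, hx]
    norm_num
  have hsup : V ⊔ zpowers x = cnt1 x ⊓ cnt1 t := by
    refine eq_of_le_of_card_ge (sup_le hVD hxD) ?_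
    have h := PLocal.card_sup_mul_card_inf hXV
    rw [hcop, card_bot, hV4, Nat.card_zpowers, hx, mul_one] at h
    omega
  have hDD : cnt1 x ⊓ cnt1 s = cnt1 x ⊓ cnt1 t := by
    refine (eq_of_le_of_card_ge ?_ (by rw [hD, hD'])).symm
    rw [← hsup]
    refine sup_le (fun y hy => mem_inf.mpr ⟨(mem_inf.mp hy).2, mem_centralizer_singleton_iff.mpr
      (core_comm D ht y (mem_inf.mp hy).1 s hs)⟩) (zpowers_le.mpr (mem_inf.mpr
        ⟨mem_centralizer_singleton_iff.mpr rfl, mem_centralizer_singleton_iff.mpr hxs⟩))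
  refine ⟨hV4, hnd, hmem, ?_, hDD⟩
  set V' := core s ⊓ cnt1 x with hV'
  have hV'D : V' ≤ cnt1 x ⊓ cnt1 t := fun y hy => hDD.le
    (mem_inf.mpr ⟨(mem_inf.mp hy).2, core_le s (mem_inf.mp hy).1⟩)
  have hle : V' ≤ V := fun y hy => by
    have hy' : y ∈ ((V ⊔ zpowers x : Subgroup G) : Set G) := hsup.ge (hV'D hy)
    rw [Subgroup.coe_mul_of_right_le_normalizer_left V (zpowers x) hXV] at hy'
    obtain ⟨v, hv, z, hz, rfl⟩ := hy'
    obtain ⟨i, rfl⟩ := mem_zpowers_iff.mp hz
    have hc : Commute v (x ^ i) :=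
      Commute.zpow_right (show Commute v x from mem_centralizer_singleton_iff.mp (mem_inf.mp hv).2) i
    have h2 : (v * x ^ i) ^ 2 = 1 := core_sq D hs2 _ (mem_inf.mp hy).1
    rw [hc.mul_pow, core_sq D ht v (mem_inf.mp hv).1, one_mul, ← zpow_natCast, ← zpow_mul,
      ← orderOf_dvd_iff_zpow_eq_one, hx] at h2
    have hi : x ^ i = 1 := by
      rw [← orderOf_dvd_iff_zpow_eq_one, hx]
      push_cast at h2 ⊢
      omega
    show v * x ^ i ∈ V
    rw [hi, mul_one]
    exact hv
  refine eq_of_le_of_card_ge hle ?_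
  have hxn : ∀ y ∈ core s, x * y * x⁻¹ ∈ core s := fun y hy =>
    conj_mem_of_normalizes (normalizes_core s) (mem_centralizer_singleton_iff.mpr hxs) hy
  have hmod := modEq_inf hx (core s) hxn
  rw [card_core D hs2, ← hV'] at hmod
  obtain ⟨j, hj⟩ := ((isPGroup_core s).to_le (inf_le_left : V' ≤ core s)).exists_card_eq
  have hsV' : s ∈ V' := mem_inf.mpr ⟨mem_core_self D hs2, mem_centralizer_singleton_iff.mpr hxs.symm⟩
  have h2 : 2 ≤ Nat.card V' := hs2 ▸ Nat.le_of_dvd Nat.card_pos (order_dvd_card hsV')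
  have h4 : Nat.card V' ∣ 4 := hV4 ▸ card_dvd_of_le hle
  rw [hV4]
  have := Nat.le_of_dvd (by norm_num) h4
  unfold Nat.ModEq at hmod
  interval_cases Nat.card V' <;> omega

/-- An element of `C(x)` permuting the involutions of the four-group cyclically. -/
theorem exists_rotation {t s x : G} (ht : orderOf t = 2) (hs : s ∈ core t) (hs2 : orderOf s = 2)
    (hst : s ≠ t) (hx : orderOf x = 3) (hxt : x * t = t * x) (hxs : x * s = s * x) :
    ∃ g : G, g * x = x * g ∧ g * t * g⁻¹ = s ∧ g * s * g⁻¹ = t * s ∧ g * (t * s) * g⁻¹ = t := by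
  classical
  have : Fact (Nat.Prime 2) := ⟨by norm_num⟩
  have : Fact (Nat.Prime 5) := ⟨by norm_num⟩
  obtain ⟨hV4, hnd, hmem, -, -⟩ := vfour_spec D ht hs hs2 hst hx hxt hxs
  set V := core t ⊓ cnt1 x with hV
  obtain ⟨hX, -⟩ := three_cent_card D hx ht hxt
  set X := cnt1 x with hXd
  have hVX : V ≤ X := inf_le_right
  have hfac : (Nat.card X).factorization 2 = 2 := by
    rw [hX]
    refine le_antisymm ?_ ((Nat.prime_two.pow_dvd_iff_le_factorization (by norm_num)).mp (by norm_num))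
    by_contra h
    exact absurd ((Nat.prime_two.pow_dvd_iff_le_factorization (k := 3) (by norm_num)).mpr (by omega))
      (by norm_num : ¬ 2 ^ 3 ∣ 180)
  let S : Sylow 2 X := Sylow.ofCard (V.subgroupOf X) (by rw [Cores.card_subgroupOf hVX, hV4, hfac]; norm_num)
  have hS : (S : Subgroup X) = V.subgroupOf X := rfl
  -- some element normalising V moves one of its elements
  have hex : ∃ g ∈ X, (∀ v ∈ V, g * v * g⁻¹ ∈ V) ∧ ∃ v ∈ V, g * v * g⁻¹ ≠ v := by
    by_contra hno
    push Not at hno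
    have hb : normalizer ((S : Subgroup X) : Set X) ≤ centralizer ((S : Subgroup X) : Set X) := by
      intro g hg
      rw [hS] at hg ⊢
      refine mem_centralizer_iff.mpr fun v hv => Subtype.ext ?_
      have h := hno g g.2 (fun u hu => (mem_normalizer_iff.mp hg ⟨u, hVX hu⟩).mp hu) v hv
      exact (mul_inv_eq_iff_eq_mul.mp h).symm
    obtain ⟨K, hKnormal, hK45⟩ : ∃ K : Subgroup X, K.Normal ∧ Nat.card K = 45 := by
      refine ⟨(MonoidHom.transferSylow S hb).ker, MonoidHom.normal_ker _, ?_⟩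
      have hKc := (MonoidHom.ker_transferSylow_isComplement' S hb).card_mul_card
      rw [show Nat.card (S : Subgroup X) = 4 from (Cores.card_subgroupOf hVX).trans hV4, hX] at hKc
      omega
    obtain ⟨b, hb5⟩ := exists_prime_orderOf_dvd_card' (G := K) 5 (by rw [hK45]; norm_num)
    set b' : G := ((b : X) : G) with hb'
    have hb'5 : orderOf b' = 5 := by rw [hb', orderOf_coe, orderOf_coe, hb5]
    set KG := K.map X.subtype with hKG
    have hKG45 : Nat.card KG = 45 := by rw [hKG, Cores.card_map_subtype, hK45]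
    have hbK : b' ∈ KG := mem_map_of_mem _ b.2
    obtain ⟨m, hm, hmod, -⟩ := sub_inf_normalizer_mul hb'5 KG (by rw [hKG45]; norm_num) hbK
    rw [hKG45] at hm
    have hm1 : m = 1 := by
      have hd : m ∣ 45 := Dvd.intro_left _ hm
      have h5 : Nat.card ↥(KG ⊓ nrm b') ∣ 45 := Dvd.intro _ hm
      have : 5 ∣ Nat.card ↥(KG ⊓ nrm b') := hb'5 ▸ order_dvd_card (mem_inf.mpr ⟨hbK, le_normalizer (mem_zpowers _)⟩)
      obtain ⟨c, hc'⟩ := this
      rw [hc'] at hm
      have : c * m = 9 := by nlinarith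
      have : m ≤ 9 := Nat.le_of_dvd (by norm_num) (Dvd.intro_left _ this)
      interval_cases m <;> omega
    have hKn : KG ≤ nrm b' := by
      rw [hm1, mul_one] at hm
      exact (eq_of_le_of_card_ge inf_le_left (by rw [hm, hKG45])).ge.trans inf_le_right
    have hXn : X ≤ nrm b' := by
      intro g hg
      have hgb : g * b' * g⁻¹ ∈ KG := mem_map.mpr ⟨⟨g, hg⟩ * b * ⟨g, hg⟩⁻¹,
        hKnormal.conj_mem _ b.2 _, rfl⟩
      obtain ⟨u, hu, he⟩ := exists_conj_in (p := 5) (M := KG) (by rw [hKG45]; norm_num) hb'5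
        (b := g * b' * g⁻¹) ((orderOf_injective (MulAut.conj g).toMonoidHom (MulEquiv.injective _) b').trans hb'5)
        hbK hgb
      refine mem_normalizer_fintype fun y hy => ?_
      obtain ⟨i, rfl⟩ := mem_zpowers_iff.mp hy
      rw [← conj_zpow]
      refine zpow_mem ?_ i
      obtain ⟨j, hj⟩ := mem_zpowers_iff.mp (he.ge (mem_zpowers (g * b' * g⁻¹)))
      have h := (mem_normalizer_iff.mp (hKn hu) (b' ^ j)).mp (zpow_mem (mem_zpowers b') j)
      rwa [← conj_zpow, hj] at h
    have := card_dvd_of_le hXn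
    rw [hX, D.norm_five b' hb'5] at this
    norm_num at this
  obtain ⟨g, hgX, hgV, v, hv, hgv⟩ := hex
  -- no involution of V is fixed
  have hfree : ∀ u ∈ V, u ≠ 1 → g * u * g⁻¹ ≠ u := by
    intro u hu hu1 hgu
    have hg2 : ∀ w ∈ V, g * (g * w * g⁻¹) * g⁻¹ = w := by
      intro w hw
      by_cases hw' : g * w * g⁻¹ = w
      · rw [hw', hw']
      have h1 : w ≠ 1 := fun e => hw' (by rw [e]; group)
      have hwu : w ≠ u := fun e => hw' (e ▸ hgu)
      have h2 : g * w * g⁻¹ ≠ u := fun e => hwu (by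
        have : g * w * g⁻¹ = g * u * g⁻¹ := e.trans hgu.symm
        simpa using this)
      have h3 : g * w * g⁻¹ ≠ 1 := fun e => h1 (by simpa using e)
      have hnd' : [1, u, w, g * w * g⁻¹].Nodup := by
        simp only [List.nodup_cons, List.mem_cons, List.not_mem_nil, or_false, not_or, not_false_iff,
          List.nodup_nil, and_true]
        exact ⟨⟨hu1.symm, h1.symm, h3.symm⟩, ⟨hwu.symm, h2.symm⟩, Ne.symm hw'⟩
      have hm := mem_four hV4 (one_mem V) hu hw (hgV w hw) hnd' (hgV _ (hgV w hw))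
      simp only [List.mem_cons, List.not_mem_nil, or_false] at hm
      rcases hm with e | e | e | e
      · exact absurd (by simpa using e) h1
      · exact absurd (show g * w * g⁻¹ = u by
          have : g * (g * w * g⁻¹) * g⁻¹ = g * u * g⁻¹ := e.trans hgu.symm
          simpa using this) h2
      · exact e
      · exact absurd (by simpa using e) hw'
    obtain ⟨i, m, hm, hgm⟩ := Nat.exists_eq_pow_mul_and_not_dvd (orderOf_pos g).ne' 2 (by norm_num)
    obtain ⟨j, rfl⟩ : Odd m := Nat.odd_iff.mpr (by omega)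
    set g' := g ^ (2 * j + 1) with hg'
    have hact : ∀ (n : ℕ), ∀ w ∈ V, g ^ (2 * n + 1) * w * (g ^ (2 * n + 1))⁻¹ = g * w * g⁻¹ := by
      intro n
      induction n with
      | zero => intro w _; simp
      | succ n ih =>
        intro w hw
        calc g ^ (2 * (n + 1) + 1) * w * (g ^ (2 * (n + 1) + 1))⁻¹
            = g * (g * (g ^ (2 * n + 1) * w * (g ^ (2 * n + 1))⁻¹) * g⁻¹) * g⁻¹ := by
              rw [show 2 * (n + 1) + 1 = ((2 * n + 1) + 1) + 1 by omega, pow_succ', pow_succ']; group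
          _ = g * w * g⁻¹ := by rw [ih w hw, hg2 (g * w * g⁻¹) (hgV w hw)]
    have hg'o : g' ^ 2 ^ i = 1 := by
      rw [hg', ← pow_mul, mul_comm, ← hgm, pow_orderOf_eq_one]
    have hp : IsPGroup 2 (zpowers g') := by
      obtain ⟨l, -, hl⟩ := (Nat.dvd_prime_pow Nat.prime_two).mp (orderOf_dvd_of_pow_eq_one hg'o)
      exact IsPGroup.of_card (n := l) (by rw [Nat.card_zpowers, hl])
    have hg'V : g' ∈ normalizer (V : Set G) :=
      mem_normalizer_fintype fun w hw => by rw [hact j w hw]; exact hgV w hw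
    have hsup : IsPGroup 2 ↥(V ⊔ zpowers g') :=
      sup_comm (zpowers g') V ▸ hp.to_sup_of_normal_right'
        ((isPGroup_core t).to_le (inf_le_left : V ≤ core t)) (zpowers_le.mpr hg'V)
    obtain ⟨l, hl⟩ := hsup.exists_card_eq
    have hd : Nat.card ↥(V ⊔ zpowers g') ∣ 180 :=
      hX ▸ card_dvd_of_le (sup_le hVX (zpowers_le.mpr (pow_mem hgX _)))
    have hl2 : l ≤ 2 := by
      by_contra h
      rw [hl] at hd
      have h' := (pow_dvd_pow 2 (show 3 ≤ l by omega)).trans hd
      norm_num at h'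
    have he : V = V ⊔ zpowers g' := eq_of_le_of_card_ge le_sup_left (by
      rw [hl, hV4]; exact (Nat.pow_le_pow_right two_pos hl2).trans_eq (by norm_num))
    have hin : g' ∈ V := he.ge (mem_sup_right (mem_zpowers g'))
    refine hgv ?_
    rw [← hact j v hv]
    rw [core_comm D ht _ (mem_inf.mp hin).1 v (mem_inf.mp hv).1]
    exact mul_inv_cancel_right v g'
  have htV : t ∈ V := mem_inf.mpr ⟨mem_core_self D ht, mem_centralizer_singleton_iff.mpr hxt.symm⟩
  have hsV : s ∈ V := mem_inf.mpr ⟨hs, mem_centralizer_singleton_iff.mpr hxs.symm⟩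
  have hrV : t * s ∈ V := mul_mem htV hsV
  have hnd' := hnd
  simp only [List.nodup_cons, List.mem_cons, List.not_mem_nil, or_false, not_or, not_false_iff,
    List.nodup_nil, and_true] at hnd'
  have hinj : ∀ p q : G, g * p * g⁻¹ = g * q * g⁻¹ → p = q := fun p q h => by simpa using h
  have image : ∀ u ∈ V, u ≠ 1 → g * u * g⁻¹ ∈ [t, s, t * s] ∧ g * u * g⁻¹ ≠ u := by
    intro u hu hu1
    have h := hmem _ (hgV u hu)
    simp only [List.mem_cons, List.not_mem_nil, or_false] at h ⊢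
    refine ⟨h.resolve_left fun e => hu1 (by simpa using e), hfree u hu hu1⟩
  obtain ⟨it, ft⟩ := image t htV (Ne.symm hnd'.1.1)
  obtain ⟨is, fs⟩ := image s hsV (Ne.symm hnd'.1.2.1)
  obtain ⟨ir, fr⟩ := image (t * s) hrV (Ne.symm hnd'.1.2.2)
  simp only [List.mem_cons, List.not_mem_nil, or_false] at it is ir
  have hts := fun e => hnd'.2.1.1 (hinj t s e)
  have htr := fun e => hnd'.2.1.2 (hinj t (t * s) e)
  have hsr := fun e => hnd'.2.2 (hinj s (t * s) e)
  have hgx : g * x = x * g := mem_centralizer_singleton_iff.mp hgX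
  rcases it with e1 | e1 | e1
  · exact absurd e1 ft
  · rcases is with e2 | e2 | e2
    · rcases ir with e3 | e3 | e3
      · exact absurd (e2.trans e3.symm) hsr
      · exact absurd (e1.trans e3.symm) htr
      · exact absurd e3 fr
    · exact absurd e2 fs
    · rcases ir with e3 | e3 | e3
      · exact ⟨g, hgx, e1, e2, e3⟩
      · exact absurd (e1.trans e3.symm) htr
      · exact absurd e3 fr
  · rcases is with e2 | e2 | e2
    · rcases ir with e3 | e3 | e3
      · exact absurd (e2.trans e3.symm) hsr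
      · refine ⟨g⁻¹, (Commute.inv_left hgx).eq, ?_, ?_, ?_⟩
        · conv_lhs => rw [← e2]
          group
        · conv_lhs => rw [← e3]
          group
        · conv_lhs => rw [← e1]
          group
      · exact absurd e3 fr
    · exact absurd e2 fs
    · exact absurd (e1.trans e2.symm) hts

theorem core_eq_of_mem {t s : G} (ht : orderOf t = 2) (hs : s ∈ core t) (hs2 : orderOf s = 2) :
    core s = core t := by
  classical
  rcases eq_or_ne s t with rfl | hst
  · rfl
  have : Fact (Nat.Prime 2) := ⟨by norm_num⟩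
  have : Fact (Nat.Prime 3) := ⟨by norm_num⟩
  obtain ⟨x, hx, hxt, hxs⟩ := exists_three D ht hs hs2 hst
  obtain ⟨hV4, hnd, hmem, hVs, -⟩ := vfour_spec D ht hs hs2 hst hx hxt hxs
  obtain ⟨g, hgx, hgt, hgs, hgr⟩ := exists_rotation D ht hs hs2 hst hx hxt hxs
  set r := t * s with hr
  have hr2 : orderOf r = 2 := by
    rw [← hgs]; exact (orderOf_injective (MulAut.conj g).toMonoidHom (MulEquiv.injective _) s).trans hs2
  set A := core t with hA
  set B := core s with hB
  set C := core r with hCc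
  set V := A ⊓ cnt1 x with hV
  have hAB : A.map (MulAut.conj g).toMonoidHom = B := by rw [hA, ← core_conj D ht, hgt]
  have hBC : B.map (MulAut.conj g).toMonoidHom = C := by rw [hB, ← core_conj D hs2, hgs]
  have hCA : C.map (MulAut.conj g).toMonoidHom = A := by rw [hCc, ← core_conj D hr2, hgr]
  have hVmap : V.map (MulAut.conj g).toMonoidHom = V := by
    refine eq_of_le_of_card_ge ?_ (by rw [card_map_of_injective (MulEquiv.injective _)])
    intro y hy
    obtain ⟨v, hv, rfl⟩ := mem_map.mp hy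
    refine hVs.le (mem_inf.mpr ⟨hAB.le (mem_map_of_mem _ (mem_inf.mp hv).1), ?_⟩)
    refine mem_centralizer_singleton_iff.mpr ?_
    have hvx : v * x = x * v := mem_centralizer_singleton_iff.mp (mem_inf.mp hv).2
    change g * v * g⁻¹ * x = x * (g * v * g⁻¹)
    have hgix : g⁻¹ * x = x * g⁻¹ := (Commute.inv_left hgx).eq
    calc g * v * g⁻¹ * x = g * v * (g⁻¹ * x) := by group
      _ = g * (v * x) * g⁻¹ := by rw [hgix]; group
      _ = (g * x) * v * g⁻¹ := by rw [hvx]; group
      _ = x * (g * v * g⁻¹) := by rw [hgx]; group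
  have hVC : C ⊓ cnt1 x = V := by
    refine le_antisymm ?_ (fun v hv => ?_)
    · intro y hy
      obtain ⟨b, hb, rfl⟩ := mem_map.mp (hBC.ge (mem_inf.mp hy).1)
      refine hVmap.le (mem_map_of_mem _ (hVs.le (mem_inf.mpr ⟨hb, mem_centralizer_singleton_iff.mpr ?_⟩)))
      have hyx : g * b * g⁻¹ * x = x * (g * b * g⁻¹) := mem_centralizer_singleton_iff.mp (mem_inf.mp hy).2
      have hgix : g⁻¹ * x = x * g⁻¹ := (Commute.inv_left hgx).eq
      calc b * x = g⁻¹ * (g * b * g⁻¹) * (g * x) := by group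
        _ = g⁻¹ * ((g * b * g⁻¹) * x) * g := by rw [hgx]; group
        _ = (g⁻¹ * x) * (g * b * g⁻¹) * g := by rw [hyx]; group
        _ = x * b := by rw [hgix]; group
    · obtain ⟨w, hw, rfl⟩ := mem_map.mp (hVmap.ge hv)
      exact mem_inf.mpr ⟨hBC.le (mem_map_of_mem _ (mem_inf.mp (hVs.ge hw)).1), (mem_inf.mp hv).2⟩
  have hVA : V ≤ A := inf_le_left
  have hVB : V ≤ B := hVs.ge.trans inf_le_left
  have hVC' : V ≤ C := hVC.ge.trans inf_le_left
  have htV : t ∈ V := mem_inf.mpr ⟨mem_core_self D ht, mem_centralizer_singleton_iff.mpr hxt.symm⟩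
  have hsV : s ∈ V := mem_inf.mpr ⟨hs, mem_centralizer_singleton_iff.mpr hxs.symm⟩
  by_contra hne
  -- each two meet in V
  have hxn : ∀ u : G, x * u = u * x → ∀ y ∈ core u, x * y * x⁻¹ ∈ core u := fun u hu y hy =>
    conj_mem_of_normalizes (normalizes_core u) (mem_centralizer_singleton_iff.mpr hu) hy
  have hfour : ∀ K : Subgroup G, V ≤ K → K ≤ A → (∀ y ∈ K, x * y * x⁻¹ ∈ K) → K = V ∨ K = A := by
    intro K hVK hKA hinv
    have hm := modEq_inf hx K hinv
    rw [show K ⊓ cnt1 x = V from le_antisymm (inf_le_inf_right _ hKA) (le_inf hVK inf_le_right), hV4] at hm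
    have hd : Nat.card K ∣ 16 := card_core D ht ▸ card_dvd_of_le hKA
    have h4 : 4 ∣ Nat.card K := hV4 ▸ card_dvd_of_le hVK
    have := Nat.le_of_dvd (by norm_num) hd
    unfold Nat.ModEq at hm
    have : Nat.card K = 4 ∨ Nat.card K = 16 := by
      interval_cases Nat.card K <;> omega
    rcases this with e | e
    · exact Or.inl (eq_of_le_of_card_ge hVK (by rw [hV4, e])).symm
    · exact Or.inr (eq_of_le_of_card_ge hKA (by rw [card_core D ht, e]))
  have hABV : A ⊓ B = V := by
    rcases hfour (A ⊓ B) (le_inf hVA hVB) inf_le_left fun y hy => mem_inf.mpr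
      ⟨hxn t hxt y (mem_inf.mp hy).1, hxn s hxs y (mem_inf.mp hy).2⟩ with e | e
    · exact e
    · exact absurd (eq_of_le_of_card_ge (inf_eq_left.mp e) (by rw [card_core D ht, card_core D hs2])).symm hne
  -- mutual normalisation
  have hVcomm : ∀ u ∈ V, ∀ y, y ∈ A ∨ y ∈ B ∨ y ∈ C → u * y = y * u := by
    rintro u hu y (h | h | h)
    · exact core_comm D ht u (hVA hu) y h
    · exact core_comm D hs2 u (hVB hu) y h
    · exact core_comm D hr2 u (hVC' hu) y h
  have hle : ∀ u ∈ V, A ≤ cnt1 u ∧ B ≤ cnt1 u ∧ C ≤ cnt1 u := fun u hu =>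
    ⟨fun y hy => mem_centralizer_singleton_iff.mpr (hVcomm u hu y (Or.inl hy)).symm,
      fun y hy => mem_centralizer_singleton_iff.mpr (hVcomm u hu y (Or.inr (Or.inl hy))).symm,
      fun y hy => mem_centralizer_singleton_iff.mpr (hVcomm u hu y (Or.inr (Or.inr hy))).symm⟩
  have hAnB : A ≤ normalizer (B : Set G) := (hle s hsV).1.trans (normalizes_core s)
  have hBnA : B ≤ normalizer (A : Set G) := (hle t htV).2.1.trans (normalizes_core t)
  have hCnA : C ≤ normalizer (A : Set G) := (hle t htV).2.2.trans (normalizes_core t)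
  have hCnB : C ≤ normalizer (B : Set G) := (hle s hsV).2.2.trans (normalizes_core s)
  have hW : Nat.card ↥(A ⊔ B) = 64 := by
    have h := PLocal.card_sup_mul_card_inf hBnA
    rw [hABV, hV4, card_core D ht, card_core D hs2] at h
    omega
  have hCW : C ≤ A ⊔ B := by
    have hn : C ≤ normalizer ((A ⊔ B : Subgroup G) : Set G) := fun c hc =>
      mem_normalizer_fintype fun y hy => by
        have : (A ⊔ B).map (MulAut.conj c).toMonoidHom ≤ A ⊔ B := by
          rw [Subgroup.map_sup]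
          exact sup_le_sup (fun z hz => by obtain ⟨w, hw, rfl⟩ := mem_map.mp hz; exact (mem_normalizer_iff.mp (hCnA hc) w).mp hw)
            (fun z hz => by obtain ⟨w, hw, rfl⟩ := mem_map.mp hz; exact (mem_normalizer_iff.mp (hCnB hc) w).mp hw)
        exact this (mem_map_of_mem _ hy)
    have h := PLocal.card_sup_mul_card_inf hn
    set J := (A ⊔ B) ⊓ C with hJ
    have hxA : ∀ y ∈ A ⊔ B, x * y * x⁻¹ ∈ A ⊔ B := fun y hy => by
      have : (A ⊔ B).map (MulAut.conj x).toMonoidHom ≤ A ⊔ B := by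
        rw [Subgroup.map_sup]
        exact sup_le_sup (fun z hz => by obtain ⟨w, hw, rfl⟩ := mem_map.mp hz; exact hxn t hxt w hw)
          (fun z hz => by obtain ⟨w, hw, rfl⟩ := mem_map.mp hz; exact hxn s hxs w hw)
      exact this (mem_map_of_mem _ hy)
    have hJinv : ∀ y ∈ J, x * y * x⁻¹ ∈ J := fun y hy =>
      mem_inf.mpr ⟨hxA y (mem_inf.mp hy).1, hxn r (show Commute x (t * s) from Commute.mul_right hxt hxs).eq y (mem_inf.mp hy).2⟩
    have hm := modEq_inf hx J hJinv
    rw [show J ⊓ cnt1 x = V from le_antisymm (hVC ▸ inf_le_inf_right _ inf_le_right)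
      (le_inf (le_inf (hVA.trans le_sup_left) hVC') inf_le_right), hV4] at hm
    have hd : Nat.card J ∣ 16 := card_core D hr2 ▸ card_dvd_of_le inf_le_right
    have h4 : 4 ∣ Nat.card J := hV4 ▸ card_dvd_of_le (le_inf (hVA.trans le_sup_left) hVC')
    have hbig : Nat.card ↥(A ⊔ B ⊔ C) ∣ 2688 := D.cent_invol t ht ▸
      card_dvd_of_le (sup_le (sup_le (hle t htV).1 (hle t htV).2.1) (hle t htV).2.2)
    rw [hW, card_core D hr2] at h
    have := Nat.le_of_dvd (by norm_num) hd
    unfold Nat.ModEq at hm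
    have : Nat.card J = 4 ∨ Nat.card J = 16 := by interval_cases Nat.card J <;> omega
    rcases this with e | e
    · rw [e] at h
      have h256 : Nat.card ↥(A ⊔ B ⊔ C) = 256 := by omega
      rw [h256] at hbig
      norm_num at hbig
    · exact (eq_of_le_of_card_ge inf_le_right (by rw [card_core D hr2, e]) : J = C).ge.trans inf_le_left
  -- commutators
  let β : G → G → G := fun a b => a * b * a⁻¹ * b⁻¹
  have hβ : ∀ a ∈ A, ∀ b ∈ B, β a b ∈ V := by
    intro a ha b hb
    rw [← hABV]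
    refine mem_inf.mpr ⟨?_, mul_mem ((mem_normalizer_iff.mp (hAnB ha) b).mp hb) (inv_mem hb)⟩
    have h1 : b * a⁻¹ * b⁻¹ ∈ A := (mem_normalizer_iff.mp (hBnA hb) a⁻¹).mp (inv_mem ha)
    simpa [β, mul_assoc] using mul_mem ha h1
  have hsqV : ∀ u ∈ V, u * u = 1 := fun u hu => by rw [← pow_two]; exact core_sq D ht u (hVA hu)
  have hinvA : ∀ a ∈ A, a⁻¹ = a := fun a ha =>
    inv_eq_of_mul_eq_one_right (by rw [← pow_two]; exact core_sq D ht a ha)
  have hinvB : ∀ b ∈ B, b⁻¹ = b := fun b hb =>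
    inv_eq_of_mul_eq_one_right (by rw [← pow_two]; exact core_sq D hs2 b hb)
  have hmulL : ∀ a ∈ A, ∀ a' ∈ A, ∀ b ∈ B, β (a * a') b = β a b * β a' b := fun a ha a' ha' b hb => by
    calc β (a * a') b = a * β a' b * (b * a⁻¹ * b⁻¹) := by simp only [β]; group
      _ = β a' b * (a * (b * a⁻¹ * b⁻¹)) := by rw [← hVcomm _ (hβ a' ha' b hb) a (Or.inl ha)]; group
      _ = β a' b * β a b := by simp only [β]; group
      _ = β a b * β a' b := hVcomm _ (hβ a' ha' b hb) _ (Or.inl (hVA (hβ a ha b hb)))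
  have hmulR : ∀ a ∈ A, ∀ b ∈ B, ∀ b' ∈ B, β a (b * b') = β a b * β a b' := fun a ha b hb b' hb' => by
    calc β a (b * b') = a * b * a⁻¹ * β a b' * b⁻¹ := by simp only [β]; group
      _ = a * b * a⁻¹ * (β a b' * b⁻¹) := by group
      _ = a * b * a⁻¹ * (b⁻¹ * β a b') := by rw [hVcomm _ (hβ a ha b' hb') b⁻¹ (Or.inr (Or.inl (inv_mem hb)))]
      _ = β a b * β a b' := by simp only [β]; group
  have hVl : ∀ u ∈ V, ∀ b ∈ B, β u b = 1 := fun u hu b hb => by
    simp only [β]; rw [hVcomm u hu b (Or.inr (Or.inl hb))]; group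
  have hVr : ∀ u ∈ V, ∀ a ∈ A, β a u = 1 := fun u hu a ha => by
    simp only [β]; rw [← hVcomm u hu a (Or.inl ha)]; group
  have hconjx : ∀ a ∈ A, ∀ b ∈ B, β (x * a * x⁻¹) (x * b * x⁻¹) = β a b := fun a ha b hb => by
    have hc : β a b * x = x * β a b := mem_centralizer_singleton_iff.mp (mem_inf.mp (hβ a ha b hb)).2
    calc β (x * a * x⁻¹) (x * b * x⁻¹) = x * β a b * x⁻¹ := by simp only [β]; group
      _ = β a b := by rw [← hc]; group
  -- an element of C outside V
  obtain ⟨c, hcC, hcV⟩ : ∃ c ∈ C, c ∉ V := by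
    by_contra h
    push Not at h
    have := card_le_of_le (show C ≤ V from h)
    rw [hV4, card_core D hr2] at this
    omega
  have hc' : c ∈ ((A ⊔ B : Subgroup G) : Set G) := hCW hcC
  rw [Subgroup.coe_mul_of_right_le_normalizer_left A B hBnA] at hc'
  obtain ⟨a, ha, b, hb, rfl⟩ := hc'
  set b₂ := x * b * x⁻¹ with hb₂
  set a₂ := x * a * x⁻¹ with ha₂
  have hb2B : b₂ ∈ B := hxn s hxs b hb
  have ha2A : a₂ ∈ A := hxn t hxt a ha
  -- C meets A and B in V
  have hACV : A ⊓ C ≤ V := fun y hy => by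
    have h : g * y * g⁻¹ ∈ V := hABV.le (mem_inf.mpr
      ⟨hCA.le (mem_map_of_mem _ (mem_inf.mp hy).2), hAB.le (mem_map_of_mem _ (mem_inf.mp hy).1)⟩)
    obtain ⟨v, hv, he⟩ := mem_map.mp (hVmap.ge h)
    have : v = y := (MulAut.conj g).injective (he.trans rfl)
    exact this ▸ hv
  have hBCV : B ⊓ C ≤ V := fun y hy => by
    obtain ⟨a', ha', e1⟩ := mem_map.mp (hAB.ge (mem_inf.mp hy).1)
    obtain ⟨b', hb', e2⟩ := mem_map.mp (hBC.ge (mem_inf.mp hy).2)
    have : a' = b' := (MulAut.conj g).injective (e1.trans e2.symm)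
    exact e1 ▸ hVmap.le (mem_map_of_mem _ (hABV.le (mem_inf.mpr ⟨ha', this ▸ hb'⟩)))
  have hbA : b ∉ A := fun h => hcV (hACV (mem_inf.mpr ⟨mul_mem ha h, hcC⟩))
  have haB : a ∉ B := fun h => hcV (hBCV (mem_inf.mpr ⟨mul_mem h hb, hcC⟩))
  -- generation
  have hgen : ∀ (K : Subgroup G), V ≤ K → Nat.card K = 16 → K ⊓ cnt1 x = V → (∀ y ∈ K, x * y * x⁻¹ ∈ K) →
      ∀ h ∈ K, h ∉ V → ∀ P : Subgroup G, V ≤ P → h ∈ P → x * h * x⁻¹ ∈ P → K ≤ P := by
    intro K hVK hK hKx hinv h hhK hhV P hVP hhP hkP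
    have hWK : (V ⊔ zpowers h ⊔ zpowers (x * h * x⁻¹)) ≤ K := sup_le (sup_le hVK (zpowers_le.mpr hhK)) (zpowers_le.mpr (hinv h hhK))
    refine le_trans (eq_of_le_of_card_ge hWK ?_).ge (sup_le (sup_le hVP (zpowers_le.mpr hhP)) (zpowers_le.mpr hkP))
    have hW8K : (V ⊔ zpowers h) ≤ K := sup_le hVK (zpowers_le.mpr hhK)
    have h4 : 4 < Nat.card ↥(V ⊔ zpowers h) := by
      by_contra h'
      exact hhV ((eq_of_le_of_card_ge (le_sup_left : V ≤ (V ⊔ zpowers h)) (by rw [hV4]; omega)).ge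
        (mem_sup_right (mem_zpowers h)))
    have hd8 : Nat.card ↥(V ⊔ zpowers h) ∣ 16 := hK ▸ card_dvd_of_le hW8K
    have h48 : 4 ∣ Nat.card ↥(V ⊔ zpowers h) := hV4 ▸ card_dvd_of_le (le_sup_left : V ≤ (V ⊔ zpowers h))
    have hdW : Nat.card ↥(V ⊔ zpowers h ⊔ zpowers (x * h * x⁻¹)) ∣ 16 := hK ▸ card_dvd_of_le hWK
    have hle8 : Nat.card ↥(V ⊔ zpowers h) ≤ Nat.card ↥(V ⊔ zpowers h ⊔ zpowers (x * h * x⁻¹)) := card_le_of_le le_sup_left
    have := Nat.le_of_dvd (by norm_num) hd8
    have := Nat.le_of_dvd (by norm_num) hdW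
    rw [hK]
    by_contra h16
    have h8 : Nat.card ↥(V ⊔ zpowers h) = 8 ∧ Nat.card ↥(V ⊔ zpowers h ⊔ zpowers (x * h * x⁻¹)) = 8 := by
      generalize Nat.card ↥(V ⊔ zpowers h) = p at *
      generalize Nat.card ↥(V ⊔ zpowers h ⊔ zpowers (x * h * x⁻¹)) = q at *
      interval_cases p <;> interval_cases q <;> omega
    have hk : x * h * x⁻¹ ∈ (V ⊔ zpowers h) := (eq_of_le_of_card_ge (le_sup_left : (V ⊔ zpowers h) ≤ (V ⊔ zpowers h ⊔ zpowers (x * h * x⁻¹))) (by omega)).ge
      (mem_sup_right (mem_zpowers _))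
    have hWinv : ∀ y ∈ (V ⊔ zpowers h), x * y * x⁻¹ ∈ (V ⊔ zpowers h) := fun y hy => by
      have : (V ⊔ zpowers h).map (MulAut.conj x).toMonoidHom ≤ (V ⊔ zpowers h) := by
        rw [Subgroup.map_sup]
        refine sup_le ?_ ?_
        · intro z hz
          obtain ⟨v, hv, rfl⟩ := mem_map.mp hz
          refine mem_sup_left ?_
          change x * v * x⁻¹ ∈ V
          rw [← mem_centralizer_singleton_iff.mp (mem_inf.mp hv).2, mul_inv_cancel_right]
          exact hv
        · rw [MonoidHom.map_zpowers, zpowers_le]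
          exact hk
      exact this (mem_map_of_mem _ hy)
    have hm := modEq_inf hx (V ⊔ zpowers h) hWinv
    rw [show (V ⊔ zpowers h) ⊓ cnt1 x = V from le_antisymm ((inf_le_inf_right _ hW8K).trans hKx.le)
      (le_inf le_sup_left inf_le_right), hV4, h8.1] at hm
    unfold Nat.ModEq at hm
    omega
  -- commuting of c with its conjugate
  have hswap : ∀ a' ∈ A, ∀ b' ∈ B, b' * a' = β a' b' * a' * b' := fun a' ha' b' hb' => by
    have h1 : β a' b' * (b' * a') = a' * b' := by simp only [β]; group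
    have h2 := hsqV _ (hβ a' ha' b' hb')
    calc b' * a' = β a' b' * β a' b' * (b' * a') := by rw [h2, one_mul]
      _ = β a' b' * a' * b' := by rw [mul_assoc, h1, ← mul_assoc]
  have hq : β a₂ b = β a b₂ := by
    have hc2 : a₂ * b₂ ∈ C := by
      have := hxn r (show Commute x (t * s) from Commute.mul_right hxt hxs).eq _ hcC
      simpa [ha₂, hb₂, mul_assoc] using this
    have h := core_comm D hr2 _ hcC _ hc2
    have e1 : a * b * (a₂ * b₂) = β a₂ b * (a * a₂ * (b * b₂)) := by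
      calc a * b * (a₂ * b₂) = a * (b * a₂) * b₂ := by group
        _ = a * β a₂ b * (a₂ * b) * b₂ := by rw [hswap a₂ ha2A b hb]; group
        _ = β a₂ b * (a * a₂ * (b * b₂)) := by rw [← hVcomm _ (hβ a₂ ha2A b hb) a (Or.inl ha)]; group
    have e2 : a₂ * b₂ * (a * b) = β a b₂ * (a * a₂ * (b * b₂)) := by
      calc a₂ * b₂ * (a * b) = a₂ * (b₂ * a) * b := by group
        _ = a₂ * β a b₂ * (a * b₂) * b := by rw [hswap a ha b₂ hb2B]; group
        _ = β a b₂ * (a₂ * a * (b₂ * b)) := by rw [← hVcomm _ (hβ a ha b₂ hb2B) a₂ (Or.inl ha2A)]; group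
        _ = β a b₂ * (a * a₂ * (b * b₂)) := by rw [core_comm D ht a₂ ha2A a ha, core_comm D hs2 b₂ hb2B b hb]
    exact mul_right_cancel (e1.symm.trans (h.trans e2))
  -- the pairing of a and b is trivial
  have hab1 : β a b = 1 := by
    set b₀ := x⁻¹ * b * x with hb₀
    have hb0B : b₀ ∈ B := by
      have hxi : x⁻¹ ∈ cnt1 s := inv_mem (mem_centralizer_singleton_iff.mpr hxs)
      have := conj_mem_of_normalizes (normalizes_core s) hxi hb
      simpa using this
    have hx2 : x * b₂ * x⁻¹ = b₀ := by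
      have h3 : x * x * x = 1 := by rw [← pow_three', ← hx, pow_orderOf_eq_one]
      have hxx : x * x = x⁻¹ := eq_inv_of_mul_eq_one_left h3
      calc x * b₂ * x⁻¹ = (x * x) * b * (x * x)⁻¹ := by rw [hb₂]; group
        _ = b₀ := by rw [hxx, inv_inv]
    have hp : b * b₂ * b₀ ∈ V := by
      refine hVs.le (mem_inf.mpr ⟨mul_mem (mul_mem hb hb2B) hb0B, mem_centralizer_singleton_iff.mpr ?_⟩)
      refine (mul_inv_eq_iff_eq_mul.mp ?_).symm
      calc x * (b * b₂ * b₀) * x⁻¹ = b₂ * (x * b₂ * x⁻¹) * (x * b₀ * x⁻¹) := by rw [hb₂]; group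
        _ = b₂ * b₀ * b := by rw [hx2, hb₀]; group
        _ = b * b₂ * b₀ := (core_comm D hs2 (b₂ * b₀) (mul_mem hb2B hb0B) b hb).trans (mul_assoc _ _ _).symm
    have h0 : β a b₀ = β a₂ b := by
      rw [← hconjx a ha b₀ hb0B, ← ha₂, hb₀]
      congr 1
      group
    have h1 := hVr _ hp a ha
    rw [hmulR a ha _ (mul_mem hb hb2B) _ hb0B, hmulR a ha b hb b₂ hb2B, h0, hq, mul_assoc,
      hsqV _ (hβ a ha b₂ hb2B), mul_one] at h1
    exact h1
  set q := β a b₂ with hq'
  set Q := zpowers q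
  have hqQ : q ∈ Q := mem_zpowers q
  have h22 : β a₂ b₂ = 1 := by rw [ha₂, hb₂, hconjx a ha b hb]; exact hab1
  let PA : Subgroup G :=
    { carrier := {y | y ∈ A ∧ β y b ∈ Q ∧ β y b₂ ∈ Q}
      one_mem' := ⟨one_mem A, by rw [hVl 1 (one_mem V) b hb]; exact one_mem Q,
        by rw [hVl 1 (one_mem V) b₂ hb2B]; exact one_mem Q⟩
      mul_mem' := fun {y z} hy hz => ⟨mul_mem hy.1 hz.1,
        by rw [hmulL y hy.1 z hz.1 b hb]; exact mul_mem hy.2.1 hz.2.1,
        by rw [hmulL y hy.1 z hz.1 b₂ hb2B]; exact mul_mem hy.2.2 hz.2.2⟩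
      inv_mem' := fun {y} hy => by simpa [hinvA y hy.1] using hy }
  have hA1 : A ≤ PA := hgen A hVA (card_core D ht) rfl (hxn t hxt) a ha (fun h => haB (hVB h)) PA
    (fun v hv => ⟨hVA hv, by rw [hVl v hv b hb]; exact one_mem Q, by rw [hVl v hv b₂ hb2B]; exact one_mem Q⟩)
    ⟨ha, by rw [hab1]; exact one_mem Q, hqQ⟩
    ⟨ha2A, by rw [← ha₂, hq]; exact hqQ, by rw [← ha₂, h22]; exact one_mem Q⟩
  have hall : ∀ a' ∈ A, ∀ b' ∈ B, β a' b' ∈ Q := fun a' ha' => by
    let PB : Subgroup G :=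
      { carrier := {y | y ∈ B ∧ β a' y ∈ Q}
        one_mem' := ⟨one_mem B, by rw [hVr 1 (one_mem V) a' ha']; exact one_mem Q⟩
        mul_mem' := fun {y z} hy hz => ⟨mul_mem hy.1 hz.1, by rw [hmulR a' ha' y hy.1 z hz.1]; exact mul_mem hy.2 hz.2⟩
        inv_mem' := fun {y} hy => by simpa [hinvB y hy.1] using hy }
    have hB1 : B ≤ PB := hgen B hVB (card_core D hs2) hVs (hxn s hxs) b hb (fun h => hbA (hVA h)) PB
      (fun v hv => ⟨hVB hv, by rw [hVr v hv a' ha']; exact one_mem Q⟩)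
      ⟨hb, (hA1 ha').2.1⟩ ⟨hb2B, (hA1 ha').2.2⟩
    exact fun b' hb' => (hB1 hb').2
  have hgq : g * q * g⁻¹ ∈ Q := by
    have e : g * q * g⁻¹ = β (g * a * g⁻¹) (g * b₂ * g⁻¹) := by simp only [hq', β]; group
    have hb1 : g * a * g⁻¹ ∈ B := hAB.le (mem_map_of_mem _ ha)
    have hc1 : g * b₂ * g⁻¹ ∈ C := hBC.le (mem_map_of_mem _ hb2B)
    rw [e]
    generalize g * a * g⁻¹ = b' at hb1 ⊢
    generalize g * b₂ * g⁻¹ = c' at hc1 ⊢
    have hc'' : c' ∈ ((A ⊔ B : Subgroup G) : Set G) := hCW hc1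
    rw [Subgroup.coe_mul_of_right_le_normalizer_left A B hBnA] at hc''
    obtain ⟨a', ha', b'', hb'', rfl⟩ := hc''
    have e' : β b' (a' * b'') = (β a' b')⁻¹ := by
      simp only [β]
      calc b' * (a' * b'') * b'⁻¹ * (a' * b'')⁻¹ = b' * a' * (b'' * b'⁻¹) * b''⁻¹ * a'⁻¹ := by group
        _ = b' * a' * (b'⁻¹ * b'') * b''⁻¹ * a'⁻¹ := by rw [core_comm D hs2 b'' hb'' b'⁻¹ (inv_mem hb1)]
        _ = (a' * b' * a'⁻¹ * b'⁻¹)⁻¹ := by group
    rw [e']
    exact inv_mem (hall a' ha' b' hb1)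
  have hq1 : q = 1 := by
    by_contra hq0
    obtain ⟨n, hn⟩ := mem_powers_iff_mem_zpowers.mpr hgq
    change q ^ n = _ at hn
    have ho : orderOf q = 2 := orderOf_eq_prime (by rw [pow_two]; exact hsqV q (hβ a ha b₂ hb2B)) hq0
    rw [← pow_mod_orderOf, ho] at hn
    rcases Nat.mod_two_eq_zero_or_one n with e | e <;> rw [e] at hn
    · exact hq0 (by simpa using hn.symm)
    · rw [pow_one] at hn
      have hm := hmem q (hβ a ha b₂ hb2B)
      simp only [List.mem_cons, List.not_mem_nil, or_false] at hm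
      simp only [List.nodup_cons, List.mem_cons, List.not_mem_nil, or_false, not_or, not_false_iff,
        List.nodup_nil, and_true] at hnd
      rcases hm with e | e | e | e
      · exact hq0 e
      · rw [e, hgt] at hn; exact hnd.2.1.1 hn
      · rw [e, hgs] at hn; exact hnd.2.2 hn
      · rw [e, hgr] at hn; exact hnd.2.1.2 hn.symm
  have hBA : B ≤ A := by
    intro y hy
    show y ∈ core t
    rw [← centralizer_core D ht]
    refine mem_centralizer_iff.mpr fun a' ha' => ?_
    have h := hall a' ha' y hy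
    have hQ : Q = ⊥ := by
      show zpowers q = ⊥
      rw [hq1]
      exact zpowers_one_eq_bot
    rw [hQ, mem_bot] at h
    exact mul_inv_eq_iff_eq_mul.mp (mul_inv_eq_one.mp h)
  exact hne (eq_of_le_of_card_ge hBA (by rw [card_core D ht, card_core D hs2]))

/-- All involutions of the elementary abelian subgroup are conjugate in its normaliser. -/
theorem exists_conj_core {t s : G} (ht : orderOf t = 2) (hs : s ∈ core t) (hs1 : s ≠ 1) :
    ∃ g ∈ normalizer ((core t : Subgroup G) : Set G), g * t * g⁻¹ = s := by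
  have : Fact (Nat.Prime 2) := ⟨by norm_num⟩
  have hs2 : orderOf s = 2 := orderOf_eq_prime (core_sq D ht s hs) hs1
  obtain ⟨g, hg⟩ := isConj_iff.mp (D.conj_invol t s ht hs2)
  refine ⟨g, mem_normalizer_fintype fun y hy => ?_, hg⟩
  show g * y * g⁻¹ ∈ core t
  rw [← core_eq_of_mem D ht hs hs2, ← hg, core_conj D ht]
  exact mem_map_of_mem _ hy

theorem card_normalizer_core {t : G} (ht : orderOf t = 2) :
    Nat.card (normalizer ((core t : Subgroup G) : Set G)) = 40320 := by
  classical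
  have : Fact (Nat.Prime 2) := ⟨by norm_num⟩
  set N := normalizer ((core t : Subgroup G) : Set G) with hN
  have ht1 : t ≠ 1 := fun e => by rw [e, orderOf_one] at ht; omega
  have he : Nat.card N = Nat.card ({m : core t // m ≠ 1} × cnt1 t) := by
    have hmove : ∀ g : N, (⟨(g : G) * t * (g : G)⁻¹,
        (mem_normalizer_iff.mp g.2 t).mp (mem_core_self D ht)⟩ : core t) ≠ 1 := fun g h =>
      ht1 (by simpa using congrArg Subtype.val h)
    choose rep hrep hrep' using fun m : {m : core t // m ≠ 1} =>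
      exists_conj_core D ht m.1.2 (fun h => m.2 (Subtype.ext h))
    refine Nat.card_congr (Equiv.symm (Equiv.ofBijective
      (fun p => (⟨rep p.1 * (p.2 : G), mul_mem (hrep p.1) (normalizes_core t p.2.2)⟩ : N)) ⟨?_, ?_⟩))
    · rintro ⟨m, c⟩ ⟨m', c'⟩ h
      simp only [Subtype.mk.injEq] at h
      have hc : ∀ (z : cnt1 t), (z : G) * t * (z : G)⁻¹ = t := fun z => by
        rw [mem_centralizer_singleton_iff.mp z.2, mul_inv_cancel_right]
      have key : ∀ (k : G) (z : cnt1 t), k * (z : G) * t * (k * (z : G))⁻¹ = k * t * k⁻¹ := fun k z => by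
        calc k * (z : G) * t * (k * (z : G))⁻¹ = k * ((z : G) * t * (z : G)⁻¹) * k⁻¹ := by group
          _ = k * t * k⁻¹ := by rw [hc]
      have hm : m = m' := Subtype.ext (Subtype.ext (by
        rw [← hrep' m, ← hrep' m', ← key (rep m) c, h, key]))
      subst hm
      rw [Subtype.ext (mul_left_cancel h)]
    · intro g
      refine ⟨(⟨_, hmove g⟩, ⟨(rep ⟨_, hmove g⟩)⁻¹ * g, ?_⟩), Subtype.ext (by simp)⟩
      rw [mem_centralizer_singleton_iff]
      have e := hrep' ⟨_, hmove g⟩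
      set k := rep ⟨_, hmove g⟩
      calc k⁻¹ * g * t = k⁻¹ * (g * t * (g : G)⁻¹) * g := by group
        _ = k⁻¹ * (k * t * k⁻¹) * g := by rw [e]
        _ = t * (k⁻¹ * g) := by group
  rw [he, Nat.card_prod, D.cent_invol t ht]
  have h15 : Nat.card {m : core t // m ≠ 1} = 15 := by
    have := Fintype.ofFinite (core t)
    rw [Nat.card_eq_fintype_card, Fintype.card_subtype_compl, Fintype.card_subtype_eq, ← Nat.card_eq_fintype_card,
      card_core D ht]
  rw [h15]

end Cfsg.Agent.Order10200960
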