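/-
Fixed points on the 253 conjugates of the elementary abelian subgroup of order 16, in a group with the
local data of `M₂₃`.

Main results (namespace `Cfsg.Agent.Order10200960`): `card_points`, `card_fixed_five`, `card_fixed_seven`,
`card_core_stab_le`, `card_fixed_invol`.
-/
import Cfsg.Agent.Lib.Order10200960.InvolFusion
import Mathlib.GroupTheory.GroupAction.Quotient

set_option autoImplicit false

open Subgroup MulAction Cfsg Cfsg.Agent

namespace Cfsg.Agent.Order10200960

open SmallOrders

variable {G : Type*} [Group G]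

/-- The normaliser of the elementary abelian subgroup attached to `t`. -/
abbrev coreNorm (t : G) : Subgroup G := normalizer ((core t : Subgroup G) : Set G)

/-- The points: the cosets of `coreNorm t`. -/
abbrev Pts (t : G) : Type _ := G ⧸ coreNorm t

/-- The base point. -/
abbrev base (t : G) : Pts t := ((1 : G) : G ⧸ coreNorm t)

/-- The elements of `core t` fixing a point. -/
def coreStab (t : G) (p : Pts t) : Subgroup G := core t ⊓ stabilizer G p

theorem mem_coreNorm {t n y : G} (hn : n ∈ coreNorm t) : y ∈ core t ↔ n * y * n⁻¹ ∈ core t :=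
  mem_normalizer_iff.mp hn y

theorem core_le_coreNorm (t : G) : core t ≤ coreNorm t := le_normalizer

theorem smul_coe_eq_iff {N : Subgroup G} {z g : G} :
    z • ((g : G ⧸ N)) = (g : G ⧸ N) ↔ g⁻¹ * z * g ∈ N := by
  rw [Quotient.smul_coe, smul_eq_mul, eq_comm, QuotientGroup.eq, mul_assoc]

theorem smul_base_eq_iff {t z : G} : z • base t = base t ↔ z ∈ coreNorm t := by
  rw [base, smul_coe_eq_iff]; simp

theorem stab_pt_iff {t z g : G} : z ∈ stabilizer G ((g : G) : Pts t) ↔ g⁻¹ * z * g ∈ coreNorm t := by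
  rw [mem_stabilizer_iff, smul_coe_eq_iff]

variable [Finite G] (D : LocalData G)
include D

theorem card_points {t : G} (ht : orderOf t = 2) : Nat.card (Pts t) = 253 := by
  have h := (coreNorm t).card_eq_card_quotient_mul_card_subgroup
  rw [D.card, card_normalizer_core D ht] at h
  show Nat.card (G ⧸ coreNorm t) = 253
  omega

theorem core_inf_conj {t g : G} (ht : orderOf t = 2) {y : G} (hy : y ∈ core t) (hy1 : y ≠ 1)
    (hy' : g⁻¹ * y * g ∈ core t) : g ∈ coreNorm t := by
  have : Fact (Nat.Prime 2) := ⟨by norm_num⟩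
  set u := g⁻¹ * y * g with hu
  have hy2 : orderOf y = 2 := orderOf_eq_prime (core_sq D ht y hy) hy1
  have hu2 : orderOf u = 2 := by
    refine orderOf_eq_prime (core_sq D ht u hy') fun e => hy1 ?_
    calc y = g * u * g⁻¹ := by rw [hu]; group
      _ = 1 := by rw [e]; group
  have h := core_conj D hu2 g
  rw [show g * u * g⁻¹ = y by rw [hu]; group, core_eq_of_mem D ht hy hy2, core_eq_of_mem D ht hy' hu2] at h
  refine mem_normalizer_fintype fun z hz => ?_
  exact h.ge (mem_map_of_mem _ hz)

/-- Fixed points of an element of prime order dividing the order of the stabiliser once. -/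
theorem card_fixed_prime {p : ℕ} [Fact p.Prime] {t b : G} (hp2 : ¬ p ^ 2 ∣ Nat.card (coreNorm t))
    (hb : orderOf b = p) (hbN : b ∈ coreNorm t) :
    Nat.card {q : Pts t // b • q = q} * Nat.card ↥(coreNorm t ⊓ nrm b) = Nat.card (nrm b) := by
  set N := coreNorm t with hN
  have hfix : ∀ w : nrm b, b • ((w : G) : Pts t) = ((w : G) : Pts t) := fun w => by
    rw [smul_coe_eq_iff]
    obtain ⟨i, hi⟩ := mem_zpowers_iff.mp ((mem_normalizer_iff.mp (inv_mem w.2) b).mp (mem_zpowers b))
    rw [inv_inv] at hi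
    exact hi ▸ zpow_mem hbN i
  have hsurj : Function.Surjective
      (fun w : nrm b => (⟨((w : G) : Pts t), hfix w⟩ : {q : Pts t // b • q = q})) := by
    rintro ⟨q, hq⟩
    obtain ⟨g, rfl⟩ := QuotientGroup.mk_surjective q
    have hg := smul_coe_eq_iff.mp hq
    obtain ⟨u, hu, he⟩ := exists_conj_in hp2 hb (b := g⁻¹ * b * g)
      (by rw [← hb]; simpa using orderOf_injective (MulAut.conj g⁻¹).toMonoidHom (MulEquiv.injective _) b)
      hbN hg
    refine ⟨⟨g * u, mem_normalizer_fintype fun y hy => ?_⟩, Subtype.ext ?_⟩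
    · obtain ⟨i, rfl⟩ := mem_zpowers_iff.mp hy
      rw [← conj_zpow]
      refine zpow_mem ?_ i
      obtain ⟨j, hj⟩ := mem_zpowers_iff.mp (he.le (mem_zpowers (u * b * u⁻¹)))
      refine mem_zpowers_iff.mpr ⟨j, ?_⟩
      calc b ^ j = g * (g⁻¹ * b * g) ^ j * g⁻¹ := by
            rw [show g⁻¹ * b * g = g⁻¹ * b * g⁻¹⁻¹ by group, conj_zpow]; group
        _ = g * u * b * (g * u)⁻¹ := by rw [hj]; group
    · show ((g * u : G) : Pts t) = (g : Pts t)
      rw [QuotientGroup.eq]
      simpa using inv_mem hu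
  have e : Nat.card {q : Pts t // b • q = q} = Nat.card (nrm b ⧸ N.subgroupOf (nrm b)) := by
    refine (Nat.card_congr (Equiv.ofBijective (Quotient.lift
      (fun w : nrm b => (⟨((w : G) : Pts t), hfix w⟩ : {q : Pts t // b • q = q})) ?_) ⟨?_, ?_⟩)).symm
    · intro v w h
      have h' := QuotientGroup.leftRel_apply.mp h
      exact Subtype.ext (QuotientGroup.eq.mpr (by simpa [mem_subgroupOf] using h'))
    · intro v w
      induction v using Quotient.inductionOn with | h v => ?_
      induction w using Quotient.inductionOn with | h w => ?_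
      intro h
      refine Quotient.sound (QuotientGroup.leftRel_apply.mpr ?_)
      rw [mem_subgroupOf]
      simpa using QuotientGroup.eq.mp (congrArg Subtype.val h)
    · intro q
      obtain ⟨w, hw⟩ := hsurj q
      exact ⟨Quotient.mk'' w, hw⟩
  have hc : Nat.card (N.subgroupOf (nrm b)) = Nat.card ↥(N ⊓ nrm b) := by
    rw [← inf_subgroupOf_right]
    exact Cores.card_subgroupOf inf_le_right
  rw [e, ← hc]
  exact (N.subgroupOf (nrm b)).card_eq_card_quotient_mul_card_subgroup.symm

theorem card_five_norm {t b : G} (ht : orderOf t = 2) (hb : orderOf b = 5) (hbN : b ∈ coreNorm t) :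
    Nat.card ↥(coreNorm t ⊓ nrm b) = 20 := by
  have : Fact (Nat.Prime 5) := ⟨by norm_num⟩
  obtain ⟨m, hm, hmod, -⟩ := sub_inf_normalizer_mul hb (coreNorm t)
    (by rw [card_normalizer_core D ht]; norm_num) hbN
  rw [card_normalizer_core D ht] at hm
  have hd : Nat.card ↥(coreNorm t ⊓ nrm b) ∣ 60 := D.norm_five b hb ▸ card_dvd_of_le inf_le_right
  have h5 : 5 ∣ Nat.card ↥(coreNorm t ⊓ nrm b) :=
    hb ▸ order_dvd_card (mem_inf.mpr ⟨hbN, le_normalizer (mem_zpowers b)⟩)
  obtain ⟨k, hk⟩ := h5
  rw [hk] at hm hd ⊢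
  have hk12 : k ∣ 12 := (Nat.mul_dvd_mul_iff_left (by norm_num : 0 < 5)).mp hd
  have : k ≤ 12 := Nat.le_of_dvd (by norm_num) hk12
  interval_cases k <;> first | omega | (norm_num at hk12)

theorem card_fixed_five {t b : G} (ht : orderOf t = 2) (hb : orderOf b = 5) (hbN : b ∈ coreNorm t) :
    Nat.card {q : Pts t // b • q = q} = 3 := by
  have : Fact (Nat.Prime 5) := ⟨by norm_num⟩
  have h := card_fixed_prime D (by rw [card_normalizer_core D ht]; norm_num) hb hbN
  rw [card_five_norm D ht hb hbN, D.norm_five b hb] at h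
  omega

theorem seven_core_cent {t a : G} (ht : orderOf t = 2) (ha : orderOf a = 7) (haN : a ∈ coreNorm t) :
    ∃ s ∈ core t, orderOf s = 2 ∧ s * a = a * s := by
  have : Fact (Nat.Prime 7) := ⟨by norm_num⟩
  have : Fact (Nat.Prime 2) := ⟨by norm_num⟩
  have h := modEq_inf ha (core t) fun y hy => (mem_coreNorm haN).mp hy
  rw [card_core D ht] at h
  have h1 : Nat.card ↥(core t ⊓ cnt1 a) ≠ 1 := fun e => by rw [e] at h; exact absurd h (by decide)
  have : Nontrivial ↥(core t ⊓ cnt1 a) := Finite.one_lt_card_iff_nontrivial.mp (by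
    have := (Nat.card_pos (α := ↥(core t ⊓ cnt1 a))); omega)
  obtain ⟨s, hs⟩ := exists_ne (1 : ↥(core t ⊓ cnt1 a))
  exact ⟨s, (mem_inf.mp s.2).1, orderOf_eq_prime (core_sq D ht _ (mem_inf.mp s.2).1)
    (fun e => hs (Subtype.ext e)), mem_centralizer_singleton_iff.mp (mem_inf.mp s.2).2⟩

theorem card_fixed_seven {t a : G} (ht : orderOf t = 2) (ha : orderOf a = 7) (haN : a ∈ coreNorm t) :
    Nat.card {q : Pts t // a • q = q} = 1 := by
  have : Fact (Nat.Prime 7) := ⟨by norm_num⟩
  obtain ⟨s, hs, hs2, hsa⟩ := seven_core_cent D ht ha haN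
  have hle : nrm a ≤ coreNorm t := by
    rw [coreNorm, ← core_eq_of_mem D ht hs hs2]
    exact (seven_norm_le D hs2 ha hsa).trans (normalizes_core s)
  have h := card_fixed_prime D (by rw [card_normalizer_core D ht]; norm_num) ha haN
  rw [inf_eq_right.mpr hle, D.norm_seven a ha] at h
  omega

theorem seven_fixed_eq {t a : G} (ht : orderOf t = 2) (ha : orderOf a = 7) (haN : a ∈ coreNorm t)
    {p : Pts t} (hp : a • p = p) : p = base t := by
  have hc := card_fixed_seven D ht ha haN
  obtain ⟨h1, -⟩ := Nat.card_eq_one_iff_unique.mp hc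
  exact congrArg Subtype.val (h1.elim (⟨p, hp⟩ : {q : Pts t // a • q = q}) ⟨base t, smul_base_eq_iff.mpr haN⟩)

theorem core_stab_inf {t g : G} (ht : orderOf t = 2) (hg : g ∉ coreNorm t) :
    coreStab t (g : Pts t) ⊓ (core t).map (MulAut.conj g).toMonoidHom = ⊥ := by
  rw [eq_bot_iff]
  intro y hy
  by_contra hy1
  obtain ⟨w, hw, rfl⟩ := mem_map.mp (mem_inf.mp hy).2
  refine hg (core_inf_conj D ht (mem_inf.mp (mem_inf.mp hy).1).1 (fun e => hy1 (by rw [mem_bot]; exact e)) ?_)
  simpa [mul_assoc] using hw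

theorem card_core_stab_le {t : G} (ht : orderOf t = 2) {p : Pts t} (hp : p ≠ base t) :
    Nat.card (coreStab t p) ≤ 8 := by
  have : Fact (Nat.Prime 2) := ⟨by norm_num⟩
  obtain ⟨g, rfl⟩ := QuotientGroup.mk_surjective p
  have hg : g ∉ coreNorm t := fun h => hp (QuotientGroup.eq.mpr (by simpa using h))
  set F := coreStab t (g : Pts t) with hF
  set E' := (core t).map (MulAut.conj g).toMonoidHom with hE'
  have hn : F ≤ normalizer (E' : Set G) := fun f hf => by
    refine mem_normalizer_fintype fun y hy => ?_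
    obtain ⟨w, hw, rfl⟩ := mem_map.mp hy
    refine mem_map.mpr ⟨g⁻¹ * f * g * w * (g⁻¹ * f * g)⁻¹, (mem_coreNorm (stab_pt_iff.mp (mem_inf.mp hf).2)).mp hw, ?_⟩
    simp [mul_assoc]
  have hpg : IsPGroup 2 ↥(E' ⊔ F) := by
    rw [sup_comm]
    exact ((isPGroup_core t).to_le inf_le_left).to_sup_of_normal_right' ((isPGroup_core t).map _) hn
  obtain ⟨l, hl⟩ := hpg.exists_card_eq
  have h := PLocal.card_sup_mul_card_inf hn
  rw [inf_comm, core_stab_inf D ht hg, card_bot, mul_one, hl, hE', card_map_of_injective (MulEquiv.injective _),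
    card_core D ht] at h
  have hd : 2 ^ l ∣ 10200960 := by rw [← hl, ← D.card]; exact card_subgroup_dvd_card _
  have hl7 : l ≤ 7 := by
    by_contra hl8
    have := (pow_dvd_pow 2 (show 8 ≤ l by omega)).trans hd
    norm_num at this
  have := Nat.pow_le_pow_right (show 1 ≤ 2 by norm_num) hl7
  norm_num at this
  omega

theorem card_fixed_eq {t s : G} (ht : orderOf t = 2) (hs : s ∈ core t) (hs1 : s ≠ 1) :
    Nat.card {p : Pts t // s • p = p} = Nat.card {p : Pts t // t • p = p} := by
  obtain ⟨g, -, hg⟩ := exists_conj_core D ht hs hs1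
  refine (Nat.card_congr ?_).symm
  exact
    { toFun := fun p => ⟨g • p.1, by
        conv_lhs => rw [← hg]
        rw [mul_smul, mul_smul, inv_smul_smul, p.2]⟩
      invFun := fun p => ⟨g⁻¹ • p.1, by
        have h : (g * t * g⁻¹) • p.1 = p.1 := (congrArg (fun z : G => z • p.1) hg).trans p.2
        rw [mul_smul, mul_smul] at h
        exact (smul_eq_iff_eq_inv_smul g).mp h⟩
      left_inv := fun p => Subtype.ext (inv_smul_smul g p.1)
      right_inv := fun p => Subtype.ext (smul_inv_smul g p.1) }

theorem sum_coreStab {t : G} (ht : orderOf t = 2) [Fintype (Pts t)] :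
    ∑ p : Pts t, Nat.card (coreStab t p) = 253 + 15 * Nat.card {p : Pts t // t • p = p} := by
  classical
  have := Fintype.ofFinite G
  have e : ∀ p : Pts t, Nat.card (coreStab t p) = ∑ s : core t, if (s : G) • p = p then 1 else 0 := fun p => by
    rw [Finset.sum_boole, Nat.cast_id, ← Fintype.card_subtype, ← Nat.card_eq_fintype_card]
    exact Nat.card_congr
      { toFun := fun y => ⟨⟨y, (mem_inf.mp y.2).1⟩, (mem_inf.mp y.2).2⟩
        invFun := fun y => ⟨y.1, mem_inf.mpr ⟨y.1.2, y.2⟩⟩
        left_inv := fun y => rfl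
        right_inv := fun y => rfl }
  simp only [e]
  rw [Finset.sum_comm, ← Finset.sum_erase_add _ _ (Finset.mem_univ (1 : core t))]
  have h1 : (∑ p : Pts t, if ((1 : core t) : G) • p = p then 1 else 0) = 253 := by
    rw [← card_points D ht, Nat.card_eq_fintype_card]
    simp
  have h2 : ∀ s ∈ (Finset.univ : Finset (core t)).erase 1,
      (∑ p : Pts t, if (s : G) • p = p then 1 else 0) = Nat.card {p : Pts t // t • p = p} := fun s hs => by
    rw [← card_fixed_eq D ht s.2 (fun e => (Finset.mem_erase.mp hs).1 (Subtype.ext e)), Finset.sum_boole,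
      Nat.cast_id, ← Fintype.card_subtype, Nat.card_eq_fintype_card]
  rw [Finset.sum_congr rfl h2, h1, Finset.sum_const, Finset.card_erase_of_mem (Finset.mem_univ _),
    Finset.card_univ, ← Nat.card_eq_fintype_card, card_core D ht, smul_eq_mul]
  omega

theorem card_fixed_invol {t : G} (ht : orderOf t = 2) :
    Nat.card {p : Pts t // t • p = p} = 29 := by
  classical
  have : Fact (Nat.Prime 7) := ⟨by norm_num⟩
  have := Fintype.ofFinite G
  have := Fintype.ofFinite (Pts t)
  set f := Nat.card {p : Pts t // t • p = p} with hf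
  have hsum := sum_coreStab D ht
  rw [← hf] at hsum
  -- Burnside
  have hB : 16 ∣ 253 + 15 * f := by
    rw [← hsum, ← card_core D ht, Nat.card_eq_fintype_card]
    have hb := MulAction.sum_card_fixedBy_eq_card_orbits_mul_card_group (core t) (Pts t)
    refine Dvd.intro_left (Fintype.card (Quotient (MulAction.orbitRel (core t) (Pts t)))) (hb.symm.trans ?_)
    have e : ∀ p : Pts t, Nat.card (coreStab t p) = ∑ s : core t, if (s : G) • p = p then 1 else 0 := fun p => by
      rw [Finset.sum_boole, Nat.cast_id, ← Fintype.card_subtype, ← Nat.card_eq_fintype_card]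
      exact Nat.card_congr
        { toFun := fun y => ⟨⟨y, (mem_inf.mp y.2).1⟩, (mem_inf.mp y.2).2⟩
          invFun := fun y => ⟨y.1, mem_inf.mpr ⟨y.1.2, y.2⟩⟩
          left_inv := fun y => rfl
          right_inv := fun y => rfl }
    simp only [e]
    rw [Finset.sum_comm]
    refine Finset.sum_congr rfl fun s _ => ?_
    rw [Finset.sum_boole, Nat.cast_id, ← Fintype.card_subtype]
    exact Fintype.card_congr (Equiv.subtypeEquivRight fun p => Iff.rfl)
  -- an element of order seven
  obtain ⟨a, ha, hta⟩ := exists_seven D ht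
  have haN : a ∈ coreNorm t := normalizes_core t (mem_centralizer_singleton_iff.mpr hta.symm)
  have hmod : f ≡ 1 [MOD 7] := by
    have hta' : ∀ p : {p : Pts t // t • p = p}, t • a • (p : Pts t) = a • (p : Pts t) := fun p => by
      rw [← mul_smul, hta, mul_smul, p.2]
    let σ : Equiv.Perm {p : Pts t // t • p = p} :=
      { toFun := fun p => ⟨a • p.1, hta' p⟩
        invFun := fun p => ⟨a⁻¹ • p.1, by
          rw [← mul_smul, (Commute.inv_right hta).eq, mul_smul, p.2]⟩
        left_inv := fun p => Subtype.ext (inv_smul_smul a p.1)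
        right_inv := fun p => Subtype.ext (smul_inv_smul a p.1) }
    have hσ : σ ^ 7 ^ 1 = 1 := by
      refine Equiv.ext fun p => Subtype.ext ?_
      have : ∀ n : ℕ, ((σ ^ n) p : Pts t) = a ^ n • (p : Pts t) := fun n => by
        induction n with
        | zero => simp
        | succ n ih => rw [pow_succ', Equiv.Perm.mul_apply, pow_succ', mul_smul, ← ih]; rfl
      rw [this, pow_one, ← ha, pow_orderOf_eq_one, one_smul, Equiv.Perm.one_apply]
    have hP : IsPGroup 7 (zpowers σ) := by
      obtain ⟨l, -, hl⟩ := (Nat.dvd_prime_pow (Fact.out : Nat.Prime 7)).mp (orderOf_dvd_of_pow_eq_one hσ)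
      exact IsPGroup.of_card (n := l) (by rw [Nat.card_zpowers, hl])
    have h := hP.card_modEq_card_fixedPoints (α := {p : Pts t // t • p = p})
    rw [← hf] at h
    suffices h1 : Nat.card (MulAction.fixedPoints (zpowers σ) {p : Pts t // t • p = p}) = 1 by rwa [h1] at h
    rw [Nat.card_eq_one_iff_unique]
    refine ⟨⟨fun p q => ?_⟩, ⟨⟨⟨base t, smul_base_eq_iff.mpr (core_le_coreNorm t (mem_core_self D ht))⟩, ?_⟩⟩⟩
    · have hp := seven_fixed_eq D ht ha haN (congrArg Subtype.val (p.2 ⟨σ, mem_zpowers σ⟩))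
      have hq := seven_fixed_eq D ht ha haN (congrArg Subtype.val (q.2 ⟨σ, mem_zpowers σ⟩))
      exact Subtype.ext (Subtype.ext (hp.trans hq.symm))
    · rintro ⟨z, hz⟩
      obtain ⟨i, rfl⟩ := mem_zpowers_iff.mp hz
      exact Equiv.Perm.zpow_apply_eq_self_of_apply_eq_self (Subtype.ext (smul_base_eq_iff.mpr haN)) i
  -- the bound
  have hle : 253 + 15 * f ≤ 16 + 252 * 8 := by
    rw [← hsum, ← Finset.add_sum_erase _ _ (Finset.mem_univ (base t))]
    refine Nat.add_le_add ?_ ?_
    · exact (card_le_of_le inf_le_left).trans (card_core D ht).le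
    · have h := Finset.sum_le_card_nsmul ((Finset.univ : Finset (Pts t)).erase (base t))
        (fun p => Nat.card (coreStab t p)) 8 fun p hp => card_core_stab_le D ht (Finset.mem_erase.mp hp).1
      rw [Finset.card_erase_of_mem (Finset.mem_univ _), Finset.card_univ, ← Nat.card_eq_fintype_card,
        card_points D ht, smul_eq_mul] at h
      exact h
  have hf' : f ≤ 118 := by omega
  unfold Nat.ModEq at hmod
  omega

end Cfsg.Agent.Order10200960
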