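/-
The orbits of lengths 1, 112 and 140 of a point stabiliser on the 253 points, in a group with the local
data of `M₂₃`.

Main results (namespace `Cfsg.Agent.Order10200960`): `seven_dvd_orbit`, `orbit_split`.
-/
import Cfsg.Agent.Lib.Order10200960.GeomFix

set_option autoImplicit false
set_option maxHeartbeats 1000000

open Subgroup MulAction Cfsg Cfsg.Agent

namespace Cfsg.Agent.Order10200960

open SmallOrders

/-- The possible orbit data: lengths `L`, kernel orders `e` and fixed point counts `fx`. -/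
theorem orbit_arith {ι : Type*} [DecidableEq ι] (S : Finset ι) (L e fx : ι → ℕ)
    (hpos : ∀ q ∈ S, 0 < L q) (h7 : ∀ q ∈ S, 7 ∣ L q) (he : ∀ q ∈ S, e q ∈ [1, 2, 4, 8])
    (h16 : ∀ q ∈ S, 16 ∣ L q * e q)
    (hL : ∑ q ∈ S, L q = 252) (hLe : ∑ q ∈ S, L q * e q = 672) (hfx : ∑ q ∈ S, fx q = 2)
    (hmod : ∀ q ∈ S, fx q % 5 = L q % 5) :
    ∃ q r, q ≠ r ∧ S = {q, r} ∧ L q = 112 ∧ e q = 1 ∧ L r = 140 ∧ e r = 4 := by
  have he' : ∀ q ∈ S, e q = 1 ∨ e q = 2 ∨ e q = 4 ∨ e q = 8 := fun q hq => by simpa using he q hq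
  have hk : ∀ q ∈ S, 112 ∣ L q * e q := fun q hq =>
    Nat.Coprime.mul_dvd_of_dvd_of_dvd (by norm_num : Nat.Coprime 7 16) ((h7 q hq).mul_right _) (h16 q hq)
  have hge : ∀ q ∈ S, 112 ≤ L q * e q := fun q hq => Nat.le_of_dvd (by
    rcases he' q hq with h | h | h | h <;> rw [h] <;> have := hpos q hq <;> omega) (hk q hq)
  by_cases h5 : ∃ r ∈ S, L r * e r = 560
  · obtain ⟨r, hr, hr5⟩ := h5
    have hsum : ∑ q ∈ S.erase r, L q * e q = 112 := by
      have := Finset.add_sum_erase S (fun q => L q * e q) hr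
      omega
    have hc : (S.erase r).card = 1 := by
      have h1 := Finset.card_nsmul_le_sum (S.erase r) (fun q => L q * e q) 112
        fun q hq => hge q (Finset.mem_of_mem_erase hq)
      rw [hsum, smul_eq_mul] at h1
      rcases (S.erase r).eq_empty_or_nonempty with h0 | h0
      · rw [h0] at hsum; simp at hsum
      · have := h0.card_pos
        omega
    obtain ⟨q, hq⟩ := Finset.card_eq_one.mp hc
    have hq' : q ∈ S.erase r := by rw [hq]; exact Finset.mem_singleton_self q
    have hS : S = {q, r} := by rw [← Finset.insert_erase hr, hq, Finset.pair_comm]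
    rw [hq, Finset.sum_singleton] at hsum
    have hne : q ≠ r := (Finset.mem_erase.mp hq').1
    rw [hS, Finset.sum_pair hne] at hL
    refine ⟨q, r, hne, hS, ?_⟩
    rcases he' q (Finset.mem_of_mem_erase hq') with h | h | h | h <;>
      rcases he' r hr with h' | h' | h' | h' <;> rw [h] at hsum ⊢ <;> rw [h'] at hr5 ⊢ <;> omega
  · exfalso
    push Not at h5
    have hlt : ∀ q ∈ S, L q * e q ≤ 672 := fun q hq =>
      hLe ▸ Finset.single_le_sum (f := fun q => L q * e q) (fun _ _ => Nat.zero_le _) hq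
    have hf : ∀ q ∈ S, 1 ≤ fx q := fun q hq => by
      obtain ⟨k, hk'⟩ := hk q hq
      have h1 := hlt q hq
      have h2 := hge q hq
      have h3 := h5 q hq
      have h4 := hmod q hq
      have h6 := hpos q hq
      rcases he' q hq with h | h | h | h <;> rw [h] at hk' h1 h2 h3 <;>
      · have : k ≤ 6 := by omega
        interval_cases k <;> omega
    have hc : S.card ≤ 2 := by
      have h1 := Finset.card_nsmul_le_sum S fx 1 hf
      rw [hfx, smul_eq_mul, mul_one] at h1
      exact h1
    rcases (show S.card = 0 ∨ S.card = 1 ∨ S.card = 2 by omega) with h | h | h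
    · rw [Finset.card_eq_zero.mp h] at hL; simp at hL
    · obtain ⟨q, rfl⟩ := Finset.card_eq_one.mp h
      rw [Finset.sum_singleton] at hL hLe
      rw [hL] at hLe
      omega
    · obtain ⟨q, r, hne, rfl⟩ := Finset.card_eq_two.mp h
      rw [Finset.sum_pair hne] at hL hLe hfx
      have hq : q ∈ ({q, r} : Finset ι) := by simp
      have hr : r ∈ ({q, r} : Finset ι) := by simp
      obtain ⟨k, hk'⟩ := hk q hq
      obtain ⟨l, hl'⟩ := hk r hr
      have f1 := hf q hq
      have f2 := hf r hr
      have m1 := hmod q hq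
      have m2 := hmod r hr
      have g1 := hge q hq
      have g2 := hge r hr
      have c1 := h5 q hq
      have c2 := h5 r hr
      have hk1 : 1 ≤ k := by omega
      have hl1 : 1 ≤ l := by omega
      obtain rfl : l = 6 - k := by omega
      have : k ≤ 5 := by omega
      rcases he' q hq with e1 | e1 | e1 | e1 <;> rcases he' r hr with e2 | e2 | e2 | e2 <;>
        rw [e1] at hk' c1 <;> rw [e2] at hl' c2 <;> interval_cases k <;> omega

variable {G : Type*} [Group G]

theorem coreStab_smul {t n : G} (hn : n ∈ coreNorm t) (p : Pts t) :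
    coreStab t (n • p) = (coreStab t p).map (MulAut.conj n).toMonoidHom := by
  ext y
  rw [mem_map_equiv, MulAut.conj_symm_apply, coreStab, coreStab, mem_inf, mem_inf, mem_stabilizer_iff,
    mem_stabilizer_iff, mul_smul, mul_smul, inv_smul_eq_iff]
  refine and_congr_left fun _ => ?_
  simpa using mem_coreNorm (inv_mem hn)

theorem card_coreStab_orbit {t : G} {p q : Pts t} (h : q ∈ orbit (coreNorm t) p) :
    Nat.card (coreStab t q) = Nat.card (coreStab t p) := by
  obtain ⟨n, rfl⟩ := h
  show Nat.card (coreStab t ((n : G) • p)) = _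
  rw [coreStab_smul n.2, card_map_of_injective (MulEquiv.injective _)]

theorem card_orbit_mul {t : G} (p : Pts t) :
    Nat.card (orbit (coreNorm t) p) * Nat.card ↥(coreNorm t ⊓ stabilizer G p) = Nat.card (coreNorm t) := by
  have h := (stabilizer (coreNorm t) p).card_eq_card_quotient_mul_card_subgroup
  rw [← Nat.card_congr (orbitEquivQuotientStabilizer (coreNorm t) p)] at h
  have e : Nat.card (stabilizer (coreNorm t) p) = Nat.card ↥(coreNorm t ⊓ stabilizer G p) := by
    refine Nat.card_congr
      { toFun := fun y => ⟨y.1.1, mem_inf.mpr ⟨y.1.2, y.2⟩⟩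
        invFun := fun y => ⟨⟨y.1, (mem_inf.mp y.2).1⟩, (mem_inf.mp y.2).2⟩
        left_inv := fun y => rfl
        right_inv := fun y => rfl }
  rw [← e]
  exact h.symm

theorem orbit_base (t : G) : orbit (coreNorm t) (base t) = {base t} := by
  refine Set.eq_singleton_iff_unique_mem.mpr ⟨mem_orbit_self _, ?_⟩
  rintro q ⟨n, rfl⟩
  exact smul_base_eq_iff.mpr n.2

variable [Finite G] (D : LocalData G)
include D

theorem seven_dvd_orbit {t : G} (ht : orderOf t = 2) {p : Pts t} (hp : p ≠ base t) :
    7 ∣ Nat.card (orbit (coreNorm t) p) := by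
  have : Fact (Nat.Prime 7) := ⟨by norm_num⟩
  have h := card_orbit_mul p
  rw [card_normalizer_core D ht] at h
  refine ((show Nat.Prime 7 by norm_num).dvd_mul.mp (by rw [h]; norm_num)).resolve_right fun h7 => ?_
  obtain ⟨a, ha⟩ := exists_prime_orderOf_dvd_card' (G := ↥(coreNorm t ⊓ stabilizer G p)) 7 h7
  exact hp (seven_fixed_eq D ht (by rw [orderOf_coe, ha]) (mem_inf.mp a.2).1 (mem_inf.mp a.2).2)

theorem sixteen_dvd_orbit {t : G} (ht : orderOf t = 2) (p : Pts t) :
    16 ∣ Nat.card (orbit (coreNorm t) p) * Nat.card (coreStab t p) := by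
  set S := coreNorm t ⊓ stabilizer G p with hS
  have h := PLocal.card_sup_mul_card_inf (inf_le_left : S ≤ normalizer ((core t : Subgroup G) : Set G))
  have hinf : core t ⊓ S = coreStab t p := by
    rw [hS, ← inf_assoc, inf_eq_left.mpr (core_le_coreNorm t)]; rfl
  rw [hinf, card_core D ht] at h
  obtain ⟨i, hi⟩ := card_dvd_of_le (sup_le (core_le_coreNorm t) inf_le_left : core t ⊔ S ≤ coreNorm t)
  have ho := card_orbit_mul p
  rw [← hS] at ho
  refine Dvd.intro i (Nat.eq_of_mul_eq_mul_right (Nat.card_pos (α := S)) ?_)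
  calc 16 * i * Nat.card S = Nat.card (coreStab t p) * (Nat.card ↥(core t ⊔ S) * i) := by
        rw [mul_comm (Nat.card (coreStab t p)), mul_assoc, mul_comm i (Nat.card _), ← mul_assoc, ← h]; ring
    _ = _ := by rw [← hi, ← ho]; ring

theorem orbit_split {t : G} (ht : orderOf t = 2) : ∃ β γ : Pts t, β ≠ base t ∧ γ ≠ base t ∧
    Nat.card (orbit (coreNorm t) β) = 112 ∧ coreStab t β = ⊥ ∧
    Nat.card (orbit (coreNorm t) γ) = 140 ∧ Nat.card (coreStab t γ) = 4 ∧
    ∀ p, p ≠ base t → p ∈ orbit (coreNorm t) β ∨ p ∈ orbit (coreNorm t) γ := by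
  classical
  have : Fact (Nat.Prime 5) := ⟨by norm_num⟩
  have : Fact (Nat.Prime 2) := ⟨by norm_num⟩
  have := Fintype.ofFinite G
  have := Fintype.ofFinite (Pts t)
  set N := coreNorm t with hN
  let Q := orbitRel.Quotient N (Pts t)
  have := Fintype.ofFinite Q
  let π : Pts t → Q := Quotient.mk''
  have hπ : ∀ p q : Pts t, π p = π q ↔ p ∈ orbit N q := fun p q => Quotient.eq''.trans orbitRel_apply
  have hout : ∀ q : Q, π q.out = q := fun q => Quotient.out_eq q
  have hfib : ∀ (q : Q), (Finset.univ.filter fun p => π p = q).card = Nat.card (orbit N q.out) := fun q => by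
    rw [← Fintype.card_subtype, ← Nat.card_eq_fintype_card]
    exact Nat.card_congr (Equiv.subtypeEquivRight fun p => by rw [← hπ, hout])
  obtain ⟨b₀, hb₀⟩ := exists_prime_orderOf_dvd_card' (G := N) 5 (by rw [card_normalizer_core D ht]; norm_num)
  set b : G := (b₀ : G) with hbdef
  have hb : orderOf b = 5 := by rw [hbdef, orderOf_coe, hb₀]
  let L : Q → ℕ := fun q => Nat.card (orbit N q.out)
  let e : Q → ℕ := fun q => Nat.card (coreStab t q.out)
  let fx : Q → ℕ := fun q => (Finset.univ.filter fun p => π p = q ∧ b • p = p).card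
  set q₀ := π (base t) with hq₀
  set S := (Finset.univ : Finset Q).erase q₀ with hS
  have hne : ∀ q ∈ S, ∀ p, π p = q → p ≠ base t := fun q hq p hp h =>
    (Finset.mem_erase.mp hq).1 (by rw [← hp, h])
  have hsplit : ∀ f : Pts t → ℕ, (∑ q ∈ S, ∑ p ∈ Finset.univ.filter (fun p => π p = q), f p) + f (base t)
      = ∑ p, f p := fun f => by
    rw [← Finset.sum_fiberwise Finset.univ π f, ← Finset.sum_erase_add _ _ (Finset.mem_univ q₀)]
    refine congrArg₂ (· + ·) rfl ?_
    have : Finset.univ.filter (fun p => π p = q₀) = {base t} := by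
      ext p
      rw [Finset.mem_filter, hq₀, hπ, orbit_base, Finset.mem_singleton]
      simp
    rw [this, Finset.sum_singleton]
  have hL : ∑ q ∈ S, L q = 252 := by
    have h := hsplit (fun _ => 1)
    simp only [Finset.sum_const, smul_eq_mul, mul_one, hfib] at h
    rw [Finset.card_univ, ← Nat.card_eq_fintype_card, card_points D ht] at h
    show ∑ q ∈ S, Nat.card (orbit N q.out) = 252
    omega
  have hconst : ∀ q : Q, ∀ p, π p = q → Nat.card (coreStab t p) = e q := fun q p hp =>
    card_coreStab_orbit ((hπ p q.out).mp (hp.trans (hout q).symm))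
  have hLe : ∑ q ∈ S, L q * e q = 672 := by
    have h := hsplit (fun p => Nat.card (coreStab t p))
    rw [sum_coreStab D ht, card_fixed_invol D ht] at h
    have hb16 : Nat.card (coreStab t (base t)) = 16 := by
      rw [coreStab, inf_eq_left.mpr fun y hy => mem_stabilizer_iff.mpr
        (smul_base_eq_iff.mpr (core_le_coreNorm t hy)), card_core D ht]
    have h2 : ∀ q ∈ S, ∑ p ∈ Finset.univ.filter (fun p => π p = q), Nat.card (coreStab t p) = L q * e q :=
      fun q _ => by
        rw [Finset.sum_congr rfl (fun p hp => hconst q p (Finset.mem_filter.mp hp).2), Finset.sum_const,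
          smul_eq_mul, hfib]
    rw [Finset.sum_congr rfl h2, hb16] at h
    omega
  have hfx : ∑ q ∈ S, fx q = 2 := by
    have h := hsplit (fun p => if b • p = p then 1 else 0)
    rw [Finset.sum_boole, Nat.cast_id, ← Fintype.card_subtype, ← Nat.card_eq_fintype_card,
      card_fixed_five D ht hb b₀.2, if_pos (smul_base_eq_iff.mpr b₀.2)] at h
    simp only [Finset.sum_boole, Nat.cast_id, Finset.filter_filter] at h
    show ∑ q ∈ S, (Finset.univ.filter fun p => π p = q ∧ b • p = p).card = 2
    omega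
  have hmod : ∀ q ∈ S, fx q % 5 = L q % 5 := fun q _ => by
    have hP : IsPGroup 5 (zpowers b₀) := IsPGroup.of_card (n := 1) (by rw [Nat.card_zpowers, hb₀, pow_one])
    have h := hP.card_modEq_card_fixedPoints (α := orbit N q.out)
    have e1 : fx q = Nat.card (fixedPoints (zpowers b₀) (orbit N q.out)) := by
      show (Finset.univ.filter fun p => π p = q ∧ b • p = p).card = _
      rw [← Fintype.card_subtype, ← Nat.card_eq_fintype_card]
      refine Nat.card_congr
        { toFun := fun p => ⟨⟨p.1, (hπ _ _).mp (p.2.1.trans (hout q).symm)⟩, fun ⟨z, hz⟩ => ?_⟩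
          invFun := fun p => ⟨p.1.1, ((hπ _ _).mpr p.1.2).trans (hout q), congrArg Subtype.val (p.2 ⟨b₀, mem_zpowers b₀⟩)⟩
          left_inv := fun p => rfl
          right_inv := fun p => rfl }
      obtain ⟨i, rfl⟩ := mem_zpowers_iff.mp hz
      refine Subtype.ext ?_
      change ((b₀ ^ i : N) : G) • p.1 = p.1
      have : b ^ i ∈ stabilizer G p.1 := zpow_mem (mem_stabilizer_iff.mpr p.2.2) i
      simpa using this
    rw [e1]
    exact h.symm
  obtain ⟨q, r, hqr, hSe, hLq, heq, hLr, her⟩ := orbit_arith S L e fx (fun q _ => have : Nonempty (orbit N q.out) := ⟨⟨q.out, mem_orbit_self _⟩⟩; Nat.card_pos)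
    (fun q hq => seven_dvd_orbit D ht (hne q hq _ (hout q)))
    (fun q hq => by
      have h8 := card_core_stab_le D ht (hne q hq _ (hout q))
      obtain ⟨k, hk'⟩ := ((isPGroup_core t).to_le (inf_le_left : coreStab t q.out ≤ core t)).exists_card_eq
      have hk : Nat.card (coreStab t q.out) = 2 ^ k := hk'
      show Nat.card (coreStab t q.out) ∈ [1, 2, 4, 8]
      rw [hk] at h8 ⊢
      have : k ≤ 3 := (Nat.pow_le_pow_iff_right (by norm_num : 1 < 2)).mp h8
      interval_cases k <;> simp)
    (fun q _ => sixteen_dvd_orbit D ht q.out) hL hLe hfx hmod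
  have hqS : q ∈ S := by rw [hSe]; simp
  have hrS : r ∈ S := by rw [hSe]; simp
  refine ⟨q.out, r.out, hne q hqS _ (hout q), hne r hrS _ (hout r), hLq,
    Subgroup.eq_bot_of_card_eq _ heq, hLr, her, fun p hp => ?_⟩
  have hpS : π p ∈ S := Finset.mem_erase.mpr ⟨fun h => hp (by
    have := (hπ p (base t)).mp h
    rwa [orbit_base, Set.mem_singleton_iff] at this), Finset.mem_univ _⟩
  rw [hSe, Finset.mem_insert, Finset.mem_singleton] at hpS
  rcases hpS with h | h
  · exact Or.inl ((hπ _ _).mp (h.trans (hout q).symm))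
  · exact Or.inr ((hπ _ _).mp (h.trans (hout r).symm))

end Cfsg.Agent.Order10200960
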