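/-
The two-point stabiliser of order 360 and the seven classes in the orbit of length 112, in a group with
the local data of `M₂₃`.

Main results (namespace `Cfsg.Agent.Order10200960`): `Adj112`, `card_pairStab`, `card_clsStab`,
`normal_trivial`, `no_index_five`, `normalCore_clsStab`, `pairStab_trans_core`, `pairStab_trans_cosets`.
-/
import Cfsg.Agent.Lib.Order10200960.GeomOrbits

set_option autoImplicit false
set_option maxHeartbeats 1000000

open Subgroup MulAction Cfsg Cfsg.Agent

namespace Cfsg.Agent.Order10200960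

open SmallOrders

variable {G : Type*} [Group G]

/-- The point `β` lies in the orbit of length 112 of the stabiliser of the base point. -/
structure InBig (t : G) (β : Pts t) : Prop where
  ne : β ≠ base t
  card_orbit : Nat.card (orbit (coreNorm t) β) = 112
  coreStab_eq : coreStab t β = ⊥

/-- The stabiliser of the base point and of `β`. -/
abbrev pairStab (t : G) (β : Pts t) : Subgroup G := coreNorm t ⊓ stabilizer G β

/-- The stabiliser of the class of `β` under `core t`. -/
abbrev clsStab (t : G) (β : Pts t) : Subgroup G := core t ⊔ pairStab t β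

theorem core_inf_pairStab {t : G} {β : Pts t} : core t ⊓ pairStab t β = coreStab t β := by
  rw [pairStab, ← inf_assoc, inf_eq_left.mpr (core_le_coreNorm t)]; rfl

theorem clsStab_le {t : G} {β : Pts t} : clsStab t β ≤ coreNorm t :=
  sup_le (core_le_coreNorm t) inf_le_left

theorem mem_clsStab {t : G} {β : Pts t} {h : G} (hh : h ∈ clsStab t β) :
    ∃ e ∈ core t, ∃ l ∈ pairStab t β, e * l = h := by
  have h' : h ∈ ((core t ⊔ pairStab t β : Subgroup G) : Set G) := hh
  rw [Subgroup.coe_mul_of_right_le_normalizer_left (core t) (pairStab t β) inf_le_left] at h'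
  obtain ⟨e, he, l, hl, hel⟩ := h'
  exact ⟨e, he, l, hl, hel⟩

variable [Finite G] (D : LocalData G)
include D

theorem card_pairStab {t : G} (ht : orderOf t = 2) {β : Pts t} (hβ : InBig t β) :
    Nat.card (pairStab t β) = 360 := by
  have h := card_orbit_mul β
  rw [hβ.card_orbit, card_normalizer_core D ht] at h
  show Nat.card ↥(coreNorm t ⊓ stabilizer G β) = 360
  omega

theorem card_clsStab {t : G} (ht : orderOf t = 2) {β : Pts t} (hβ : InBig t β) :
    Nat.card (clsStab t β) = 5760 := by
  have h := PLocal.card_sup_mul_card_inf (inf_le_left : pairStab t β ≤ normalizer ((core t : Subgroup G) : Set G))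
  rw [core_inf_pairStab, hβ.coreStab_eq, card_bot, card_core D ht, card_pairStab D ht hβ, mul_one] at h
  exact h

theorem five_cent {t b : G} (ht : orderOf t = 2) (hb : orderOf b = 5) (hbN : b ∈ coreNorm t) :
    coreNorm t ⊓ cnt1 b = zpowers b := by
  refine (eq_of_le_of_card_ge (zpowers_le.mpr (mem_inf.mpr ⟨hbN, mem_centralizer_singleton_iff.mpr rfl⟩)) ?_).symm
  have h15 : Nat.card ↥(coreNorm t ⊓ cnt1 b) ∣ 15 := D.cent_five b hb ▸ card_dvd_of_le inf_le_right
  have h20 : Nat.card ↥(coreNorm t ⊓ cnt1 b) ∣ 20 :=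
    card_five_norm D ht hb hbN ▸ card_dvd_of_le (inf_le_inf_left _ (cnt1_le_nrm b))
  rw [Nat.card_zpowers, hb]
  exact Nat.le_of_dvd (by norm_num) (Nat.dvd_gcd h15 h20 : _ ∣ Nat.gcd 15 20)

theorem five_fixed_modEq {t b : G} (ht : orderOf t = 2) (hb : orderOf b = 5) (hbN : b ∈ coreNorm t)
    {K : Subgroup G} (hK : K ≤ coreNorm t) (h5 : ¬ 5 ∣ Nat.card K) (hinv : ∀ y ∈ K, b * y * b⁻¹ ∈ K) :
    Nat.card K % 5 = 1 := by
  have : Fact (Nat.Prime 5) := ⟨by norm_num⟩
  have h := modEq_inf hb K hinv
  have he : K ⊓ cnt1 b = ⊥ := by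
    rw [eq_bot_iff]
    intro y hy
    have hy' : y ∈ zpowers b := five_cent D ht hb hbN ▸ mem_inf.mpr ⟨hK (mem_inf.mp hy).1, (mem_inf.mp hy).2⟩
    by_contra hy1
    refine h5 ?_
    have hd : orderOf y ∣ 5 := hb ▸ orderOf_dvd_of_mem_zpowers hy'
    rcases (Nat.dvd_prime (by norm_num)).mp hd with e | e
    · exact absurd (orderOf_eq_one_iff.mp e) fun e1 => hy1 (by rw [mem_bot]; exact e1)
    · exact e ▸ order_dvd_card (mem_inf.mp hy).1
  rw [he, card_bot] at h
  exact h

/-- A normal subgroup of the two-point stabiliser of order prime to five is trivial. -/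
theorem normal_trivial {t : G} (ht : orderOf t = 2) {β : Pts t} (hβ : InBig t β) {K : Subgroup G}
    (hK : K ≤ pairStab t β) (hn : pairStab t β ≤ normalizer (K : Set G)) (h5 : ¬ 5 ∣ Nat.card K) :
    K = ⊥ := by
  have : Fact (Nat.Prime 5) := ⟨by norm_num⟩
  have : Fact (Nat.Prime 3) := ⟨by norm_num⟩
  set L := pairStab t β with hL
  have hL360 : Nat.card L = 360 := card_pairStab D ht hβ
  have hLN : L ≤ coreNorm t := inf_le_left
  obtain ⟨b, hb⟩ := exists_prime_orderOf_dvd_card' (G := L) 5 (by rw [hL360]; norm_num)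
  have hmod := five_fixed_modEq D ht (by rw [orderOf_coe, hb]) (hLN b.2) (hK.trans hLN) h5
    fun y hy => conj_mem_of_normalizes hn b.2 hy
  by_contra hne
  have hd : Nat.card K ∣ 72 := by
    have : Nat.Coprime (Nat.card K) 5 := ((show Nat.Prime 5 by norm_num).coprime_iff_not_dvd.mpr h5).symm
    exact this.dvd_of_dvd_mul_left (show Nat.card K ∣ 5 * 72 by rw [show 5 * 72 = 360 by norm_num, ← hL360]; exact card_dvd_of_le hK)
  have hK1 : Nat.card K ≠ 1 := fun e => hne (Subgroup.eq_bot_of_card_eq _ e)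
  have h3 : 3 ∣ Nat.card K := by
    have := Nat.le_of_dvd (by norm_num) hd
    interval_cases hc : Nat.card K <;> omega
  set K' := K.subgroupOf L with hK'
  have : K'.Normal := (normal_subgroupOf_iff_le_normalizer hK).mpr hn
  have hK'c : Nat.card K' = Nat.card K := Cores.card_subgroupOf hK
  obtain ⟨P⟩ := (inferInstance : Nonempty (Sylow 3 K'))
  set Q := (P : Subgroup K').map K'.subtype with hQ
  have hsup := Sylow.normalizer_sup_eq_top P
  rw [← hQ] at hsup
  have hcard := PLocal.card_sup_mul_card_inf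
    ((normalizer_eq_top_iff.mpr (inferInstance : K'.Normal)).ge.trans' le_top :
      normalizer (Q : Set L) ≤ normalizer (K' : Set L))
  rw [sup_comm, hsup, Subgroup.card_top, hL360, hK'c] at hcard
  have h5N : 5 ∣ Nat.card (normalizer (Q : Set L)) :=
    ((show Nat.Prime 5 by norm_num).dvd_mul.mp (hcard ▸ (show 5 ∣ 360 by norm_num).mul_right _)).resolve_left h5
  obtain ⟨c, hc⟩ := exists_prime_orderOf_dvd_card' (G := normalizer (Q : Set L)) 5 h5N
  have hc5 : orderOf ((c : L) : G) = 5 := by rw [orderOf_coe, orderOf_coe, hc]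
  obtain ⟨e, he⟩ := P.isPGroup'.exists_card_eq
  have hQc : Nat.card (Q.map L.subtype) = 3 ^ e := by rw [Cores.card_map_subtype, hQ, Cores.card_map_subtype, he]
  have hQK : Q.map L.subtype ≤ K := fun y hy => by
    obtain ⟨z, hz, rfl⟩ := mem_map.mp hy
    exact mem_subgroupOf.mp (map_subtype_le _ hz)
  have he1 : 1 ≤ e := by
    by_contra h0
    obtain rfl : e = 0 := by omega
    have h3' := P.dvd_card_of_dvd_card (hK'c ▸ h3)
    rw [he] at h3'
    norm_num at h3'
  have hm := five_fixed_modEq D ht hc5 (hLN (c : L).2) ((hQK.trans hK).trans hLN)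
    (fun h => h5 (h.trans (card_dvd_of_le hQK))) fun y hy => by
      obtain ⟨z, hz, rfl⟩ := mem_map.mp hy
      exact mem_map.mpr ⟨(c : L) * z * (c : L)⁻¹, (mem_normalizer_iff.mp c.2 z).mp hz, rfl⟩
  rw [hQc] at hm
  have h9 : 3 ^ e ∣ 72 := hQc ▸ (card_dvd_of_le hQK).trans hd
  have he2 : e ≤ 2 := by
    by_contra h
    have := (pow_dvd_pow 3 (show 3 ≤ e by omega)).trans h9
    norm_num at this
  interval_cases e <;> norm_num at hm

theorem no_index_five {t : G} (ht : orderOf t = 2) {β : Pts t} (hβ : InBig t β) {S : Subgroup G}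
    (hS : S ≤ pairStab t β) : Nat.card S ≠ 72 := fun hc => by
  classical
  set L := pairStab t β with hL
  have hL360 : Nat.card L = 360 := card_pairStab D ht hβ
  set S' := S.subgroupOf L with hS'
  have hS'c : Nat.card S' = 72 := (Cores.card_subgroupOf hS).trans hc
  have hidx : Nat.card (L ⧸ S') = 5 := by
    have := S'.card_eq_card_quotient_mul_card_subgroup
    rw [hL360, hS'c] at this
    omega
  have hk := (MulAction.toPermHom L (L ⧸ S')).ker.card_eq_card_quotient_mul_card_subgroup
  rw [hL360, Nat.card_congr (QuotientGroup.quotientKerEquivRange _).toEquiv, ← normalCore_eq_ker] at hk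
  have hr : Nat.card (MulAction.toPermHom L (L ⧸ S')).range ∣ 120 := by
    refine (card_subgroup_dvd_card _).trans ?_
    rw [Nat.card_perm, hidx]
    norm_num [Nat.factorial]
  set K := S'.normalCore.map L.subtype with hK
  have hKS : K ≤ S := fun y hy => by
    obtain ⟨z, hz, rfl⟩ := mem_map.mp hy
    exact mem_subgroupOf.mp (normalCore_le _ hz)
  have hKn : L ≤ normalizer (K : Set G) := fun l hl => mem_normalizer_fintype fun y hy => by
    obtain ⟨z, hz, rfl⟩ := mem_map.mp hy
    exact mem_map.mpr ⟨⟨l, hl⟩ * z * ⟨l, hl⟩⁻¹, S'.normalCore_normal.conj_mem _ hz _, rfl⟩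
  have hKc : Nat.card K = Nat.card S'.normalCore := Cores.card_map_subtype _ _
  have hbot := normal_trivial D ht hβ (K := K) (map_subtype_le _) hKn fun h => by
    have := h.trans (hc ▸ card_dvd_of_le hKS : Nat.card K ∣ 72)
    norm_num at this
  rw [hbot, card_bot] at hKc
  rw [← hKc, mul_one] at hk
  rw [← hk] at hr
  norm_num at hr

/-- The kernel of the action of the point stabiliser on the seven classes. -/
theorem normalCore_clsStab {t : G} (ht : orderOf t = 2) {β : Pts t} (hβ : InBig t β) :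
    ((clsStab t β).subgroupOf (coreNorm t)).normalCore = (core t).subgroupOf (coreNorm t) := by
  have : Fact (Nat.Prime 5) := ⟨by norm_num⟩
  set N := coreNorm t with hN
  set H' := (clsStab t β).subgroupOf N with hH'
  have hE : ((core t).subgroupOf N).Normal := Cores.subgroupOf_normal_of_le_normalizer le_rfl
  have hEK : (core t).subgroupOf N ≤ H'.normalCore :=
    normal_le_normalCore.mpr fun y hy => mem_subgroupOf.mpr (mem_sup_left (mem_subgroupOf.mp hy))
  refine (eq_of_le_of_card_ge hEK ?_).symm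
  rw [Cores.card_subgroupOf (core_le_coreNorm t)]
  set K := H'.normalCore.map N.subtype with hK
  have hKH : K ≤ clsStab t β := fun y hy => by
    obtain ⟨z, hz, rfl⟩ := mem_map.mp hy
    exact mem_subgroupOf.mp (normalCore_le _ hz)
  have hKn : N ≤ normalizer (K : Set G) := fun n hn => mem_normalizer_fintype fun y hy => by
    obtain ⟨z, hz, rfl⟩ := mem_map.mp hy
    exact mem_map.mpr ⟨⟨n, hn⟩ * z * ⟨n, hn⟩⁻¹, H'.normalCore_normal.conj_mem _ hz _, rfl⟩
  have hKd : Nat.card K ∣ 5760 := card_clsStab D ht hβ ▸ card_dvd_of_le hKH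
  have h5 : ¬ 5 ∣ Nat.card K := fun h => by
    obtain ⟨b, hb⟩ := exists_prime_orderOf_dvd_card' (G := K) 5 h
    have hb' : orderOf (b : G) = 5 := by rw [orderOf_coe, hb]
    have hbN : (b : G) ∈ N := clsStab_le (hKH b.2)
    have hm := card_normal_mul (map_subtype_le _) hKn (by rw [card_normalizer_core D ht]; norm_num) hb' b.2
    rw [card_normalizer_core D ht, card_five_norm D ht hb' hbN] at hm
    have h5' : 5 ∣ Nat.card ↥(K ⊓ nrm (b : G)) :=
      hb' ▸ order_dvd_card (mem_inf.mpr ⟨b.2, le_normalizer (mem_zpowers _)⟩)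
    have := Nat.le_of_dvd (by norm_num) hKd
    have := Nat.le_of_dvd Nat.card_pos h5'
    nlinarith
  have hKL := normal_trivial D ht hβ (inf_le_right : K ⊓ pairStab t β ≤ pairStab t β)
    (fun l hl => mem_normalizer_fintype fun y hy => mem_inf.mpr
      ⟨(mem_normalizer_iff.mp (hKn (mem_inf.mp hl).1) y).mp (mem_inf.mp hy).1,
        mul_mem (mul_mem hl (mem_inf.mp hy).2) (inv_mem hl)⟩)
    (fun h => h5 (h.trans (card_dvd_of_le inf_le_left)))
  have hsup := PLocal.card_sup_mul_card_inf ((inf_le_left : pairStab t β ≤ N).trans hKn)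
  rw [hKL, card_bot, mul_one, card_pairStab D ht hβ] at hsup
  have hle := Nat.le_of_dvd (by norm_num)
    (card_clsStab D ht hβ ▸ card_dvd_of_le (sup_le hKH le_sup_right) : Nat.card ↥(K ⊔ pairStab t β) ∣ 5760)
  have hKc : Nat.card K = Nat.card H'.normalCore := Cores.card_map_subtype _ _
  rw [hsup] at hle
  rw [card_core D ht, ← hKc]
  omega

theorem pairStab_trans_core {t : G} (ht : orderOf t = 2) {β : Pts t} (hβ : InBig t β) {u s : G}
    (hu : u ∈ core t) (hu1 : u ≠ 1) (hs : s ∈ core t) (hs1 : s ≠ 1) :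
    ∃ l ∈ pairStab t β, l * u * l⁻¹ = s := by
  classical
  have : Fact (Nat.Prime 2) := ⟨by norm_num⟩
  set L := pairStab t β with hL
  have := Fintype.ofFinite G
  have hu2 : orderOf u = 2 := orderOf_eq_prime (core_sq D ht u hu) hu1
  let O : Set G := {y | ∃ l ∈ L, l * u * l⁻¹ = y}
  have hOsub : O ⊆ (core t : Set G) \ {1} := by
    rintro y ⟨l, hl, rfl⟩
    exact ⟨(mem_coreNorm (inf_le_left (b := stabilizer G β) hl)).mp hu, fun e => hu1 (by simpa using e)⟩
  -- orbit times stabiliser
  have hmul : Nat.card O * Nat.card ↥(L ⊓ cnt1 u) = 360 := by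
    rw [← card_pairStab D ht hβ, ← Nat.card_prod]
    choose rep hrep hrep' using fun y : O => y.2
    have hstab : ∀ k ∈ L ⊓ cnt1 u, k * u * k⁻¹ = u := fun k hk => by
      rw [mem_centralizer_singleton_iff.mp (mem_inf.mp hk).2, mul_inv_cancel_right]
    refine Nat.card_congr (Equiv.ofBijective
      (fun p => (⟨rep p.1 * (p.2 : G), mul_mem (hrep p.1) (mem_inf.mp p.2.2).1⟩ : L)) ⟨?_, ?_⟩)
    · rintro ⟨y, k⟩ ⟨y', k'⟩ h
      simp only [Subtype.mk.injEq] at h
      have key : ∀ (z : O) (k : ↥(L ⊓ cnt1 u)), rep z * (k : G) * u * (rep z * (k : G))⁻¹ = z := fun z k => by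
        calc rep z * (k : G) * u * (rep z * (k : G))⁻¹ = rep z * ((k : G) * u * (k : G)⁻¹) * (rep z)⁻¹ := by group
          _ = z := by rw [hstab k k.2, hrep' z]
      have hy : y = y' := Subtype.ext (by rw [← key y k, h, key])
      subst hy
      rw [Subtype.ext (mul_left_cancel h)]
    · intro g
      let y : O := ⟨g * u * (g : G)⁻¹, g, g.2, rfl⟩
      refine ⟨(y, ⟨(rep y)⁻¹ * g, mem_inf.mpr ⟨mul_mem (inv_mem (hrep y)) g.2, ?_⟩⟩), Subtype.ext (by simp)⟩
      rw [mem_centralizer_singleton_iff]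
      have e : rep y * u * (rep y)⁻¹ = g * u * (g : G)⁻¹ := hrep' y
      calc (rep y)⁻¹ * g * u = (rep y)⁻¹ * (g * u * (g : G)⁻¹) * g := by group
        _ = (rep y)⁻¹ * (rep y * u * (rep y)⁻¹) * g := by rw [e]
        _ = u * ((rep y)⁻¹ * g) := by group
  have h15 : Nat.card ((core t : Set G) \ {1} : Set G) = 15 := by
    rw [Nat.card_coe_set_eq, Set.ncard_diff_singleton_of_mem (one_mem _), ← Nat.card_coe_set_eq]
    rw [show Nat.card (core t : Set G) = Nat.card (core t) from rfl, card_core D ht]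
  have hO15 : O = (core t : Set G) \ {1} := by
    refine Set.eq_of_subset_of_ncard_le hOsub ?_
    rw [← Nat.card_coe_set_eq, ← Nat.card_coe_set_eq, h15]
    have h2688 : Nat.card ↥(L ⊓ cnt1 u) ∣ 2688 := D.cent_invol u hu2 ▸ card_dvd_of_le inf_le_right
    have h360 : Nat.card ↥(L ⊓ cnt1 u) ∣ 360 := Dvd.intro_left _ hmul
    have h24 : Nat.card ↥(L ⊓ cnt1 u) ≤ 24 := Nat.le_of_dvd (by norm_num)
      ((Nat.dvd_gcd h2688 h360).trans (by norm_num))
    nlinarith
  have hsO : s ∈ O := hO15.ge ⟨hs, hs1⟩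
  exact hsO

/-- The two-point stabiliser is transitive on the six other classes. -/
theorem pairStab_trans_cosets {t : G} (ht : orderOf t = 2) {β : Pts t} (hβ : InBig t β)
    {n n' : G} (hn : n ∈ coreNorm t) (hn' : n' ∈ coreNorm t) (h : n ∉ clsStab t β) (h' : n' ∉ clsStab t β) :
    ∃ l ∈ pairStab t β, n'⁻¹ * l * n ∈ clsStab t β := by
  classical
  have : Fact (Nat.Prime 5) := ⟨by norm_num⟩
  set N := coreNorm t with hN
  set H := clsStab t β with hH
  set L := pairStab t β with hL
  set H' := H.subgroupOf N with hH'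
  have hLH : L ≤ H := le_sup_right
  have hLN : L ≤ N := inf_le_left
  have hidx : Nat.card (N ⧸ H') = 7 := by
    have := H'.card_eq_card_quotient_mul_card_subgroup
    rw [card_normalizer_core D ht, Cores.card_subgroupOf clsStab_le, card_clsStab D ht hβ] at this
    omega
  set L' := L.subgroupOf N with hL'
  have hL'c : Nat.card L' = 360 := (Cores.card_subgroupOf hLN).trans (card_pairStab D ht hβ)
  obtain ⟨b, hb⟩ := exists_prime_orderOf_dvd_card' (G := L') 5 (by rw [hL'c]; norm_num)
  have hP : IsPGroup 5 (zpowers b) := IsPGroup.of_card (n := 1) (by rw [Nat.card_zpowers, hb, pow_one])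
  have := Fintype.ofFinite (N ⧸ H')
  set F := fixedPoints (zpowers b) (N ⧸ H') with hF
  set o : N ⧸ H' := ((1 : N) : N ⧸ H') with ho
  have hfixo : ∀ l : L', l • o = o := fun l => by
    show ((l : N)) • o = o
    rw [ho, smul_coe_eq_iff]
    simpa [hH', mem_subgroupOf] using hLH (mem_subgroupOf.mp l.2)
  have hoF : o ∈ F := fun z => hfixo z.1
  -- exactly one further fixed coset
  have hF2 : Nat.card F = 2 := by
    have hm := hP.card_modEq_card_fixedPoints (α := N ⧸ H')
    rw [hidx, ← hF] at hm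
    have hle : Nat.card F ≤ 7 := hidx ▸ Nat.card_le_card_of_injective _ Subtype.val_injective
    unfold Nat.ModEq at hm
    rcases (show Nat.card F = 2 ∨ Nat.card F = 7 by omega) with h2 | h7
    · exact h2
    · exfalso
      have hall : ∀ q : N ⧸ H', q ∈ F := fun q => by
        have : F = Set.univ := Set.eq_univ_of_forall fun x => by
          by_contra hx
          have := Set.ncard_lt_ncard (Set.ssubset_univ_iff.mpr (fun e => hx (e.ge (Set.mem_univ x)))) (Set.toFinite _)
          rw [Set.ncard_univ, hidx, ← Nat.card_coe_set_eq, h7] at this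
          omega
        rw [this]; trivial
      have hbK : (b : N) ∈ H'.normalCore := by
        rw [normalCore_eq_ker, MonoidHom.mem_ker]
        exact Equiv.ext fun q => hall q ⟨b, mem_zpowers b⟩
      rw [normalCore_clsStab D ht hβ, mem_subgroupOf] at hbK
      have h16 := order_dvd_card hbK
      rw [orderOf_coe, orderOf_coe, hb, card_core D ht] at h16
      norm_num at h16
  -- an orbit avoiding the base coset has length six
  have horb : ∀ q : N ⧸ H', q ≠ o → Nat.card (orbit L' q) % 5 ≠ 0 → Nat.card (orbit L' q) = 6 ∧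
      ∃ f : F, (f : N ⧸ H') ≠ o ∧ (f : N ⧸ H') ∈ orbit L' q := by
    intro q hq h5
    have hno : o ∉ orbit L' q := fun hm => by
      obtain ⟨l, hl⟩ := hm
      exact hq (by rw [← inv_smul_smul l q]; exact (congrArg (l⁻¹ • ·) hl).trans (hfixo _))
    have hm := hP.card_modEq_card_fixedPoints (α := orbit L' q)
    set F' := fixedPoints (zpowers b) (orbit L' q) with hF'
    have hinj : Nat.card F' ≤ 1 := by
      have h := Nat.card_le_card_of_injective (fun f : F' ⊕ Unit => (match f with
        | Sum.inl f => ⟨f.1.1, fun z => congrArg Subtype.val (f.2 z)⟩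
        | Sum.inr _ => ⟨o, hoF⟩ : F)) fun f f' e => by
          rcases f with f | f <;> rcases f' with f' | f'
          · exact congrArg Sum.inl (Subtype.ext (Subtype.ext (congrArg (fun x : F => (x : N ⧸ H')) e)))
          · have e' : f.1.1 = o := congrArg (fun x : F => (x : N ⧸ H')) e
            exact absurd (e' ▸ f.1.2) hno
          · have e' : o = f'.1.1 := congrArg (fun x : F => (x : N ⧸ H')) e
            exact absurd (e'.symm ▸ f'.1.2) hno
          · rfl
      rw [Nat.card_sum, (Nat.card_unique : Nat.card Unit = 1), hF2] at h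
      omega
    unfold Nat.ModEq at hm
    have hpos : Nat.card F' ≠ 0 := fun e => by rw [e] at hm; omega
    have h1 : Nat.card (orbit L' q) % 5 = 1 := by omega
    have : Nonempty F' := (Nat.card_pos_iff.mp (Nat.pos_of_ne_zero hpos)).1
    obtain ⟨f⟩ := this
    refine ⟨?_, ⟨f.1.1, fun z => congrArg Subtype.val (f.2 z)⟩, fun e => hno (e ▸ f.1.2), f.1.2⟩
    have hle : Nat.card (orbit L' q) < 7 := by
      rw [Nat.card_coe_set_eq, ← hidx, ← Set.ncard_univ]
      exact Set.ncard_lt_ncard (Set.ssubset_univ_iff.mpr fun e => hno (e ▸ Set.mem_univ _)) (Set.toFinite _)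
    rcases (show Nat.card (orbit L' q) = 1 ∨ Nat.card (orbit L' q) = 6 by omega) with e | e
    swap
    · exact e
    exfalso
    obtain ⟨m, rfl⟩ := QuotientGroup.mk_surjective q
    obtain ⟨hs, -⟩ := Nat.card_eq_one_iff_unique.mp e
    -- the class stabiliser fixes a second coset, so it is normal
    have hmL : ∀ l : L', l • (m : N ⧸ H') = m := fun l =>
      congrArg Subtype.val (hs.elim ⟨_, mem_orbit _ l⟩ ⟨_, mem_orbit_self _⟩)
    have hmH : ∀ x : N, x ∈ H' → m⁻¹ * x * m ∈ H' := by
      intro x hx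
      obtain ⟨e', he', l, hl, hel⟩ := mem_clsStab (mem_subgroupOf.mp hx)
      have hEn : (⟨e', core_le_coreNorm t he'⟩ : N) ∈ H'.normalCore := by
        rw [normalCore_clsStab D ht hβ]; exact mem_subgroupOf.mpr he'
      have h1 : m⁻¹ * ⟨e', core_le_coreNorm t he'⟩ * m ∈ H' := by
        have := normalCore_le H' (H'.normalCore_normal.conj_mem _ hEn m⁻¹)
        simpa using this
      have h2 : m⁻¹ * ⟨l, hLN hl⟩ * m ∈ H' := smul_coe_eq_iff.mp (hmL ⟨⟨l, hLN hl⟩, mem_subgroupOf.mpr hl⟩)
      have : x = ⟨e', core_le_coreNorm t he'⟩ * ⟨l, hLN hl⟩ := Subtype.ext hel.symm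
      rw [this, show ∀ a c : N, m⁻¹ * (a * c) * m = m⁻¹ * a * m * (m⁻¹ * c * m) from fun a c => by group]
      exact mul_mem h1 h2
    have hmN' : m⁻¹ ∈ normalizer (H' : Set N) :=
      mem_normalizer_fintype fun x hx => by rw [inv_inv]; exact hmH x hx
    have hmN : m ∈ normalizer (H' : Set N) := inv_inv m ▸ inv_mem hmN'
    have hidx' : H'.index = 7 := hidx
    have hd : (normalizer (H' : Set N)).index ∣ 7 := hidx' ▸ index_dvd_of_le le_normalizer
    rcases (Nat.dvd_prime (by norm_num)).mp hd with e7 | e7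
    · have : H'.Normal := normalizer_eq_top_iff.mp (index_eq_one.mp e7)
      have hHK : H' ≤ H'.normalCore := normal_le_normalCore.mpr le_rfl
      rw [normalCore_clsStab D ht hβ] at hHK
      have := card_le_of_le hHK
      rw [Cores.card_subgroupOf clsStab_le, Cores.card_subgroupOf (core_le_coreNorm t), card_clsStab D ht hβ,
        card_core D ht] at this
      omega
    · have heq : H' = normalizer (H' : Set N) := by
        refine eq_of_le_of_card_ge le_normalizer ?_
        have a1 := H'.card_mul_index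
        have a2 := (normalizer (H' : Set N)).card_mul_index
        rw [hidx'] at a1
        rw [e7] at a2
        omega
      refine hq (QuotientGroup.eq.mpr ?_)
      rw [mul_one]
      exact inv_mem (heq.ge hmN)
  set q : N ⧸ H' := ((⟨n, hn⟩ : N) : N ⧸ H') with hq
  set q' : N ⧸ H' := ((⟨n', hn'⟩ : N) : N ⧸ H') with hq'
  have hne : ∀ (z : G) (hz : z ∈ N), z ∉ H → ((⟨z, hz⟩ : N) : N ⧸ H') ≠ o := fun z hz hzH e => hzH (by
    have := QuotientGroup.eq.mp e
    simpa [hH', mem_subgroupOf] using this)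
  -- the orbit of the second fixed coset is everything else
  obtain ⟨f, hf, hfo⟩ : ∃ f : N ⧸ H', f ∈ F ∧ f ≠ o := by
    by_contra hno
    push Not at hno
    have : Subsingleton F := ⟨fun a c => Subtype.ext ((hno a a.2).trans (hno c c.2).symm)⟩
    have h := Finite.card_le_one_iff_subsingleton.mpr this
    omega
  have h6 : Nat.card (orbit L' f) % 5 ≠ 0 → Nat.card (orbit L' f) = 6 := fun h5 => (horb f hfo h5).1
  have hf6 : Nat.card (orbit L' f) = 6 := by
    refine h6 fun h5 => ?_
    have hm := hP.card_modEq_card_fixedPoints (α := orbit L' f)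
    have : Nonempty (fixedPoints (zpowers b) (orbit L' f)) :=
      ⟨⟨⟨f, mem_orbit_self _⟩, fun z => Subtype.ext (hf z)⟩⟩
    have hle : Nat.card (fixedPoints (zpowers b) (orbit L' f)) ≤ 2 := hF2 ▸
      Nat.card_le_card_of_injective (fun x => (⟨x.1.1, fun z => congrArg Subtype.val (x.2 z)⟩ : F))
        fun x y e => Subtype.ext (Subtype.ext (congrArg (fun z : F => (z : N ⧸ H')) e))
    have := Nat.card_pos (α := fixedPoints (zpowers b) (orbit L' f))
    unfold Nat.ModEq at hm
    omega
  have hO : orbit L' f = Set.univ \ {o} := by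
    refine Set.eq_of_subset_of_ncard_le (fun x hx => ⟨Set.mem_univ _, fun e => ?_⟩) ?_
    · obtain ⟨l, hl⟩ := hx
      refine hfo ?_
      rw [← inv_smul_smul l f]
      exact (congrArg (l⁻¹ • ·) (hl.trans e)).trans (hfixo _)
    · rw [Set.ncard_diff_singleton_of_mem (Set.mem_univ _), Set.ncard_univ, hidx, ← Nat.card_coe_set_eq, hf6]
  have hqO : q ∈ orbit L' f := hO.ge ⟨Set.mem_univ _, hne n hn h⟩
  have hq'O : q' ∈ orbit L' f := hO.ge ⟨Set.mem_univ _, hne n' hn' h'⟩
  obtain ⟨l, hl⟩ := (orbit_eq_iff.mpr hqO).ge hq'O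
  refine ⟨((l : N) : G), mem_subgroupOf.mp l.2, ?_⟩
  have e : ((l : N) * ⟨n, hn⟩ : N) = (((l : N) * ⟨n, hn⟩ : N)) := rfl
  have hl' : (((l : N) * ⟨n, hn⟩ : N) : N ⧸ H') = q' := hl
  have := QuotientGroup.eq.mp hl'.symm
  simpa [hH', mem_subgroupOf, mul_assoc] using this

end Cfsg.Agent.Order10200960
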