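/-
The strongly regular graph with parameters (253, 112, 36, 60) on the conjugates of the elementary abelian
subgroup, in a group with the local data of `M₂₃`.

Main results (namespace `Cfsg.Agent.Order10200960`): `Adj`, `cls`, `adj_base_iff`, `cls_trans_same`,
`cls_trans_other`, `graph_params`.
-/
import Cfsg.Agent.Lib.Order10200960.GeomStab
import Cfsg.Agent.Lib.Order10200960.SrgTrace

set_option autoImplicit false
set_option maxHeartbeats 1000000

open Subgroup MulAction Cfsg Cfsg.Agent

namespace Cfsg.Agent.Order10200960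

open SmallOrders

variable {G : Type*} [Group G]

/-- Two points are adjacent when their common stabiliser has order 360. -/
def Adj (t : G) (p q : Pts t) : Prop := Nat.card ↥(stabilizer G p ⊓ stabilizer G q) = 360

theorem adj_symm {t : G} {p q : Pts t} : Adj t p q ↔ Adj t q p := by rw [Adj, Adj, inf_comm]

theorem adj_smul {t : G} (g : G) (p q : Pts t) : Adj t (g • p) (g • q) ↔ Adj t p q := by
  rw [Adj, Adj, stabilizer_smul_eq_stabilizer_map_conj, stabilizer_smul_eq_stabilizer_map_conj,
    ← map_inf _ _ _ (MulEquiv.injective _), card_map_of_injective (MulEquiv.injective _)]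

theorem stabilizer_base (t : G) : stabilizer G (base t) = coreNorm t := by
  ext z; exact smul_base_eq_iff

theorem exists_rep {t : G} (p : Pts t) : ∃ g : G, g • base t = p := by
  obtain ⟨g, rfl⟩ := QuotientGroup.mk_surjective p
  exact ⟨g, by simp⟩

theorem adj_smul_fix {t g : G} {p x : Pts t} (hp : g • p = p) : Adj t p (g • x) ↔ Adj t p x := by
  conv_lhs => rw [← hp]
  exact adj_smul g p x

theorem adj_base {t : G} (q : Pts t) : Adj t (base t) q ↔ Nat.card (pairStab t q) = 360 := by
  rw [Adj, stabilizer_base]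

/-- The points in the orbit of `r` under `core t`. -/
noncomputable def cls (t : G) [Fintype (Pts t)] (r : Pts t) : Finset (Pts t) := by
  classical exact Finset.univ.filter fun x => ∃ e ∈ core t, e • r = x

/-- The common neighbours of two points. -/
noncomputable def com (t : G) [Fintype (Pts t)] (p q : Pts t) : Finset (Pts t) := by
  classical exact Finset.univ.filter fun x => Adj t p x ∧ Adj t q x

/-- The neighbours of a point. -/
noncomputable def nbr (t : G) [Fintype (Pts t)] (p : Pts t) : Finset (Pts t) := by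
  classical exact Finset.univ.filter fun x => Adj t p x

section

variable {t : G} [Fintype (Pts t)]

theorem mem_cls {r x : Pts t} : x ∈ cls t r ↔ ∃ e ∈ core t, e • r = x := by simp [cls]

theorem mem_com {p q x : Pts t} : x ∈ com t p q ↔ Adj t p x ∧ Adj t q x := by simp [com]

theorem mem_nbr {p x : Pts t} : x ∈ nbr t p ↔ Adj t p x := by simp [nbr]

theorem self_mem_cls (r : Pts t) : r ∈ cls t r := mem_cls.mpr ⟨1, one_mem _, one_smul _ _⟩

theorem cls_eq_of_mem {r x : Pts t} (h : x ∈ cls t r) : cls t x = cls t r := by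
  obtain ⟨e, he, rfl⟩ := mem_cls.mp h
  ext y
  rw [mem_cls, mem_cls]
  constructor
  · rintro ⟨f, hf, rfl⟩
    exact ⟨f * e, mul_mem hf he, mul_smul f e r⟩
  · rintro ⟨f, hf, rfl⟩
    exact ⟨f * e⁻¹, mul_mem hf (inv_mem he), by rw [← mul_smul, inv_mul_cancel_right]⟩

theorem mem_cls_smul {n : G} (hn : n ∈ coreNorm t) {r x : Pts t} :
    n • x ∈ cls t (n • r) ↔ x ∈ cls t r := by
  rw [mem_cls, mem_cls]
  constructor
  · rintro ⟨e, he, h⟩
    refine ⟨n⁻¹ * e * n, by simpa using (mem_coreNorm (inv_mem hn)).mp he, ?_⟩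
    rw [mul_smul, mul_smul, h, inv_smul_smul]
  · rintro ⟨e, he, rfl⟩
    exact ⟨n * e * n⁻¹, (mem_coreNorm hn).mp he, by rw [mul_smul, mul_smul, inv_smul_smul]⟩

theorem com_smul (g : G) (p q : Pts t) :
    (com t (g • p) (g • q)).card = (com t p q).card := by
  refine (Finset.card_equiv (MulAction.toPerm g) fun x => ?_).symm
  rw [mem_com, mem_com, MulAction.toPerm_apply, adj_smul, adj_smul]

theorem nbr_smul (g : G) (p : Pts t) : (nbr t (g • p)).card = (nbr t p).card := by
  refine (Finset.card_equiv (MulAction.toPerm g) fun x => ?_).symm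
  rw [mem_nbr, mem_nbr, MulAction.toPerm_apply, adj_smul]

end

variable [Finite G] (D : LocalData G)
include D

theorem pairStab_card_cases {t : G} (ht : orderOf t = 2) (q : Pts t) :
    (q = base t ∧ Nat.card (pairStab t q) = 40320) ∨ (InBig t q ∧ Nat.card (pairStab t q) = 360) ∨
      (q ≠ base t ∧ Nat.card (orbit (coreNorm t) q) = 140 ∧ Nat.card (coreStab t q) = 4 ∧
        Nat.card (pairStab t q) = 288) := by
  have h : Nat.card (orbit (coreNorm t) q) * Nat.card (pairStab t q) = 40320 :=
    (card_orbit_mul q).trans (card_normalizer_core D ht)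
  rcases eq_or_ne q (base t) with rfl | hq
  · refine Or.inl ⟨rfl, ?_⟩
    rw [orbit_base, Nat.card_coe_set_eq, Set.ncard_singleton, one_mul] at h
    exact h
  obtain ⟨β, γ, -, -, hβ, hβF, hγ, hγF, hall⟩ := orbit_split D ht
  rcases hall q hq with hm | hm
  · have ho : orbit (coreNorm t) q = orbit (coreNorm t) β := orbit_eq_iff.mpr hm
    rw [ho, hβ] at h
    refine Or.inr (Or.inl ⟨⟨hq, by rw [ho, hβ], Subgroup.eq_bot_of_card_eq _ ?_⟩, by omega⟩)
    rw [card_coreStab_orbit hm, hβF, card_bot]
  · have ho : orbit (coreNorm t) q = orbit (coreNorm t) γ := orbit_eq_iff.mpr hm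
    rw [ho, hγ] at h
    exact Or.inr (Or.inr ⟨hq, by rw [ho, hγ], (card_coreStab_orbit hm).trans hγF, by omega⟩)

theorem adj_base_iff {t : G} (ht : orderOf t = 2) {q : Pts t} : Adj t (base t) q ↔ InBig t q := by
  rw [adj_base]
  refine ⟨fun h => ?_, fun h => card_pairStab D ht h⟩
  rcases pairStab_card_cases D ht q with ⟨-, e⟩ | ⟨hb, -⟩ | ⟨-, -, -, e⟩
  · omega
  · exact hb
  · omega

theorem not_adj_self {t : G} (ht : orderOf t = 2) (p : Pts t) : ¬ Adj t p p := by
  obtain ⟨g, rfl⟩ := exists_rep p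
  rw [adj_smul, adj_base_iff D ht]
  exact fun h => h.ne rfl

theorem trans_big {t : G} (ht : orderOf t = 2) {q q' : Pts t} (hq : InBig t q) (hq' : InBig t q') :
    ∃ n ∈ coreNorm t, n • q = q' := by
  obtain ⟨β, γ, -, -, hβ, hβF, hγ, hγF, hall⟩ := orbit_split D ht
  have key : ∀ {r : Pts t}, InBig t r → orbit (coreNorm t) r = orbit (coreNorm t) β := fun {r} hr => by
    rcases hall r hr.ne with hm | hm
    · exact orbit_eq_iff.mpr hm
    · exfalso
      have := hr.card_orbit
      rw [orbit_eq_iff.mpr hm, hγ] at this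
      omega
  have : q' ∈ orbit (coreNorm t) q := by
    rw [key hq, ← key hq']; exact mem_orbit_self _
  obtain ⟨n, hn⟩ := this
  exact ⟨n, n.2, hn⟩

theorem trans_far {t : G} (ht : orderOf t = 2) {q q' : Pts t} (hq : q ≠ base t) (hq' : q' ≠ base t)
    (hn : ¬ Adj t (base t) q) (hn' : ¬ Adj t (base t) q') : ∃ n ∈ coreNorm t, n • q = q' := by
  obtain ⟨β, γ, hβne, -, hβ, hβF, hγ, hγF, hall⟩ := orbit_split D ht
  have key : ∀ {r : Pts t}, r ≠ base t → ¬ Adj t (base t) r →
      orbit (coreNorm t) r = orbit (coreNorm t) γ := fun {r} hr hnr => by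
    rcases hall r hr with hm | hm
    · exfalso
      refine hnr ((adj_base_iff D ht).mpr ⟨hr, by rw [orbit_eq_iff.mpr hm, hβ], ?_⟩)
      exact Subgroup.eq_bot_of_card_eq _ (by rw [card_coreStab_orbit hm, hβF, card_bot])
    · exact orbit_eq_iff.mpr hm
  have : q' ∈ orbit (coreNorm t) q := by
    rw [key hq hn, ← key hq' hn']; exact mem_orbit_self _
  obtain ⟨n, hn⟩ := this
  exact ⟨n, n.2, hn⟩

/-- The members of the class of a neighbour other than itself form one orbit of the pair stabiliser. -/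
theorem cls_trans_same {t : G} (ht : orderOf t = 2) [Fintype (Pts t)] {q r r' : Pts t} (hq : InBig t q)
    (hr : r ∈ cls t q) (hrq : r ≠ q) (hr' : r' ∈ cls t q) (hrq' : r' ≠ q) :
    ∃ l ∈ pairStab t q, l • r = r' := by
  obtain ⟨e, he, rfl⟩ := mem_cls.mp hr
  obtain ⟨e', he', rfl⟩ := mem_cls.mp hr'
  obtain ⟨l, hl, hle⟩ := pairStab_trans_core D ht hq he (fun h => hrq (by rw [h, one_smul])) he'
    (fun h => hrq' (by rw [h, one_smul]))
  refine ⟨l, hl, ?_⟩
  rw [← hle, mul_smul, mul_smul, smul_eq_iff_eq_inv_smul, inv_smul_smul]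
  congr 1
  exact (mem_stabilizer_iff.mp (inv_mem (mem_inf.mp hl).2)).symm

/-- The pair stabiliser is transitive on the six other classes. -/
theorem cls_trans_other {t : G} (ht : orderOf t = 2) [Fintype (Pts t)] {q r r' : Pts t} (hq : InBig t q)
    (hr : InBig t r) (hrq : r ∉ cls t q) (hr' : InBig t r') (hrq' : r' ∉ cls t q) :
    ∃ l ∈ pairStab t q, l • r ∈ cls t r' := by
  obtain ⟨n, hn, rfl⟩ := trans_big D ht hq hr
  obtain ⟨n', hn', rfl⟩ := trans_big D ht hq hr'
  have hout : ∀ m ∈ coreNorm t, m • q ∉ cls t q → m ∉ clsStab t q := fun m _ hmq hm => by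
    obtain ⟨e, he, l, hl, rfl⟩ := mem_clsStab hm
    exact hmq (mem_cls.mpr ⟨e, he, by rw [mul_smul, mem_stabilizer_iff.mp (mem_inf.mp hl).2]⟩)
  obtain ⟨l, hl, hll⟩ := pairStab_trans_cosets D ht hq hn hn' (hout n hn hrq) (hout n' hn' hrq')
  obtain ⟨e, he, l', hl', hel⟩ := mem_clsStab hll
  refine ⟨l, hl, mem_cls.mpr ⟨n' * e * n'⁻¹, (mem_coreNorm hn').mp he, ?_⟩⟩
  rw [mul_smul, mul_smul, inv_smul_smul, ← mul_smul l]
  have : l * n = n' * e * l' := by rw [mul_assoc, hel]; group
  rw [this, mul_smul, mul_smul, mem_stabilizer_iff.mp (mem_inf.mp hl').2]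

theorem card_cls {t : G} (ht : orderOf t = 2) [Fintype (Pts t)] {q : Pts t} (hq : InBig t q) :
    (cls t q).card = 16 := by
  classical
  rw [← Fintype.card_coe, ← Nat.card_eq_fintype_card, ← card_core D ht]
  refine (Nat.card_congr (Equiv.ofBijective
    (fun e : core t => (⟨(e : G) • q, mem_cls.mpr ⟨e, e.2, rfl⟩⟩ : ↥(cls t q))) ⟨?_, ?_⟩)).symm
  · intro e f h
    have h' : (e : G) • q = (f : G) • q := congrArg Subtype.val h
    have hm : (f : G)⁻¹ * e ∈ coreStab t q := mem_inf.mpr ⟨mul_mem (inv_mem f.2) e.2, by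
      rw [mem_stabilizer_iff, mul_smul, h', inv_smul_smul]⟩
    rw [hq.coreStab_eq, mem_bot, inv_mul_eq_one] at hm
    exact Subtype.ext hm.symm
  · rintro ⟨x, hx⟩
    obtain ⟨e, he, rfl⟩ := mem_cls.mp hx
    exact ⟨⟨e, he⟩, rfl⟩

theorem inBig_smul {t : G} (ht : orderOf t = 2) {n : G} (hn : n ∈ coreNorm t) {q : Pts t}
    (hq : InBig t q) : InBig t (n • q) := by
  refine (adj_base_iff D ht).mp ?_
  rw [adj_smul_fix (smul_base_eq_iff.mpr hn)]
  exact (adj_base_iff D ht).mpr hq

theorem inBig_cls {t : G} (ht : orderOf t = 2) [Fintype (Pts t)] {q x : Pts t} (hq : InBig t q)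
    (hx : x ∈ cls t q) : InBig t x := by
  obtain ⟨e, he, rfl⟩ := mem_cls.mp hx
  exact inBig_smul D ht (core_le_coreNorm t he) hq

theorem card_nbr_base {t : G} (ht : orderOf t = 2) [Fintype (Pts t)] : (nbr t (base t)).card = 112 := by
  classical
  obtain ⟨β, γ, hβne, hγne, hβ, hβF, hγ, hγF, hall⟩ := orbit_split D ht
  have : nbr t (base t) = (orbit (coreNorm t) β).toFinite.toFinset := by
    ext x
    rw [mem_nbr, adj_base_iff D ht, Set.Finite.mem_toFinset]
    refine ⟨fun hx => ?_, fun hx => ?_⟩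
    · obtain ⟨n, hn, rfl⟩ := trans_big D ht ⟨hβne, hβ, hβF⟩ hx
      exact ⟨⟨n, hn⟩, rfl⟩
    · obtain ⟨n, rfl⟩ := hx
      exact inBig_smul D ht n.2 ⟨hβne, hβ, hβF⟩
  rw [this, ← Set.ncard_eq_toFinset_card _ (Set.toFinite _), ← Nat.card_coe_set_eq, hβ]

theorem card_nbr {t : G} (ht : orderOf t = 2) [Fintype (Pts t)] (p : Pts t) : (nbr t p).card = 112 := by
  obtain ⟨g, rfl⟩ := exists_rep p
  rw [nbr_smul, card_nbr_base D ht]

/-- The neighbours of `q` in the class of `r` do not depend on the class. -/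
theorem card_inter_const {t : G} (ht : orderOf t = 2) [Fintype (Pts t)] [DecidableEq (Pts t)] {q r r' : Pts t}
    (hq : InBig t q) (hr : InBig t r) (hrq : r ∉ cls t q) (hr' : InBig t r') (hrq' : r' ∉ cls t q) :
    (nbr t q ∩ cls t r).card = (nbr t q ∩ cls t r').card := by
  obtain ⟨l, hl, hlr⟩ := cls_trans_other D ht hq hr hrq hr' hrq'
  refine Finset.card_equiv (MulAction.toPerm l) fun x => ?_
  rw [Finset.mem_inter, Finset.mem_inter, mem_nbr, mem_nbr, MulAction.toPerm_apply,
    adj_smul_fix (mem_stabilizer_iff.mp (mem_inf.mp hl).2), ← cls_eq_of_mem hlr,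
    mem_cls_smul (mem_inf.mp hl).1]

/-- The parameters of the graph. -/
theorem graph_params {t : G} (ht : orderOf t = 2) [Fintype (Pts t)] [DecidableEq (Pts t)] :
    (∀ p q : Pts t, Adj t p q → (com t p q).card = 36) ∧
      (∀ p q : Pts t, p ≠ q → ¬ Adj t p q → (com t p q).card = 60) ∧
      (∀ q x : Pts t, InBig t q → x ∈ cls t q → ¬ Adj t q x) ∧
      (∀ q r : Pts t, InBig t q → InBig t r → r ∉ cls t q → (nbr t q ∩ cls t r).card = 6) := by
  classical
  obtain ⟨β, γ, hβne, hγne, hβc, hβF, hγ, hγF, hall⟩ := orbit_split D ht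
  have hβ : InBig t β := ⟨hβne, hβc, hβF⟩
  set o := base t with ho
  have hγn : ¬ Adj t o γ := fun h => by
    have := ((adj_base_iff D ht).mp h).card_orbit
    rw [hγ] at this; omega
  set l := (com t o β).card with hl
  set m := (com t o γ).card with hm
  -- constancy
  have hlc : ∀ p q, Adj t p q → (com t p q).card = l := fun p q h => by
    obtain ⟨g, rfl⟩ := exists_rep p
    rw [← smul_inv_smul g q] at h ⊢
    rw [adj_smul] at h
    rw [com_smul]
    obtain ⟨n, hn, hnq⟩ := trans_big D ht hβ ((adj_base_iff D ht).mp h)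
    rw [← hnq]
    conv_lhs => rw [← smul_base_eq_iff.mpr hn]
    rw [com_smul]
  have hmc : ∀ p q, p ≠ q → ¬ Adj t p q → (com t p q).card = m := fun p q hpq h => by
    obtain ⟨g, rfl⟩ := exists_rep p
    rw [← smul_inv_smul g q] at h hpq ⊢
    rw [adj_smul] at h
    rw [com_smul]
    obtain ⟨n, hn, hnq⟩ := trans_far D ht hγne (fun e => hpq (by rw [e])) hγn h
    rw [← hnq]
    conv_lhs => rw [← smul_base_eq_iff.mpr hn]
    rw [com_smul]
  have hcard : Fintype.card (Pts t) = 253 := by rw [← Nat.card_eq_fintype_card, card_points D ht]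
  -- the number of neighbours in another class
  set others := nbr t o \ cls t β with hothers
  have hclsN : cls t β ⊆ nbr t o := fun x hx => mem_nbr.mpr ((adj_base_iff D ht).mpr (inBig_cls D ht hβ hx))
  have hothc : others.card = 96 := by
    rw [hothers, Finset.card_sdiff_of_subset hclsN, card_nbr D ht, card_cls D ht hβ]
  obtain ⟨r₀, hr₀⟩ := Finset.card_pos.mp (by rw [hothc]; norm_num : 0 < others.card)
  have hothm : ∀ x, x ∈ others ↔ InBig t x ∧ x ∉ cls t β := fun x => by
    rw [hothers, Finset.mem_sdiff, mem_nbr, adj_base_iff D ht]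
  set a := (nbr t β ∩ cls t r₀).card with ha
  have hac : ∀ r ∈ others, (nbr t β ∩ cls t r).card = a := fun r hr =>
    card_inter_const D ht hβ ((hothm r).mp hr).1 ((hothm r).mp hr).2 ((hothm r₀).mp hr₀).1 ((hothm r₀).mp hr₀).2
  have hsplit : l = (nbr t β ∩ cls t β).card + (nbr t β ∩ others).card := by
    rw [hl, ← Finset.card_union_of_disjoint (Finset.disjoint_left.mpr fun x hx hx' =>
      (Finset.mem_sdiff.mp (Finset.mem_inter.mp hx').2).2 (Finset.mem_inter.mp hx).2),
      ← Finset.inter_union_distrib_left]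
    congr 1
    rw [Finset.union_sdiff_of_subset hclsN]
    ext x
    rw [mem_com, Finset.mem_inter, mem_nbr, mem_nbr, and_comm]
  have h6a : (nbr t β ∩ others).card = 6 * a := by
    have h1 : ∑ r ∈ others, (nbr t β ∩ cls t r).card = 16 * (nbr t β ∩ others).card := by
      have e1 : ∀ r ∈ others, (nbr t β ∩ cls t r).card =
          ((nbr t β ∩ others).filter fun x => r ∈ cls t x).card := fun r hr => by
        congr 1
        ext x
        rw [Finset.mem_inter, Finset.mem_filter, Finset.mem_inter, hothm]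
        refine ⟨fun ⟨h1, h2⟩ => ⟨⟨h1, inBig_cls D ht ((hothm r).mp hr).1 h2, fun h3 => ((hothm r).mp hr).2 ?_⟩,
          ?_⟩, fun ⟨⟨h1, _⟩, h2⟩ => ⟨h1, ?_⟩⟩
        · rw [← cls_eq_of_mem h3, cls_eq_of_mem h2]; exact self_mem_cls r
        · rw [cls_eq_of_mem h2]; exact self_mem_cls r
        · rw [cls_eq_of_mem h2]; exact self_mem_cls x
      rw [Finset.sum_congr rfl e1]
      simp only [Finset.card_filter]
      rw [Finset.sum_comm, mul_comm, ← smul_eq_mul, ← Finset.sum_const]
      refine Finset.sum_congr rfl fun x hx => ?_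
      have hx' := (hothm x).mp (Finset.mem_inter.mp hx).2
      rw [← Finset.card_filter]
      have : others.filter (fun r => r ∈ cls t x) = cls t x := by
        refine Finset.ext fun r => ⟨fun h => (Finset.mem_filter.mp h).2, fun h => Finset.mem_filter.mpr ⟨?_, h⟩⟩
        refine (hothm r).mpr ⟨inBig_cls D ht hx'.1 h, fun h3 => hx'.2 ?_⟩
        rw [← cls_eq_of_mem h3, cls_eq_of_mem h]; exact self_mem_cls x
      rw [this, card_cls D ht hx'.1]
    rw [Finset.sum_congr rfl hac, Finset.sum_const, hothc, smul_eq_mul] at h1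
    omega
  have hc15 : (nbr t β ∩ cls t β).card = 0 ∨ (nbr t β ∩ cls t β).card = 15 := by
    by_cases hex : ∃ x ∈ cls t β, Adj t β x
    · right
      obtain ⟨x, hx, hadj⟩ := hex
      have hxβ : x ≠ β := fun e => not_adj_self D ht β (e ▸ hadj)
      have : nbr t β ∩ cls t β = (cls t β).erase β := by
        ext y
        rw [Finset.mem_inter, Finset.mem_erase, mem_nbr]
        refine ⟨fun ⟨h1, h2⟩ => ⟨fun e => not_adj_self D ht β (e ▸ h1), h2⟩, fun ⟨h1, h2⟩ => ⟨?_, h2⟩⟩
        obtain ⟨g, hg, rfl⟩ := cls_trans_same D ht hβ hx hxβ h2 h1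
        exact (adj_smul_fix (mem_stabilizer_iff.mp (mem_inf.mp hg).2)).mpr hadj
      rw [this, Finset.card_erase_of_mem (self_mem_cls β), card_cls D ht hβ]
    · left
      push Not at hex
      rw [Finset.card_eq_zero, Finset.eq_empty_iff_forall_notMem]
      exact fun x hx => hex x (Finset.mem_inter.mp hx).2 (mem_nbr.mp (Finset.mem_inter.mp hx).1)
  have ha16 : a ≤ 16 := card_cls D ht ((hothm r₀).mp hr₀).1 ▸ Finset.card_le_card Finset.inter_subset_right
  have hl111 : l ≤ 111 := by
    have : com t o β ⊆ (nbr t o).erase β := fun x hx => Finset.mem_erase.mpr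
      ⟨fun e => not_adj_self D ht β (e ▸ (mem_com.mp hx).2), mem_nbr.mpr (mem_com.mp hx).1⟩
    have := Finset.card_le_card this
    rwa [Finset.card_erase_of_mem (mem_nbr.mpr ((adj_base_iff D ht).mpr hβ)), card_nbr D ht, ← hl] at this
  have hfar : (((Finset.univ : Finset (Pts t)).erase o) \ nbr t o).card = 140 := by
    rw [Finset.card_sdiff_of_subset, Finset.card_erase_of_mem (Finset.mem_univ _), Finset.card_univ, hcard,
      card_nbr D ht]
    exact fun x hx => Finset.mem_erase.mpr ⟨fun e => not_adj_self D ht o (by have h := mem_nbr.mp hx; rwa [e] at h), Finset.mem_univ _⟩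
  have hpar : 112 * 112 = 112 + 112 * l + 140 * m := by
    have h1 : ∑ q, (com t o q).card = 112 * 112 := by
      have e : ∀ q, (com t o q).card = ((nbr t o).filter fun x => Adj t q x).card := fun q => by
        congr 1
        ext x
        rw [mem_com, Finset.mem_filter, mem_nbr]
      simp only [e, Finset.card_filter]
      rw [Finset.sum_comm, Finset.sum_congr rfl fun x _ => ?_, Finset.sum_const, card_nbr D ht, smul_eq_mul]
      rw [← Finset.card_filter, ← card_nbr D ht x]
      congr 1
      ext q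
      rw [Finset.mem_filter, mem_nbr, adj_symm, and_iff_right (Finset.mem_univ _)]
    have hsub : nbr t o ⊆ (Finset.univ : Finset (Pts t)).erase o := fun x hx =>
      Finset.mem_erase.mpr ⟨fun e => not_adj_self D ht o (by have h := mem_nbr.mp hx; rwa [e] at h), Finset.mem_univ _⟩
    rw [← Finset.add_sum_erase _ _ (Finset.mem_univ o), ← Finset.sum_sdiff hsub] at h1
    have hoo : (com t o o).card = 112 := by
      rw [← card_nbr D ht o]
      congr 1
      ext x
      rw [mem_com, mem_nbr, and_self]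
    have s1 : ∑ q ∈ nbr t o, (com t o q).card = 112 * l := by
      rw [Finset.sum_congr rfl fun q hq => hlc o q (mem_nbr.mp hq), Finset.sum_const, card_nbr D ht, smul_eq_mul]
    have s2 : ∑ q ∈ (Finset.univ : Finset (Pts t)).erase o \ nbr t o, (com t o q).card = 140 * m := by
      rw [Finset.sum_congr rfl fun q hq => hmc o q ?_ ?_, Finset.sum_const, hfar, smul_eq_mul]
      · exact fun e => (Finset.mem_erase.mp (Finset.mem_sdiff.mp hq).1).1 e.symm
      · exact fun e => (Finset.mem_sdiff.mp hq).2 (mem_nbr.mpr e)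
    rw [hoo, s1, s2] at h1
    omega
  -- the eigenvalue condition
  let Am : Matrix (Pts t) (Pts t) ℝ := Matrix.of fun p q => if Adj t p q then 1 else 0
  have hsq : Am * Am = (112 : ℝ) • (1 : Matrix (Pts t) (Pts t) ℝ) + ((l : ℤ) : ℝ) • Am
      + ((m : ℤ) : ℝ) • (allOne (Pts t) - 1 - Am) := by
    ext p q
    have e : (Am * Am) p q = ((com t p q).card : ℝ) := by
      rw [Matrix.mul_apply, com, Finset.card_filter]
      push_cast
      refine Finset.sum_congr rfl fun x _ => ?_
      simp only [Am, Matrix.of_apply]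
      rw [adj_symm (p := x) (q := q)]
      by_cases h1 : Adj t p x <;> by_cases h2 : Adj t q x <;> simp [h1, h2]
    rw [e]
    simp only [Matrix.add_apply, Matrix.smul_apply, Matrix.sub_apply, allOne, Am, Matrix.of_apply, Matrix.one_apply,
      smul_eq_mul]
    by_cases hpq : p = q
    · subst hpq
      have : (com t p p).card = 112 := by
        rw [← card_nbr D ht p]; congr 1; ext x; rw [mem_com, mem_nbr, and_self]
      rw [this, if_pos rfl, if_neg (not_adj_self D ht p)]
      push_cast; ring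
    · by_cases hadj : Adj t p q
      · rw [hlc p q hadj, if_neg hpq, if_pos hadj]; push_cast; ring
      · rw [hmc p q hpq hadj, if_neg hpq, if_neg hadj]; push_cast; ring
  have hrow : ∀ p, ∑ q, Am p q = 112 := fun p => by
    simp only [Am, Matrix.of_apply]
    rw [Finset.sum_boole]
    have h := card_nbr D ht p
    rw [nbr] at h
    exact_mod_cast h
  have hcol : ∀ q, ∑ p, Am p q = 112 := fun q => by
    rw [← hrow q]
    refine Finset.sum_congr rfl fun p _ => ?_
    simp only [Am, Matrix.of_apply, adj_symm (p := p)]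
  have hz := trace_condition hcard Am l m (fun v => by simp [Am, not_adj_self D ht v])
    (by ext p q; simp [Matrix.mul_apply, allOne, hrow])
    (by ext p q; simp [Matrix.mul_apply, allOne, hcol])
    hsq (by omega) (by
      have hm112 : (m : ℤ) ≤ 112 := by omega
      rcases eq_or_ne (m : ℤ) 112 with e | e
      · omega
      · nlinarith [sq_nonneg ((l : ℤ) - m)])
  obtain ⟨hl36, hm60, ha6⟩ := param_eq (l := (l : ℤ)) (a := (a : ℤ)) (m := (m : ℤ))
    (by omega) (Int.natCast_nonneg a) (by omega) (by omega) (by omega) hz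
  refine ⟨fun p q h => by rw [hlc p q h]; omega, fun p q h h' => by rw [hmc p q h h']; omega,
    fun q x hq hx hadj => ?_, fun q r hq hr hrq => ?_⟩
  · have hc0 : (nbr t β ∩ cls t β).card = 0 := by omega
    obtain ⟨n, hn, rfl⟩ := trans_big D ht hβ hq
    rw [← smul_inv_smul n x, mem_cls_smul hn] at hx
    rw [← smul_inv_smul n x, adj_smul] at hadj
    exact Finset.notMem_empty _ ((Finset.card_eq_zero.mp hc0).le (Finset.mem_inter.mpr ⟨mem_nbr.mpr hadj, hx⟩))
  · obtain ⟨n, hn, rfl⟩ := trans_big D ht hβ hq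
    have hr' : InBig t (n⁻¹ • r) := inBig_smul D ht (inv_mem hn) hr
    rw [← smul_inv_smul n r, mem_cls_smul hn] at hrq
    have he : (nbr t (n • β) ∩ cls t r).card = (nbr t β ∩ cls t (n⁻¹ • r)).card := by
      refine (Finset.card_equiv (MulAction.toPerm n) fun x => ?_).symm
      rw [Finset.mem_inter, Finset.mem_inter, mem_nbr, mem_nbr, MulAction.toPerm_apply, adj_smul,
        ← mem_cls_smul hn (x := x), smul_inv_smul]
    rw [he, hac _ ((hothm _).mpr ⟨hr', hrq⟩)]
    omega

end Cfsg.Agent.Order10200960
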