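/-
The vectors attached to a point and a class, and a subgroup of index 23, in a group with the local data
of `M₂₃`.

Main results (namespace `Cfsg.Agent.Order10200960`): `gram_sq`, `exists_index_twentythree`.
-/
import Cfsg.Agent.Lib.Order10200960.GeomGraph

set_option autoImplicit false
set_option maxHeartbeats 2000000

open Subgroup MulAction Cfsg Cfsg.Agent

namespace Cfsg.Agent.Order10200960

open SmallOrders

variable {G : Type*} [Group G]

/-- A multiple of a projection for the graph. -/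
noncomputable def gram (t : G) (p q : Pts t) : ℤ := by
  classical exact if p = q then 56 else if Adj t p q then -13 else 10

/-- The weight of six at the base point and one on a class. -/
noncomputable def wgt (t : G) [Fintype (Pts t)] (β x : Pts t) : ℤ := by
  classical exact (if x = base t then 6 else 0) + (if x ∈ cls t β then 1 else 0)

/-- The vector attached to the base point and a class. -/
noncomputable def vec (t : G) [Fintype (Pts t)] (β x : Pts t) : ℤ :=
  6 * gram t x (base t) + ∑ r ∈ cls t β, gram t x r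

theorem gram_comm {t : G} (p q : Pts t) : gram t p q = gram t q p := by
  classical
  unfold gram
  rw [adj_symm (p := p) (q := q)]
  by_cases h : p = q
  · subst h; rfl
  · rw [if_neg h, if_neg (Ne.symm h)]

theorem gram_smul {t : G} (g : G) (p q : Pts t) : gram t (g • p) (g • q) = gram t p q := by
  classical
  unfold gram
  simp only [adj_smul, smul_left_cancel_iff]

theorem vec_eq_sum {t : G} [Fintype (Pts t)] (β x : Pts t) : vec t β x = ∑ r, gram t x r * wgt t β r := by
  classical
  unfold vec wgt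
  simp only [mul_add, mul_ite, mul_one, mul_zero, Finset.sum_add_distrib, Finset.sum_ite_eq', Finset.mem_univ,
    if_true]
  rw [mul_comm, Finset.sum_ite_mem, Finset.univ_inter]

theorem sum_mul_wgt {t : G} [Fintype (Pts t)] (β : Pts t) (f : Pts t → ℤ) :
    ∑ r, f r * wgt t β r = 6 * f (base t) + ∑ r ∈ cls t β, f r := by
  classical
  unfold wgt
  simp only [mul_add, mul_ite, mul_one, mul_zero, Finset.sum_add_distrib, Finset.sum_ite_eq', Finset.mem_univ,
    if_true]
  rw [mul_comm, Finset.sum_ite_mem, Finset.univ_inter]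

theorem vec_cls {t : G} [Fintype (Pts t)] {β β' : Pts t} (h : cls t β = cls t β') : vec t β = vec t β' := by
  funext x; rw [vec, vec, h]

theorem cls_smul {t n : G} [Fintype (Pts t)] (hn : n ∈ coreNorm t) (β : Pts t) :
    cls t (n • β) = (cls t β).map (MulAction.toPerm n).toEmbedding := by
  ext x
  rw [Finset.mem_map_equiv, ← mem_cls_smul hn (x := (MulAction.toPerm n).symm x)]
  simp

theorem vec_smul {t n : G} [Fintype (Pts t)] (hn : n ∈ coreNorm t) (β x : Pts t) :
    vec t (n • β) (n • x) = vec t β x := by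
  unfold vec
  congr 1
  · conv_lhs => rw [← smul_base_eq_iff.mpr hn, gram_smul]
  · rw [cls_smul hn, Finset.sum_map]
    exact Finset.sum_congr rfl fun r _ => gram_smul n x r

variable [Finite G] (D : LocalData G)
include D

theorem gram_sq {t : G} (ht : orderOf t = 2) [Fintype (Pts t)] (p q : Pts t) :
    ∑ x, gram t p x * gram t x q = 644 * gram t p q := by
  classical
  obtain ⟨hadj, hfar, -, -⟩ := graph_params D ht
  have hg : ∀ a b : Pts t, gram t a b = 10 + 46 * (if a = b then 1 else 0) - 23 * (if Adj t a b then 1 else 0) :=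
    fun a b => by
      unfold gram
      by_cases h : a = b
      · subst h; rw [if_pos rfl, if_pos rfl, if_neg (not_adj_self D ht a)]; norm_num
      · rw [if_neg h, if_neg h]; by_cases h' : Adj t a b <;> simp [h']
  have hp : ∀ a : Pts t, (∑ x, if Adj t a x then (1 : ℤ) else 0) = 112 := fun a => by
    rw [Finset.sum_boole]
    have h := card_nbr D ht a
    rw [nbr] at h
    exact_mod_cast h
  have hq : ∀ a : Pts t, (∑ x, if Adj t x a then (1 : ℤ) else 0) = 112 := fun a => by
    rw [← hp a]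
    exact Finset.sum_congr rfl fun x _ => by rw [adj_symm (p := x)]
  have e : ∀ x, gram t p x * gram t x q =
      100 + 460 * (if p = x then 1 else 0) + 460 * (if x = q then 1 else 0)
        - 230 * (if Adj t p x then 1 else 0) - 230 * (if Adj t x q then 1 else 0)
        + 2116 * (if p = x then (if x = q then 1 else 0) else 0)
        - 1058 * (if p = x then (if Adj t x q then 1 else 0) else 0)
        - 1058 * (if x = q then (if Adj t p x then 1 else 0) else 0)
        + 529 * (if Adj t p x ∧ Adj t q x then 1 else 0) := fun x => by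
    rw [hg p x, hg x q, adj_symm (p := q) (q := x)]
    rcases eq_or_ne p x with rfl | h1
    · rcases eq_or_ne p q with rfl | h2
      · simp [not_adj_self D ht p]
      · by_cases h4 : Adj t p q <;> simp [not_adj_self D ht p, h2, h4]
    · rcases eq_or_ne x q with rfl | h2
      · by_cases h3 : Adj t p x <;> simp [not_adj_self D ht x, h1, h3]
      · by_cases h3 : Adj t p x <;> by_cases h4 : Adj t x q <;> simp [h1, h2, h3, h4]
  rw [Finset.sum_congr rfl fun x _ => e x]
  simp only [Finset.sum_add_distrib, Finset.sum_sub_distrib, ← Finset.mul_sum, Finset.sum_const,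
    Finset.sum_ite_eq, Finset.sum_ite_eq', Finset.mem_univ, if_true, hp, hq, Finset.card_univ]
  rw [← Nat.card_eq_fintype_card, card_points D ht, Finset.sum_boole]
  have hcom : (Finset.univ.filter fun x => Adj t p x ∧ Adj t q x).card = (com t p q).card := by rw [com]
  rw [hcom, hg p q]
  by_cases h : p = q
  · subst h
    have : (com t p p).card = 112 := by
      rw [← card_nbr D ht p]; congr 1; ext x; rw [mem_com, mem_nbr, and_self]
    rw [this, if_neg (not_adj_self D ht p)]
    simp
  · by_cases h' : Adj t p q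
    · rw [hadj p q h', if_pos h']; simp [h]
    · rw [hfar p q h h', if_neg h']; simp [h]

/-- The squared length of the image of an integer vector. -/
theorem sum_sq_image {t : G} (ht : orderOf t = 2) [Fintype (Pts t)] (f : Pts t → ℤ) :
    ∑ x, (∑ r, gram t x r * f r) ^ 2 = 644 * ∑ x, f x * ∑ r, gram t x r * f r := by
  simp only [pow_two, Finset.sum_mul, Finset.mul_sum]
  rw [Finset.sum_comm]
  refine Finset.sum_congr rfl fun r _ => ?_
  rw [Finset.sum_comm]
  refine Finset.sum_congr rfl fun s _ => ?_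
  calc ∑ x, gram t x s * f s * (gram t x r * f r)
      = f r * f s * ∑ x, gram t r x * gram t x s := by
        rw [Finset.mul_sum]
        exact Finset.sum_congr rfl fun x _ => by rw [gram_comm r x]; ring
    _ = _ := by rw [gram_sq D ht r s]; ring

theorem card_coreStab_far {t : G} (ht : orderOf t = 2) {y : Pts t} (hy : y ≠ base t)
    (hny : ¬ Adj t (base t) y) : Nat.card (coreStab t y) = 4 ∧ Nat.card (pairStab t y) = 288 := by
  rcases pairStab_card_cases D ht y with ⟨e, -⟩ | ⟨hb, -⟩ | ⟨-, -, h1, h2⟩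
  · exact absurd e hy
  · exact absurd ((adj_base_iff D ht).mpr hb) hny
  · exact ⟨h1, h2⟩

/-- In the stabiliser of a class, a far point is fixed only by a proper part. -/
theorem no_far_fixing_class {t : G} (ht : orderOf t = 2) {β y : Pts t} (hβ : InBig t β) (hy : y ≠ base t)
    (hny : ¬ Adj t (base t) y) : ¬ pairStab t y ≤ clsStab t β := fun hle => by
  obtain ⟨hy4, hy288⟩ := card_coreStab_far D ht hy hny
  set P := pairStab t y with hP
  set R := core t ⊔ P with hR
  have hRH : R ≤ clsStab t β := sup_le le_sup_left hle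
  have hRc : Nat.card R * 4 = 16 * 288 := by
    rw [← card_core D ht, ← hy288, ← hy4, ← core_inf_pairStab]
    exact PLocal.card_sup_mul_card_inf (inf_le_left : P ≤ normalizer ((core t : Subgroup G) : Set G))
  set L := pairStab t β with hL
  have hsup : core t ⊔ (R ⊓ L) = R := by
    refine le_antisymm (sup_le le_sup_left inf_le_left) fun r hr => ?_
    obtain ⟨e, he, l, hl, rfl⟩ := mem_clsStab (hRH hr)
    refine mul_mem (mem_sup_left he) (mem_sup_right (mem_inf.mpr ⟨?_, hl⟩))
    have := mul_mem (inv_mem (mem_sup_left he : e ∈ R)) hr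
    simpa using this
  have h := PLocal.card_sup_mul_card_inf
    ((inf_le_right.trans inf_le_left : R ⊓ L ≤ coreNorm t))
  rw [hsup, card_core D ht] at h
  have hbot : core t ⊓ (R ⊓ L) = ⊥ := eq_bot_mono (inf_le_inf_left _ inf_le_right)
    (by rw [hL, core_inf_pairStab, hβ.coreStab_eq])
  rw [hbot, card_bot] at h
  exact no_index_five D ht hβ (inf_le_right : R ⊓ L ≤ L) (by omega)

/-- A subgroup of index 23. -/
theorem exists_index_twentythree {t : G} (ht : orderOf t = 2) :
    ∃ (β : Pts t) (K : Subgroup G), InBig t β ∧ Nat.card K = 443520 ∧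
      K ⊓ stabilizer G (base t) = clsStab t β ∧
      ∀ p, Adj t (base t) p → (p ∈ orbit K (base t) ↔ ∃ e ∈ core t, e • β = p) := by
  classical
  have := Fintype.ofFinite (Pts t)
  obtain ⟨hadj, hfar, hcoc, hsix⟩ := graph_params D ht
  obtain ⟨β, γ₀, hβne, -, hβc, hβF, -, -, -⟩ := orbit_split D ht
  have hβ : InBig t β := ⟨hβne, hβc, hβF⟩
  set o := base t with ho
  set H := clsStab t β with hH
  set L := pairStab t β with hL
  have hoβ : Adj t o β := (adj_base_iff D ht).mpr hβ
  -- the class of the base point seen from β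
  obtain ⟨g, hg⟩ := exists_rep β
  set q := g⁻¹ • o with hq
  have hgq : g • q = o := smul_inv_smul g o
  have hqb : InBig t q := by
    refine (adj_base_iff D ht).mp ?_
    rw [← adj_smul g, hg, hgq]
    exact adj_symm.mp hoβ
  set S := (cls t q).map (MulAction.toPerm g).toEmbedding |>.erase o with hS
  have hmemS : ∀ x, x ∈ S ↔ x ≠ o ∧ g⁻¹ • x ∈ cls t q := fun x => by
    rw [hS, Finset.mem_erase, Finset.mem_map_equiv, MulAction.toPerm_symm_apply]
  have hScard : S.card = 15 := by
    rw [hS, Finset.card_erase_of_mem, Finset.card_map, card_cls D ht hqb]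
    rw [Finset.mem_map_equiv, MulAction.toPerm_symm_apply]
    exact self_mem_cls q
  have hSfar : ∀ x ∈ S, x ≠ o ∧ ¬ Adj t o x ∧ Adj t β x := fun x hx => by
    obtain ⟨hxo, hxq⟩ := (hmemS x).mp hx
    refine ⟨hxo, fun h => hcoc q _ hqb hxq ?_, ?_⟩
    · rw [← adj_smul g, hgq, smul_inv_smul]; exact h
    · rw [← hg, ← smul_inv_smul g x, adj_smul]
      exact (adj_base_iff D ht).mpr (inBig_cls D ht hqb hxq)
  have hStrans : ∀ x ∈ S, ∀ y ∈ S, ∃ l ∈ L, l • x = y := fun x hx y hy => by
    obtain ⟨hxo, hxq⟩ := (hmemS x).mp hx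
    obtain ⟨hyo, hyq⟩ := (hmemS y).mp hy
    obtain ⟨l, hl, hlxy⟩ := cls_trans_same D ht hqb hxq (fun e => hxo (by rw [← hgq, ← e, smul_inv_smul]))
      hyq (fun e => hyo (by rw [← hgq, ← e, smul_inv_smul]))
    refine ⟨g * l * g⁻¹, mem_inf.mpr ⟨?_, ?_⟩, ?_⟩
    · rw [← smul_base_eq_iff, mul_smul, mul_smul, ← hq, mem_stabilizer_iff.mp (mem_inf.mp hl).2, hgq]
    · rw [mem_stabilizer_iff, ← hg, mul_smul, mul_smul, inv_smul_smul,
        smul_base_eq_iff.mpr (mem_inf.mp hl).1]
    · rw [mul_smul, mul_smul, hlxy, smul_inv_smul]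
  have hScls : ∀ l ∈ L, ∀ x ∈ S, l • x ∈ S := fun l hl x hx => by
    obtain ⟨hxo, hxq⟩ := (hmemS x).mp hx
    have hn : g⁻¹ * l * g ∈ coreNorm t := by
      rw [← smul_base_eq_iff, mul_smul, mul_smul, hg, mem_stabilizer_iff.mp (mem_inf.mp hl).2, ← hg, inv_smul_smul]
    have hnq : (g⁻¹ * l * g) • q = q := by
      rw [mul_smul, mul_smul, hgq, smul_base_eq_iff.mpr (mem_inf.mp hl).1]
    refine (hmemS _).mpr ⟨fun e => hxo ?_, ?_⟩
    · rw [← inv_smul_smul l x, e, smul_base_eq_iff.mpr (inv_mem (mem_inf.mp hl).1)]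
    · have := (mem_cls_smul hn (r := q) (x := g⁻¹ • x)).mpr hxq
      rwa [hnq, mul_smul, mul_smul, smul_inv_smul] at this
  obtain ⟨x₀, hx₀⟩ := Finset.card_pos.mp (by rw [hScard]; norm_num : 0 < S.card)
  obtain ⟨hx₀o, hx₀n, hx₀β⟩ := hSfar x₀ hx₀
  obtain ⟨hx4, hx288⟩ := card_coreStab_far D ht hx₀o hx₀n
  -- classes of the members of S are disjoint
  set P := pairStab t x₀ with hP
  have hLP : Nat.card ↥(L ⊓ P) = 24 := by
    have h : Nat.card ↥(L ⊓ P) * 15 = 360 := by
      rw [← card_pairStab D ht hβ, ← hScard, ← Fintype.card_coe, ← Nat.card_eq_fintype_card, mul_comm, ← Nat.card_prod]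
      choose rep hrep hrep' using fun y : ↥S => hStrans x₀ hx₀ y y.2
      refine Nat.card_congr (Equiv.ofBijective
        (fun p => (⟨rep p.1 * (p.2 : G), mul_mem (hrep p.1) (mem_inf.mp p.2.2).1⟩ : L)) ⟨?_, ?_⟩)
      · rintro ⟨y, k⟩ ⟨y', k'⟩ h
        simp only [Subtype.mk.injEq] at h
        have key : ∀ (z : ↥S) (k : ↥(L ⊓ P)), (rep z * (k : G)) • x₀ = z := fun z k => by
          rw [mul_smul, mem_stabilizer_iff.mp (mem_inf.mp (mem_inf.mp k.2).2).2, hrep' z]
        have hy : y = y' := Subtype.ext (by rw [← key y k, h, key])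
        subst hy
        rw [Subtype.ext (mul_left_cancel h)]
      · intro l
        let y : ↥S := ⟨(l : G) • x₀, hScls l l.2 x₀ hx₀⟩
        refine ⟨(y, ⟨(rep y)⁻¹ * l, mem_inf.mpr ⟨mul_mem (inv_mem (hrep y)) l.2, mem_inf.mpr ⟨?_, ?_⟩⟩⟩),
          Subtype.ext (by simp)⟩
        · exact mul_mem (inv_mem (mem_inf.mp (hrep y)).1) (mem_inf.mp l.2).1
        · rw [mem_stabilizer_iff, mul_smul, inv_smul_eq_iff, hrep' y]
    omega
  set R := core t ⊔ P with hR
  have hRc : Nat.card R = 1152 := by
    have h : Nat.card R * 4 = 16 * 288 := by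
      rw [← card_core D ht, ← hx288, ← hx4, ← core_inf_pairStab]
      exact PLocal.card_sup_mul_card_inf (inf_le_left : P ≤ normalizer ((core t : Subgroup G) : Set G))
    omega
  have hLR : L ⊓ R = L ⊓ P := by
    refine (eq_of_le_of_card_ge (inf_le_inf_left _ le_sup_right) ?_).symm
    have h1 : Nat.card ↥(L ⊓ R) ∣ 360 := card_pairStab D ht hβ ▸ card_dvd_of_le inf_le_left
    have h2 : Nat.card ↥(L ⊓ R) ∣ 1152 := hRc ▸ card_dvd_of_le inf_le_right
    have h3 : 24 ∣ Nat.card ↥(L ⊓ R) := hLP ▸ card_dvd_of_le (inf_le_inf_left L le_sup_right)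
    have h4 : Nat.card ↥(L ⊓ R) ∣ 72 := (Nat.dvd_gcd h1 h2).trans (by norm_num)
    have h5 := no_index_five D ht hβ (inf_le_left : L ⊓ R ≤ L)
    have := Nat.le_of_dvd (by norm_num) h4
    obtain ⟨c, hc⟩ := h3
    rw [hc] at h4 h5 this
    have : c ≤ 3 := by omega
    rw [hLP, hc]
    interval_cases c <;> omega
  have hdisj : ∀ s ∈ S, ∀ s' ∈ S, s' ∈ cls t s → s' = s := fun s hs s' hs' h => by
    obtain ⟨l, hl, rfl⟩ := hStrans x₀ hx₀ s hs
    obtain ⟨l', hl', rfl⟩ := hStrans x₀ hx₀ s' hs'
    obtain ⟨e, he, hee⟩ := mem_cls.mp h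
    have hm : (l⁻¹ * e * l)⁻¹ * (l⁻¹ * l') ∈ P := mem_inf.mpr ⟨mul_mem (inv_mem (mul_mem
      (mul_mem (inv_mem (mem_inf.mp hl).1) (core_le_coreNorm t he)) (mem_inf.mp hl).1))
        (mul_mem (inv_mem (mem_inf.mp hl).1) (mem_inf.mp hl').1), by
      rw [mem_stabilizer_iff, mul_smul, inv_smul_eq_iff, mul_smul, mul_smul, mul_smul, hee]⟩
    have he' : l⁻¹ * e * l ∈ core t := by
      simpa using (mem_coreNorm (inv_mem (mem_inf.mp hl).1)).mp he
    have hR' : l⁻¹ * l' ∈ R := by
      have := mul_mem (mem_sup_left he' : l⁻¹ * e * l ∈ R) (mem_sup_right hm : _ ∈ R)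
      rwa [mul_inv_cancel_left] at this
    have := (mem_inf.mp (hLR.le (mem_inf.mpr ⟨mul_mem (inv_mem hl) hl', hR'⟩))).2
    have h' := mem_stabilizer_iff.mp (mem_inf.mp this).2
    rw [mul_smul, inv_smul_eq_iff] at h'
    exact h'
  have hclsS : ∀ s ∈ S, (cls t s).card = 4 := fun s hs => by
    obtain ⟨hso, hsn, -⟩ := hSfar s hs
    obtain ⟨h4, -⟩ := card_coreStab_far D ht hso hsn
    have hE := (((coreStab t s).subgroupOf (core t))).card_eq_card_quotient_mul_card_subgroup
    rw [card_core D ht, Cores.card_subgroupOf (H := coreStab t s) (K := core t) inf_le_left, h4] at hE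
    have he : (cls t s).card = Nat.card (core t ⧸ (coreStab t s).subgroupOf (core t)) := by
      rw [← Fintype.card_coe, ← Nat.card_eq_fintype_card]
      refine (Nat.card_congr (Equiv.ofBijective (Quotient.lift
        (fun e : core t => (⟨(e : G) • s, mem_cls.mpr ⟨e, e.2, rfl⟩⟩ : ↥(cls t s))) ?_) ⟨?_, ?_⟩)).symm
      · intro a b h
        have h' := QuotientGroup.leftRel_apply.mp h
        rw [mem_subgroupOf] at h'
        have h'' := mem_stabilizer_iff.mp (mem_inf.mp h').2
        refine Subtype.ext ?_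
        simp only [coe_mul, coe_inv, mul_smul, inv_smul_eq_iff] at h''
        exact h''.symm
      · intro a b
        induction a using Quotient.inductionOn with | h a => ?_
        induction b using Quotient.inductionOn with | h b => ?_
        intro h
        refine Quotient.sound (QuotientGroup.leftRel_apply.mpr ?_)
        rw [mem_subgroupOf]
        refine mem_inf.mpr ⟨(a⁻¹ * b).2, ?_⟩
        rw [mem_stabilizer_iff]
        simp only [coe_mul, coe_inv, mul_smul, inv_smul_eq_iff]
        exact (congrArg Subtype.val h).symm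
      · rintro ⟨x, hx⟩
        obtain ⟨e, he, rfl⟩ := mem_cls.mp hx
        exact ⟨Quotient.mk'' ⟨e, he⟩, rfl⟩
    omega
  set O := S.biUnion (cls t) with hO
  have hmemO : ∀ x, x ∈ O ↔ ∃ s ∈ S, x ∈ cls t s := fun x => by rw [hO, Finset.mem_biUnion]
  have hOcard : O.card = 60 := by
    rw [hO, Finset.card_biUnion fun s hs s' hs' hne => Finset.disjoint_left.mpr fun x hx hx' => hne ?_,
      Finset.sum_congr rfl hclsS, Finset.sum_const, hScard, smul_eq_mul]
    exact hdisj s' hs' s hs (by rw [← cls_eq_of_mem hx', cls_eq_of_mem hx]; exact self_mem_cls s)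
  have hOfar : ∀ x ∈ O, x ≠ o ∧ ¬ Adj t o x := fun x hx => by
    obtain ⟨s, hs, hx⟩ := (hmemO x).mp hx
    obtain ⟨e, he, rfl⟩ := mem_cls.mp hx
    obtain ⟨h1, h2, -⟩ := hSfar s hs
    have heo := smul_base_eq_iff.mpr (core_le_coreNorm t he)
    refine ⟨fun h => h1 ?_, fun h => h2 ((adj_smul_fix heo).mp h)⟩
    rw [← inv_smul_smul e s, h, smul_base_eq_iff.mpr (inv_mem (core_le_coreNorm t he))]
  have hOH : ∀ h ∈ H, ∀ x ∈ O, h • x ∈ O := fun h hh x hx => by
    obtain ⟨e, he, l, hl, rfl⟩ := mem_clsStab hh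
    obtain ⟨s, hs, hx⟩ := (hmemO x).mp hx
    obtain ⟨f, hf, rfl⟩ := mem_cls.mp hx
    refine (hmemO _).mpr ⟨l • s, hScls l hl s hs, mem_cls.mpr ⟨e * (l * f * l⁻¹),
      mul_mem he ((mem_coreNorm (mem_inf.mp hl).1).mp hf), ?_⟩⟩
    simp only [mul_smul, inv_smul_smul]
  have hOtrans : ∀ x ∈ O, ∃ h ∈ H, h • x₀ = x := fun x hx => by
    obtain ⟨s, hs, hx⟩ := (hmemO x).mp hx
    obtain ⟨f, hf, rfl⟩ := mem_cls.mp hx
    obtain ⟨l, hl, rfl⟩ := hStrans x₀ hx₀ s hs
    exact ⟨f * l, mul_mem (mem_sup_left hf) (mem_sup_right hl), mul_smul f l x₀⟩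
  -- the other far points form one orbit
  have hrest : ∀ y z, y ≠ o → ¬ Adj t o y → y ∉ O → z ≠ o → ¬ Adj t o z → z ∉ O → ∃ h ∈ H, h • y = z := by
    intro y z hy hny hyO hz hnz hzO
    obtain ⟨n, hn, rfl⟩ := trans_far D ht hx₀o hy hx₀n hny
    obtain ⟨n', hn', rfl⟩ := trans_far D ht hx₀o hz hx₀n hnz
    set N := coreNorm t with hN
    set H' := H.subgroupOf N with hH'
    set P' := P.subgroupOf N with hP'
    have hidx : Nat.card (N ⧸ H') = 7 := by
      have := H'.card_eq_card_quotient_mul_card_subgroup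
      rw [card_normalizer_core D ht, Cores.card_subgroupOf clsStab_le, card_clsStab D ht hβ] at this
      omega
    have hP'c : Nat.card P' = 288 := (Cores.card_subgroupOf inf_le_left).trans hx288
    set c₀ : N ⧸ H' := ((1 : N) : N ⧸ H') with hc₀
    have := Fintype.ofFinite (N ⧸ H')
    have hstab : ∀ (m : N), (∀ p : P', p • ((m : N) : N ⧸ H') = (m : N ⧸ H')) → False := fun m hm => by
      have hm' : ((m : G)⁻¹) • o = o := smul_base_eq_iff.mpr (inv_mem m.2)
      refine no_far_fixing_class D ht hβ (y := (m : G)⁻¹ • x₀) (fun e => hx₀o ?_) (fun e => hx₀n ?_) ?_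
      · rw [← smul_inv_smul (m : G) x₀, e, smul_base_eq_iff.mpr m.2]
      · exact (adj_smul_fix hm').mp e
      · intro p hp
        have hpp : (m : G) * p * (m : G)⁻¹ ∈ P := mem_inf.mpr ⟨mul_mem (mul_mem m.2 (mem_inf.mp hp).1) (inv_mem m.2), by
          rw [mem_stabilizer_iff, mul_smul, mul_smul, mem_stabilizer_iff.mp (mem_inf.mp hp).2, smul_inv_smul]⟩
        have := smul_coe_eq_iff.mp (hm ⟨⟨_, inf_le_left (b := stabilizer G x₀) hpp⟩, mem_subgroupOf.mpr hpp⟩)
        simpa [hH', mem_subgroupOf, mul_assoc] using this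
    -- the orbit of the base coset
    have horb0 : Nat.card (orbit P' c₀) = 3 := by
      have h := (stabilizer P' c₀).card_eq_card_quotient_mul_card_subgroup
      rw [← Nat.card_congr (orbitEquivQuotientStabilizer P' c₀), hP'c] at h
      have he : Nat.card (stabilizer P' c₀) = Nat.card ↥(P ⊓ H) := Nat.card_congr
        { toFun := fun p => ⟨((p.1 : N) : G), mem_inf.mpr ⟨mem_subgroupOf.mp p.1.2, by
            have := smul_coe_eq_iff.mp (p.2 : (p.1 : N) • c₀ = c₀)
            simpa [hH', mem_subgroupOf] using this⟩⟩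
          invFun := fun p => ⟨⟨⟨p.1, inf_le_left (b := stabilizer G x₀) (mem_inf.mp p.2).1⟩,
            mem_subgroupOf.mpr (mem_inf.mp p.2).1⟩, by
              refine smul_coe_eq_iff.mpr ?_
              simpa [hH', mem_subgroupOf] using (mem_inf.mp p.2).2⟩
          left_inv := fun p => rfl
          right_inv := fun p => rfl }
      have hPH : Nat.card ↥(P ⊓ H) * 60 = 5760 := by
        rw [← card_clsStab D ht hβ, ← hOcard, ← Fintype.card_coe, ← Nat.card_eq_fintype_card, mul_comm, ← Nat.card_prod]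
        choose rep hrep hrep' using fun y : ↥O => hOtrans y y.2
        refine Nat.card_congr (Equiv.ofBijective
          (fun p => (⟨rep p.1 * (p.2 : G), mul_mem (hrep p.1) (mem_inf.mp p.2.2).2⟩ : H)) ⟨?_, ?_⟩)
        · rintro ⟨y, k⟩ ⟨y', k'⟩ h
          simp only [Subtype.mk.injEq] at h
          have key : ∀ (z : ↥O) (k : ↥(P ⊓ H)), (rep z * (k : G)) • x₀ = z := fun z k => by
            rw [mul_smul, mem_stabilizer_iff.mp (mem_inf.mp (mem_inf.mp k.2).1).2, hrep' z]
          have hyy : y = y' := Subtype.ext (by rw [← key y k, h, key])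
          subst hyy
          rw [Subtype.ext (mul_left_cancel h)]
        · intro l
          let y : ↥O := ⟨(l : G) • x₀, hOH l l.2 x₀ ((hmemO x₀).mpr ⟨x₀, hx₀, self_mem_cls x₀⟩)⟩
          refine ⟨(y, ⟨(rep y)⁻¹ * l, mem_inf.mpr ⟨mem_inf.mpr ⟨?_, ?_⟩, mul_mem (inv_mem (hrep y)) l.2⟩⟩),
            Subtype.ext (by simp)⟩
          · exact mul_mem (inv_mem (clsStab_le (hrep y))) (clsStab_le l.2)
          · rw [mem_stabilizer_iff, mul_smul, inv_smul_eq_iff, hrep' y]
      rw [he] at h
      have h96 : Nat.card ↥(P ⊓ H) = 96 := by omega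
      rw [h96] at h
      omega
    have hnot : ∀ (m : N), (m : G) • x₀ ∉ O → ((m⁻¹ : N) : N ⧸ H') ∉ orbit P' c₀ := by
      intro m hmO ⟨p, hp⟩
      have h := QuotientGroup.eq.mp (hp : ((((p : N) * 1) : N) : N ⧸ H') = _)
      refine hmO ?_
      have hm' : (m : G) * ((p : N) : G) ∈ H := by
        have := inv_mem (mem_subgroupOf.mp h)
        simpa using this
      have := hOH _ hm' x₀ ((hmemO x₀).mpr ⟨x₀, hx₀, self_mem_cls x₀⟩)
      rwa [mul_smul, mem_stabilizer_iff.mp (mem_inf.mp (mem_subgroupOf.mp p.2)).2] at this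
    set a : N ⧸ H' := (((⟨n, hn⟩ : N)⁻¹ : N) : N ⧸ H') with ha
    set a' : N ⧸ H' := (((⟨n', hn'⟩ : N)⁻¹ : N) : N ⧸ H') with ha'
    have haO := hnot ⟨n, hn⟩ hyO
    have ha'O := hnot ⟨n', hn'⟩ hzO
    have hmeet : a' ∈ orbit P' a := by
      by_contra hno
      have hsize : ∀ c : N ⧸ H', 2 ≤ Nat.card (orbit P' c) := fun c => by
        have hne : Nonempty (orbit P' c) := ⟨⟨c, mem_orbit_self c⟩⟩
        have hpos := Nat.card_pos (α := orbit P' c)
        by_contra hlt
        obtain ⟨hs, -⟩ := Nat.card_eq_one_iff_unique.mp (show Nat.card (orbit P' c) = 1 by omega)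
        obtain ⟨m, rfl⟩ := QuotientGroup.mk_surjective c
        exact hstab m fun p => congrArg Subtype.val (hs.elim ⟨_, mem_orbit _ p⟩ ⟨_, mem_orbit_self _⟩)
      have hd : ∀ c d : N ⧸ H', c ∉ orbit P' d → Disjoint (orbit P' c) (orbit P' d) := fun c d h =>
        Set.disjoint_left.mpr fun x hx hx' => h (by
          rw [← orbit_eq_iff.mpr hx', orbit_eq_iff.mpr hx]; exact mem_orbit_self c)
      have htot : Nat.card (orbit P' c₀) + Nat.card (orbit P' a) + Nat.card (orbit P' a') ≤ 7 := by
        rw [← hidx, Nat.card_coe_set_eq, Nat.card_coe_set_eq, Nat.card_coe_set_eq,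
          ← Set.ncard_union_eq (hd _ _ haO).symm, ← Set.ncard_union_eq, ← Set.ncard_univ]
        · exact Set.ncard_le_ncard (Set.subset_univ _)
        · exact Set.disjoint_union_left.mpr ⟨(hd _ _ ha'O).symm, (hd _ _ hno).symm⟩
      have h2a : Nat.card (orbit P' a) = 2 := by have := hsize a; have := hsize a'; omega
      have h2a' : Nat.card (orbit P' a') = 2 := by have := hsize a; have := hsize a'; omega
      have hall : orbit P' c₀ ∪ orbit P' a ∪ orbit P' a' = Set.univ := by
        refine Set.eq_of_subset_of_ncard_le (Set.subset_univ _) ?_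
        rw [Set.ncard_univ, hidx, Set.ncard_union_eq, Set.ncard_union_eq (hd _ _ haO).symm,
          ← Nat.card_coe_set_eq, ← Nat.card_coe_set_eq, ← Nat.card_coe_set_eq, horb0, h2a, h2a']
        exact Set.disjoint_union_left.mpr ⟨(hd _ _ ha'O).symm, (hd _ _ hno).symm⟩
      let φ : P' →* Equiv.Perm (orbit P' c₀) × Equiv.Perm (orbit P' a) × Equiv.Perm (orbit P' a') :=
        (MulAction.toPermHom P' (orbit P' c₀)).prod
          ((MulAction.toPermHom P' (orbit P' a)).prod (MulAction.toPermHom P' (orbit P' a')))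
      have hk := φ.ker.card_eq_card_quotient_mul_card_subgroup
      rw [hP'c, Nat.card_congr (QuotientGroup.quotientKerEquivRange φ).toEquiv] at hk
      have hr : Nat.card φ.range ≤ 24 := by
        refine (Nat.card_le_card_of_injective _ Subtype.val_injective).trans ?_
        rw [Nat.card_prod, Nat.card_prod, Nat.card_perm, Nat.card_perm, Nat.card_perm, horb0, h2a, h2a']
        rfl
      have hker : Nat.card φ.ker ≤ 4 := by
        rw [← hx4]
        refine Nat.card_le_card_of_injective (fun p : φ.ker => (⟨((p.1 : N) : G), ?_⟩ : coreStab t x₀)) ?_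
        · have hp := MonoidHom.mem_ker.mp p.2
          simp only [φ, MonoidHom.prod_apply, Prod.mk_eq_one] at hp
          obtain ⟨p1, p2, p3⟩ := hp
          have hmemK : (p.1 : N) ∈ H'.normalCore := by
            rw [normalCore_eq_ker, MonoidHom.mem_ker]
            refine Equiv.ext fun c => ?_
            rcases hall.ge (Set.mem_univ c) with (hc | hc) | hc
            · exact congrArg Subtype.val (DFunLike.congr_fun p1 ⟨c, hc⟩)
            · exact congrArg Subtype.val (DFunLike.congr_fun p2 ⟨c, hc⟩)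
            · exact congrArg Subtype.val (DFunLike.congr_fun p3 ⟨c, hc⟩)
          rw [show H'.normalCore = (core t).subgroupOf N from normalCore_clsStab D ht hβ, mem_subgroupOf] at hmemK
          exact mem_inf.mpr ⟨hmemK, (mem_inf.mp (mem_subgroupOf.mp p.1.2)).2⟩
        · intro p p' h
          exact Subtype.ext (Subtype.ext (Subtype.ext (congrArg (fun z : coreStab t x₀ => (z : G)) h)))
      nlinarith
    obtain ⟨p, hp⟩ := hmeet
    have h := QuotientGroup.eq.mp (hp : ((((p : N) * (⟨n, hn⟩ : N)⁻¹) : N) : N ⧸ H') = _)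
    refine ⟨n' * ((p : N) : G) * n⁻¹, ?_, ?_⟩
    · have := inv_mem (mem_subgroupOf.mp h)
      simpa [mul_assoc] using this
    · rw [mul_smul, mul_smul, inv_smul_smul, mem_stabilizer_iff.mp (mem_inf.mp (mem_subgroupOf.mp p.2)).2]
  -- values of the vector
  set v := vec t β with hv
  have hvH : ∀ h ∈ H, ∀ x, v (h • x) = v x := fun h hh x => by
    obtain ⟨e, he, l, hl, rfl⟩ := mem_clsStab hh
    have hn : e * l ∈ coreNorm t := mul_mem (core_le_coreNorm t he) (mem_inf.mp hl).1
    rw [hv, ← vec_smul hn β x]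
    refine congrFun (vec_cls (cls_eq_of_mem (mem_cls.mpr ⟨e, he, ?_⟩)).symm) _
    rw [mul_smul, mem_stabilizer_iff.mp (mem_inf.mp hl).2]
  have hgram : ∀ x r, x ≠ r → gram t x r = 10 - 23 * (if Adj t x r then 1 else 0) := fun x r h => by
    unfold gram; rw [if_neg h]; by_cases h' : Adj t x r <;> simp [h']
  have hgs : ∀ x : Pts t, gram t x x = 56 := fun x => by unfold gram; rw [if_pos rfl]
  have hclsbig : ∀ r ∈ cls t β, InBig t r := fun r hr => inBig_cls D ht hβ hr
  have hclsadj : ∀ r ∈ cls t β, Adj t o r := fun r hr => (adj_base_iff D ht).mpr (hclsbig r hr)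
  have hclso : o ∉ cls t β := fun h => not_adj_self D ht o (hclsadj o h)
  have hcount : ∀ x, x ∉ cls t β → ∑ r ∈ cls t β, gram t x r = 160 - 23 * ((nbr t x ∩ cls t β).card : ℤ) := by
    intro x hx
    rw [Finset.sum_congr rfl fun r hr => hgram x r fun e => hx (e ▸ hr), Finset.sum_sub_distrib, Finset.sum_const,
      card_cls D ht hβ, ← Finset.mul_sum, Finset.sum_boole]
    congr 3
    congr 1
    ext r
    rw [Finset.mem_filter, Finset.mem_inter, mem_nbr, and_comm]
  have hvo : v o = 128 := by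
    rw [hv, vec, hgs, hcount o hclso]
    have : nbr t o ∩ cls t β = cls t β :=
      Finset.inter_eq_right.mpr fun r hr => mem_nbr.mpr (hclsadj r hr)
    rw [this, card_cls D ht hβ]; norm_num
  have hvu : ∀ x ∈ cls t β, v x = 128 := fun x hx => by
    rw [hv, vec, hgram x o (fun e => hclso (e ▸ hx)), if_pos (adj_symm.mp (hclsadj x hx)),
      ← Finset.add_sum_erase _ _ hx, hgs, Finset.sum_congr rfl (g := fun _ => (10 : ℤ)) fun r hr => ?_,
      Finset.sum_const, Finset.card_erase_of_mem hx, card_cls D ht hβ]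
    · norm_num
    · obtain ⟨hrx, hr⟩ := Finset.mem_erase.mp hr
      rw [hgram x r hrx.symm, if_neg (hcoc x r (hclsbig x hx) (by rw [cls_eq_of_mem hx]; exact hr))]
      norm_num
  have hvbig : ∀ x, Adj t o x → x ∉ cls t β → v x = -56 := fun x hx hxc => by
    have hxb := (adj_base_iff D ht).mp hx
    have h6 : (nbr t x ∩ cls t β).card = 6 := hsix x β hxb hβ fun h => hxc (by
      rw [cls_eq_of_mem h]; exact self_mem_cls x)
    rw [hv, vec, hgram x o (fun e => not_adj_self D ht o (e ▸ hx)), if_pos (adj_symm.mp hx), hcount x hxc, h6]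
    norm_num
  have hvfar : ∀ x, x ≠ o → ¬ Adj t o x → v x = 220 - 23 * ((nbr t x ∩ cls t β).card : ℤ) := fun x h1 h2 => by
    rw [hv, vec, hgram x o h1, if_neg (fun h => h2 (adj_symm.mp h)), hcount x fun h => h2 (hclsadj x h)]
    ring
  set F := (Finset.univ : Finset (Pts t)).filter fun x => x ≠ o ∧ ¬ Adj t o x with hF
  have hFmem : ∀ x, x ∈ F ↔ x ≠ o ∧ ¬ Adj t o x := fun x => by rw [hF, Finset.mem_filter, and_iff_right (Finset.mem_univ _)]
  have hnb : nbr t o ⊆ (Finset.univ : Finset (Pts t)).erase o := fun x hx =>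
    Finset.mem_erase.mpr ⟨fun e => not_adj_self D ht o (by have h := mem_nbr.mp hx; rwa [e] at h), Finset.mem_univ _⟩
  have hFeq : (Finset.univ : Finset (Pts t)).erase o \ nbr t o = F := by
    ext x
    rw [Finset.mem_sdiff, Finset.mem_erase, mem_nbr, hFmem, and_iff_left (Finset.mem_univ _)]
  have hsplit : ∀ f : Pts t → ℤ, ∑ x, f x = f o + ∑ x ∈ cls t β, f x + ∑ x ∈ nbr t o \ cls t β, f x + ∑ x ∈ F, f x := by
    intro f
    rw [← Finset.add_sum_erase _ _ (Finset.mem_univ o), ← Finset.sum_sdiff hnb, hFeq,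
      ← Finset.sum_sdiff (show cls t β ⊆ nbr t o from fun r hr => mem_nbr.mpr (hclsadj r hr))]
    ring
  have hFcard : F.card = 140 := by
    rw [← hFeq, Finset.card_sdiff_of_subset hnb, Finset.card_erase_of_mem (Finset.mem_univ _), Finset.card_univ,
      ← Nat.card_eq_fintype_card, card_points D ht, card_nbr D ht]
  have hinc : ∀ T : Finset (Pts t), ∑ x ∈ T, (nbr t x ∩ cls t β).card = ∑ r ∈ cls t β, (T.filter fun x => Adj t r x).card := by
    intro T
    have e : ∀ x, (nbr t x ∩ cls t β).card = ((cls t β).filter fun r => Adj t r x).card := fun x => by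
      congr 1; ext r; rw [Finset.mem_inter, Finset.mem_filter, mem_nbr, and_comm, adj_symm]
    simp only [e, Finset.card_filter]
    exact Finset.sum_comm
  have hsumA : ∑ x ∈ F, (nbr t x ∩ cls t β).card = 1200 := by
    rw [hinc, Finset.sum_congr rfl (g := fun _ => 75) fun r hr => ?_, Finset.sum_const, card_cls D ht hβ, smul_eq_mul]
    have : F.filter (fun x => Adj t r x) = (nbr t r).erase o \ com t o r := by
      ext x
      rw [Finset.mem_filter, hFmem, Finset.mem_sdiff, Finset.mem_erase, mem_nbr, mem_com]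
      tauto
    have hor : o ∈ nbr t r := mem_nbr.mpr (adj_symm.mp (hclsadj r hr))
    rw [this, Finset.card_sdiff_of_subset, Finset.card_erase_of_mem hor, card_nbr D ht, hadj o r (hclsadj r hr)]
    exact fun x hx => Finset.mem_erase.mpr ⟨fun e => not_adj_self D ht o (e ▸ (mem_com.mp hx).1), mem_nbr.mpr (mem_com.mp hx).2⟩
  have hsumF : ∑ x ∈ F, v x = 3200 := by
    rw [Finset.sum_congr rfl fun x hx => hvfar x ((hFmem x).mp hx).1 ((hFmem x).mp hx).2, Finset.sum_sub_distrib,
      Finset.sum_const, hFcard, ← Finset.mul_sum, ← Nat.cast_sum, hsumA]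
    norm_num
  have hQ : ∑ x, wgt t β x * v x = 2816 := by
    rw [Finset.sum_congr rfl fun x _ => mul_comm (wgt t β x) (v x), sum_mul_wgt β v, ← ho, hvo,
      Finset.sum_congr rfl hvu, Finset.sum_const, card_cls D ht hβ]
    norm_num
  have hsqF : ∑ x ∈ F, v x ^ 2 = 1233920 := by
    have h := sum_sq_image D ht (wgt t β)
    simp only [← vec_eq_sum, ← hv] at h
    rw [hQ, hsplit, hvo, Finset.sum_congr rfl (fun x hx => by rw [hvu x hx] : ∀ x ∈ cls t β, v x ^ 2 = (128 : ℤ) ^ 2),
      Finset.sum_congr rfl (fun x hx => by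
        rw [hvbig x (mem_nbr.mp (Finset.mem_sdiff.mp hx).1) (Finset.mem_sdiff.mp hx).2] :
        ∀ x ∈ nbr t o \ cls t β, v x ^ 2 = (-56 : ℤ) ^ 2),
      Finset.sum_const, Finset.sum_const, card_cls D ht hβ,
      Finset.card_sdiff_of_subset (fun r hr => mem_nbr.mpr (hclsadj r hr)), card_nbr D ht, card_cls D ht hβ] at h
    norm_num at h
    linarith
  have hOF : O ⊆ F := fun x hx => (hFmem x).mpr (hOfar x hx)
  -- the neighbours of β in O
  set k := (nbr t β ∩ cls t x₀).card with hk
  have hk1 : 1 ≤ k := Finset.card_pos.mpr ⟨x₀, Finset.mem_inter.mpr ⟨mem_nbr.mpr hx₀β, self_mem_cls x₀⟩⟩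
  have hk4 : k ≤ 4 := hclsS x₀ hx₀ ▸ Finset.card_le_card Finset.inter_subset_right
  have hkS : ∀ s ∈ S, (nbr t β ∩ cls t s).card = k := fun s hs => by
    obtain ⟨l, hl, rfl⟩ := hStrans x₀ hx₀ s hs
    refine (Finset.card_equiv (MulAction.toPerm l) fun x => ?_).symm
    rw [Finset.mem_inter, Finset.mem_inter, mem_nbr, mem_nbr, MulAction.toPerm_apply,
      adj_smul_fix (mem_stabilizer_iff.mp (mem_inf.mp hl).2), mem_cls_smul (mem_inf.mp hl).1]
  have hx₀O : x₀ ∈ O := (hmemO x₀).mpr ⟨x₀, hx₀, self_mem_cls x₀⟩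
  have ha0 : (nbr t x₀ ∩ cls t β).card = 4 * k := by
    have h1 := hinc O
    have e1 : ∀ x ∈ O, (nbr t x ∩ cls t β).card = (nbr t x₀ ∩ cls t β).card := fun x hx => by
      obtain ⟨h, hh, rfl⟩ := hOtrans x hx
      have := hvH h hh x₀
      rw [hvfar _ (hOfar _ hx).1 (hOfar _ hx).2, hvfar _ hx₀o hx₀n] at this
      omega
    have e2 : ∀ r ∈ cls t β, (O.filter fun x => Adj t r x).card = 15 * k := fun r hr => by
      obtain ⟨e, he, rfl⟩ := mem_cls.mp hr
      have e3 : (O.filter fun x => Adj t (e • β) x).card = (O.filter fun x => Adj t β x).card := by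
        refine Finset.card_equiv (MulAction.toPerm e⁻¹) fun x => ?_
        rw [Finset.mem_filter, Finset.mem_filter, MulAction.toPerm_apply, ← adj_smul e β, smul_inv_smul]
        refine and_congr_left fun _ => ⟨hOH _ (inv_mem (mem_sup_left he)) x, fun h => ?_⟩
        simpa using hOH _ (mem_sup_left he) _ h
      rw [e3, hO, Finset.filter_biUnion, Finset.card_biUnion, Finset.sum_congr rfl (g := fun _ => k) fun s hs => ?_,
        Finset.sum_const, hScard, smul_eq_mul]
      · rw [← hkS s hs]; congr 1; ext x; rw [Finset.mem_filter, Finset.mem_inter, mem_nbr, and_comm]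
      · intro s hs s' hs' hne
        refine Finset.disjoint_left.mpr fun x hx hx' => hne ?_
        exact hdisj s' hs' s hs (by
          rw [← cls_eq_of_mem (Finset.mem_filter.mp hx').1, cls_eq_of_mem (Finset.mem_filter.mp hx).1]
          exact self_mem_cls s)
    rw [Finset.sum_congr rfl e1, Finset.sum_congr rfl e2, Finset.sum_const, Finset.sum_const, hOcard,
      card_cls D ht hβ, smul_eq_mul, smul_eq_mul] at h1
    omega
  have hvO : ∀ x ∈ O, v x = 220 - 92 * (k : ℤ) := fun x hx => by
    obtain ⟨h, hh, rfl⟩ := hOtrans x hx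
    rw [hvH h hh, hvfar x₀ hx₀o hx₀n, ha0]
    push_cast; ring
  have hrc : (F \ O).card = 80 := by rw [Finset.card_sdiff_of_subset hOF, hFcard, hOcard]
  obtain ⟨x₁, hx₁⟩ := Finset.card_pos.mp (by rw [hrc]; norm_num : 0 < (F \ O).card)
  have hvR : ∀ x ∈ F \ O, v x = v x₁ := fun x hx => by
    obtain ⟨a1, a2⟩ := (hFmem x₁).mp (Finset.mem_sdiff.mp hx₁).1
    obtain ⟨b1, b2⟩ := (hFmem x).mp (Finset.mem_sdiff.mp hx).1
    obtain ⟨h, hh, rfl⟩ := hrest x₁ x a1 a2 (Finset.mem_sdiff.mp hx₁).2 b1 b2 (Finset.mem_sdiff.mp hx).2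
    exact hvH h hh x₁
  have hvals : k = 1 ∧ v x₁ = -56 := by
    have s1 := hsumF
    rw [← Finset.sum_sdiff hOF, Finset.sum_congr rfl hvR, Finset.sum_congr rfl hvO, Finset.sum_const,
      Finset.sum_const, hrc, hOcard, nsmul_eq_mul, nsmul_eq_mul] at s1
    have s2 := hsqF
    rw [← Finset.sum_sdiff hOF, Finset.sum_congr rfl (fun x hx => by rw [hvR x hx] : ∀ x ∈ F \ O, v x ^ 2 = v x₁ ^ 2),
      Finset.sum_congr rfl (fun x hx => by rw [hvO x hx] : ∀ x ∈ O, v x ^ 2 = (220 - 92 * (k : ℤ)) ^ 2),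
      Finset.sum_const, Finset.sum_const, hrc, hOcard, nsmul_eq_mul, nsmul_eq_mul] at s2
    push_cast at s1 s2
    have hz : v x₁ = 69 * (k : ℤ) - 125 := by linarith
    rw [hz] at s2
    interval_cases k <;> first | (norm_num at s2; done) | skip
    exact ⟨rfl, by omega⟩
  obtain ⟨hk', hz'⟩ := hvals
  set T := insert o (cls t β ∪ O) with hT
  have hTmem : ∀ x, v x = 128 ↔ x ∈ T := fun x => by
    rw [hT, Finset.mem_insert, Finset.mem_union]
    refine ⟨fun hx => ?_, fun hx => ?_⟩
    · by_contra hno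
      push Not at hno
      obtain ⟨h1, h2, h3⟩ := hno
      by_cases ha : Adj t o x
      · rw [hvbig x ha h2] at hx; norm_num at hx
      · rw [hvR x (Finset.mem_sdiff.mpr ⟨(hFmem x).mpr ⟨h1, ha⟩, h3⟩), hz'] at hx
        norm_num at hx
    · rcases hx with rfl | hx | hx
      · exact hvo
      · exact hvu x hx
      · rw [hvO x hx, hk']; norm_num
  -- the stabiliser of the vector
  let K : Subgroup G :=
    { carrier := {a | ∀ x, v (a • x) = v x}
      one_mem' := fun x => by rw [one_smul]
      mul_mem' := fun {a b} ha hb x => by rw [mul_smul, ha, hb]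
      inv_mem' := fun {a} ha x => by rw [← ha (a⁻¹ • x), smul_inv_smul] }
  have hKmem : ∀ a, a ∈ K ↔ ∀ x, v (a • x) = v x := fun a => Iff.rfl
  have hKN : K ⊓ stabilizer G o = H := by
    refine le_antisymm ?_ fun h hh => mem_inf.mpr ⟨(hKmem h).mpr (hvH h hh), by rw [stabilizer_base]; exact clsStab_le hh⟩
    intro a ha
    obtain ⟨haK, hao⟩ := mem_inf.mp ha
    rw [stabilizer_base] at hao
    have h128 : v (a • β) = 128 := by rw [haK β]; exact hvu β (self_mem_cls β)
    have hbig : Adj t o (a • β) := (adj_smul_fix (smul_base_eq_iff.mpr hao)).mpr hoβ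
    have hmem : a • β ∈ cls t β := by
      by_contra hnc
      rw [hvbig _ hbig hnc] at h128
      norm_num at h128
    obtain ⟨e, he, hee⟩ := mem_cls.mp hmem
    have : e⁻¹ * a ∈ L := mem_inf.mpr ⟨mul_mem (inv_mem (core_le_coreNorm t he)) hao, by
      rw [mem_stabilizer_iff, mul_smul, ← hee, inv_smul_smul]⟩
    simpa using mul_mem (mem_sup_left he : e ∈ H) (mem_sup_right this : e⁻¹ * a ∈ H)
  -- an element of it moving the base point
  obtain ⟨n, hn, hnβ⟩ := trans_big D ht hβ hqb
  have hgn : g * n ∈ K := fun x => by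
    show v ((g * n) • x) = vec t β x
    rw [mul_smul, ← vec_smul hn β x]
    show v (g • (n • x)) = vec t (n • β) (n • x)
    rw [hnβ]
    generalize n • x = y
    -- the two weights have the same image
    let w' : Pts t → ℤ := fun r => wgt t q (g⁻¹ • r)
    have hw' : ∀ z, ∑ r, gram t z r * w' r = vec t q (g⁻¹ • z) := fun z => by
      rw [vec_eq_sum]
      refine (Fintype.sum_equiv (MulAction.toPerm g) _ _ fun r => ?_).symm
      simp only [MulAction.toPerm_apply, w', inv_smul_smul]
      conv_rhs => rw [← smul_inv_smul g z, gram_smul]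
    have hsumw' : ∀ f : Pts t → ℤ, ∑ r, f r * w' r = 6 * f β + f o + ∑ r ∈ S, f r := fun f => by
      rw [← Fintype.sum_equiv (MulAction.toPerm g) (fun r => f (g • r) * wgt t q r) _ fun r => ?_]
      · rw [sum_mul_wgt q (fun r => f (g • r)), hg, add_assoc]
        congr 1
        have hom : o ∈ (cls t q).map (MulAction.toPerm g).toEmbedding := by
          rw [Finset.mem_map_equiv, MulAction.toPerm_symm_apply]; exact self_mem_cls q
        rw [hS, Finset.add_sum_erase _ _ hom, Finset.sum_map]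
        rfl
      · simp [w']
    have hww' : ∑ r, v r * w' r = 2816 := by
      rw [hsumw', hvu β (self_mem_cls β), hvo, Finset.sum_congr rfl fun r hr => hvO r ((hmemO r).mpr ⟨r, hr, self_mem_cls r⟩),
        Finset.sum_const, hScard, hk']
      norm_num
    have hw'w' : ∑ r, w' r * vec t q (g⁻¹ • r) = 2816 := by
      rw [← hQ, hv]
      rw [Fintype.sum_equiv (MulAction.toPerm g⁻¹) _ (fun r => wgt t q r * vec t q r) fun r => by simp [w']]
      rw [← hnβ, Fintype.sum_equiv (MulAction.toPerm n⁻¹) _ (fun r => wgt t β r * vec t β r) fun r => ?_]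
      rw [MulAction.toPerm_apply]
      congr 1
      · unfold wgt
        have hb : n⁻¹ • r = base t ↔ r = base t := by rw [inv_smul_eq_iff, smul_base_eq_iff.mpr hn]
        simp only [hb]
        congr 1
        refine if_congr ?_ rfl rfl
        rw [← mem_cls_smul hn (x := n⁻¹ • r), smul_inv_smul]
      · rw [← vec_smul hn β (n⁻¹ • r), smul_inv_smul]
    have hzero : ∑ z, (v z - vec t q (g⁻¹ • z)) ^ 2 = 0 := by
      have h := sum_sq_image D ht (fun r => wgt t β r - w' r)
      have e : ∀ z, ∑ r, gram t z r * (wgt t β r - w' r) = v z - vec t q (g⁻¹ • z) := fun z => by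
        simp only [mul_sub, Finset.sum_sub_distrib, ← vec_eq_sum, ← hv, hw']
      simp only [e] at h
      rw [h]
      have e2 : ∀ z, (wgt t β z - w' z) * (v z - vec t q (g⁻¹ • z)) =
          wgt t β z * v z - v z * w' z - wgt t β z * vec t q (g⁻¹ • z) + w' z * vec t q (g⁻¹ • z) := fun z => by ring
      simp only [e2, Finset.sum_add_distrib, Finset.sum_sub_distrib, hQ, hww', hw'w']
      have hsym : ∑ z, wgt t β z * vec t q (g⁻¹ • z) = ∑ r, v r * w' r := by
        simp only [← hw', hv, vec_eq_sum β, Finset.mul_sum, Finset.sum_mul]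
        rw [Finset.sum_comm]
        exact Finset.sum_congr rfl fun z _ => Finset.sum_congr rfl fun r _ => by rw [gram_comm z r]; ring
      rw [hsym, hww']
      norm_num
    have := (Finset.sum_eq_zero_iff_of_nonneg fun z _ => sq_nonneg _).mp hzero (g • y) (Finset.mem_univ _)
    rw [sq_eq_zero_iff, sub_eq_zero, inv_smul_smul] at this
    exact this
  -- the orbit of the base point
  set Ω := orbit K o with hΩ
  have hΩT : Ω ⊆ (T : Set (Pts t)) := by
    rintro x ⟨a, rfl⟩
    exact (hTmem _).mp ((a.2 o).trans hvo)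
  have hHΩ : ∀ h ∈ H, ∀ x ∈ Ω, h • x ∈ Ω := fun h hh x ⟨a, ha⟩ =>
    ⟨⟨h, hvH h hh⟩ * a, by
      show (h * (a : G)) • o = h • x
      rw [mul_smul, ← ha]; rfl⟩
  have hβΩ : β ∈ Ω := ⟨⟨g * n, hgn⟩, by
    show (g * n) • o = β
    rw [mul_smul, smul_base_eq_iff.mpr hn, hg]⟩
  have hclsΩ : (↑(insert o (cls t β)) : Set (Pts t)) ⊆ Ω := by
    intro x hx
    rw [Finset.coe_insert, Set.mem_insert_iff] at hx
    rcases hx with rfl | hx
    · exact mem_orbit_self _
    · obtain ⟨e, he, rfl⟩ := mem_cls.mp hx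
      exact hHΩ e (mem_sup_left he) β hβΩ
  have hK : Nat.card Ω * 5760 = Nat.card K := by
    have h := (stabilizer K o).card_eq_card_quotient_mul_card_subgroup
    rw [← Nat.card_congr (orbitEquivQuotientStabilizer K o)] at h
    rw [h, ← card_clsStab D ht hβ]
    refine congrArg₂ _ rfl ?_
    rw [← hH, ← hKN]
    exact Nat.card_congr
      { toFun := fun a => ⟨⟨a.1, (mem_inf.mp a.2).1⟩, (mem_inf.mp a.2).2⟩
        invFun := fun a => ⟨a.1.1, mem_inf.mpr ⟨a.1.2, a.2⟩⟩
        left_inv := fun a => rfl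
        right_inv := fun a => rfl }
  refine ⟨β, K, hβ, ?_, hKN, fun p hp => ⟨fun hpΩ => ?_, fun ⟨e, he, hep⟩ => ?_⟩⟩
  rotate_left
  · by_contra hnc
    have h128 := (hTmem p).mpr (hΩT hpΩ)
    rw [hvbig p hp fun h => hnc (mem_cls.mp h)] at h128
    norm_num at h128
  · exact hclsΩ (by rw [Finset.mem_coe]; exact Finset.mem_insert_of_mem (mem_cls.mpr ⟨e, he, hep⟩))
  have hdisj2 : Disjoint (cls t β) O := Finset.disjoint_left.mpr fun x hx hx' => (hOfar x hx').2 (hclsadj x hx)
  have hcard17 : (insert o (cls t β)).card = 17 := by rw [Finset.card_insert_of_notMem hclso, card_cls D ht hβ]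
  by_cases hex : ∃ x ∈ O, x ∈ Ω
  · obtain ⟨x, hxO, hxΩ⟩ := hex
    obtain ⟨h, hh, rfl⟩ := hOtrans x hxO
    have hx₀Ω : x₀ ∈ Ω := by simpa using hHΩ _ (inv_mem hh) _ hxΩ
    have hall : Ω = (T : Set (Pts t)) := by
      refine Set.Subset.antisymm hΩT fun y hy => ?_
      rw [hT, Finset.mem_coe, Finset.mem_insert, Finset.mem_union] at hy
      rcases hy with rfl | hy | hy
      · exact mem_orbit_self _
      · exact hclsΩ (by rw [Finset.mem_coe]; exact Finset.mem_insert_of_mem hy)
      · obtain ⟨h', hh', rfl⟩ := hOtrans y hy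
        exact hHΩ h' hh' x₀ hx₀Ω
    have hT77 : T.card = 77 := by
      rw [hT, Finset.card_insert_of_notMem, Finset.card_union_of_disjoint hdisj2, card_cls D ht hβ, hOcard]
      rw [Finset.mem_union]
      exact fun h => h.elim hclso fun h => (hOfar o h).1 rfl
    rw [← hK, Nat.card_coe_set_eq, hall, Set.ncard_coe_finset, hT77]
  · exfalso
    push Not at hex
    have hall : Ω = (↑(insert o (cls t β)) : Set (Pts t)) := by
      refine Set.Subset.antisymm (fun y hy => ?_) hclsΩ
      have hy' := hΩT hy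
      rw [hT, Finset.mem_coe, Finset.mem_insert, Finset.mem_union] at hy'
      rw [Finset.mem_coe, Finset.mem_insert]
      rcases hy' with h | h | h
      · exact Or.inl h
      · exact Or.inr h
      · exact absurd hy (hex y h)
    have hd : Nat.card K ∣ 10200960 := D.card ▸ card_subgroup_dvd_card K
    rw [← hK, Nat.card_coe_set_eq, hall, Set.ncard_coe_finset, hcard17] at hd
    norm_num at hd

end Cfsg.Agent.Order10200960
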