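/-
The Steiner system S(4, 7, 23) on the cosets of the subgroup of index 23, and the isomorphism with
`Cfsg.Spor.M23`, for a group with the local data of `M₂₃`.

Main results (namespace `Cfsg.Agent.Order10200960`): `steiner_blocks`, `blocks_kernel`, `iso_m23`.
-/
import Cfsg.Agent.Lib.Order10200960.GeomVec
import Cfsg.Agent.Lib.Golay.DesignAut

set_option autoImplicit false
set_option maxHeartbeats 1000000

open Subgroup MulAction Cfsg Cfsg.Agent

namespace Cfsg.Agent.Order10200960

open SmallOrders

variable {G : Type*} [Group G]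

/-- The block of a point: the cosets whose orbit contains it. -/
noncomputable def block (t : G) (K : Subgroup G) [Fintype (G ⧸ K)] (p : Pts t) : Finset (G ⧸ K) := by
  classical exact Finset.univ.filter fun x => ∃ g : G, (g : G ⧸ K) = x ∧ g⁻¹ • p ∈ orbit K (base t)

theorem mem_block {t : G} {K : Subgroup G} [Fintype (G ⧸ K)] {p : Pts t} {g : G} :
    (g : G ⧸ K) ∈ block t K p ↔ g⁻¹ • p ∈ orbit K (base t) := by
  simp only [block, Finset.mem_filter, Finset.mem_univ, true_and]
  refine ⟨fun ⟨g', hg', hp⟩ => ?_, fun h => ⟨g, rfl, h⟩⟩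
  obtain ⟨k, hk⟩ := hp
  have hm := QuotientGroup.eq.mp hg'
  refine ⟨⟨(g'⁻¹ * g)⁻¹, inv_mem hm⟩ * k, ?_⟩
  show ((g'⁻¹ * g)⁻¹ * (k : G)) • base t = g⁻¹ • p
  rw [mul_smul, show (k : G) • base t = g'⁻¹ • p from hk, ← mul_smul]
  congr 1
  group

theorem block_smul {t : G} {K : Subgroup G} [Fintype (G ⧸ K)] [DecidableEq (G ⧸ K)] (a : G) (p : Pts t) :
    block t K (a • p) = (block t K p).image fun x => a • x := by
  ext x
  obtain ⟨g, rfl⟩ := QuotientGroup.mk_surjective x
  rw [mem_block, Finset.mem_image]
  constructor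
  · intro h
    refine ⟨((a⁻¹ * g : G) : G ⧸ K), mem_block.mpr ?_, ?_⟩
    · rwa [mul_inv_rev, inv_inv, mul_smul]
    · show ((a * (a⁻¹ * g) : G) : G ⧸ K) = g
      rw [mul_inv_cancel_left]
  · rintro ⟨y, hy, he⟩
    obtain ⟨g', rfl⟩ := QuotientGroup.mk_surjective y
    have he' : ((a * g' : G) : G ⧸ K) = g := he
    have hy' := mem_block.mp hy
    rw [← mem_block (g := g), ← he', mem_block, mul_inv_rev, mul_smul, inv_smul_smul]
    exact hy'

variable [Finite G] (D : LocalData G)
include D

/-- What is needed about the subgroup of index 23. -/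
theorem exists_heptads {t : G} (ht : orderOf t = 2) : ∃ K : Subgroup G, Nat.card (G ⧸ K) = 23 ∧
    ∀ [Fintype (G ⧸ K)], (∀ p, (block t K p).card = 7) ∧
      ∀ p q, p ≠ q → ∀ [DecidableEq (G ⧸ K)], (block t K p ∩ block t K q).card ≤ 3 := by
  classical
  have := Fintype.ofFinite (Pts t)
  obtain ⟨β, K, hβ, hKc, hKN, hbig⟩ := exists_index_twentythree D ht
  refine ⟨K, ?_, fun {_} => ?_⟩
  · have := K.card_eq_card_quotient_mul_card_subgroup
    rw [D.card, hKc] at this
    omega
  set N := coreNorm t with hN
  set o := base t with ho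
  set H := clsStab t β with hH
  set Ω := orbit K o with hΩ
  -- the orbit of the base point
  have hΩ77 : Nat.card Ω = 77 := by
    have h := (stabilizer K o).card_eq_card_quotient_mul_card_subgroup
    rw [← Nat.card_congr (orbitEquivQuotientStabilizer K o), hKc] at h
    have he : Nat.card (stabilizer K o) = 5760 := by
      rw [← card_clsStab D ht hβ, show clsStab t β = K ⊓ stabilizer G o from hKN.symm]
      exact Nat.card_congr
        { toFun := fun a => ⟨a.1.1, mem_inf.mpr ⟨a.1.2, a.2⟩⟩
          invFun := fun a => ⟨⟨a.1, (mem_inf.mp a.2).1⟩, (mem_inf.mp a.2).2⟩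
          left_inv := fun a => rfl
          right_inv := fun a => rfl }
    rw [he] at h
    have : Nat.card (orbit K o) * 5760 = 443520 := h.symm
    show Nat.card (orbit K o) = 77
    omega
  set B₀ := block t K o with hB₀
  have hB₀mem : ∀ x, x ∈ B₀ ↔ ∃ n ∈ N, (n : G ⧸ K) = x := by
    intro x
    obtain ⟨g, rfl⟩ := QuotientGroup.mk_surjective x
    rw [hB₀, mem_block]
    constructor
    · rintro ⟨k, hk⟩
      refine ⟨g * k, ?_, QuotientGroup.eq.mpr (by simp)⟩
      rw [← smul_base_eq_iff, mul_smul, show (k : G) • o = g⁻¹ • o from hk, smul_inv_smul]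
    · rintro ⟨n, hn, he⟩
      rw [← mem_block, ← he, mem_block, smul_base_eq_iff.mpr (inv_mem hn)]
      exact mem_orbit_self _
  have hKN' : K ⊓ N = H := by rw [← hKN, stabilizer_base]
  have hB₀card : B₀.card = 7 := by
    have e : (K.subgroupOf N).index = 7 := by
      have h := (K.subgroupOf N).card_mul_index
      rw [← inf_subgroupOf_right, hKN', Cores.card_subgroupOf clsStab_le, card_clsStab D ht hβ,
        card_normalizer_core D ht] at h
      rw [← inf_subgroupOf_right, hKN']
      omega
    rw [← e, Subgroup.index, ← Fintype.card_coe, ← Nat.card_eq_fintype_card]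
    refine (Nat.card_congr (Equiv.ofBijective (Quotient.lift
      (fun n : N => (⟨((n : G) : G ⧸ K), (hB₀mem _).mpr ⟨n, n.2, rfl⟩⟩ : ↥B₀)) ?_) ⟨?_, ?_⟩)).symm
    · intro a b h
      have h' := QuotientGroup.leftRel_apply.mp h
      rw [mem_subgroupOf] at h'
      exact Subtype.ext (QuotientGroup.eq.mpr (by simpa using h'))
    · intro a b
      induction a using Quotient.inductionOn with | h a => ?_
      induction b using Quotient.inductionOn with | h b => ?_
      intro h
      refine Quotient.sound (QuotientGroup.leftRel_apply.mpr ?_)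
      rw [mem_subgroupOf]
      simpa using QuotientGroup.eq.mp (congrArg Subtype.val h)
    · rintro ⟨x, hx⟩
      obtain ⟨n, hn, rfl⟩ := (hB₀mem x).mp hx
      exact ⟨Quotient.mk'' ⟨n, hn⟩, rfl⟩
  have hcard : ∀ p, (block t K p).card = 7 := fun p => by
    obtain ⟨g, rfl⟩ := exists_rep p
    rw [block_smul, Finset.card_image_of_injective _ (MulAction.injective g), hB₀card]
  refine ⟨hcard, fun p q hpq {_} => ?_⟩
  -- membership of a point in a translate of the orbit
  have hfix : ∀ n : G, n ∈ N → ∀ γ, ((B₀ ∩ block t K (n • γ)).card = (B₀ ∩ block t K γ).card) := by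
    intro n hn γ
    have hB : B₀.image (fun x => n • x) = B₀ := by
      rw [hB₀, ← block_smul, smul_base_eq_iff.mpr hn]
    rw [block_smul]
    conv_lhs => rw [← hB]
    rw [← Finset.image_inter _ _ (MulAction.injective n), Finset.card_image_of_injective _ (MulAction.injective n)]
  have hmain : ∀ γ, γ ≠ o → (B₀ ∩ block t K γ).card ≤ 3 := by
    intro γ hγ
    by_cases hadj : Adj t o γ
    · -- one common coset
      refine (show (B₀ ∩ block t K γ).card ≤ 1 from Finset.card_le_one.mpr fun x hx y hy => ?_).trans (by norm_num)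
      obtain ⟨n, hn, rfl⟩ := (hB₀mem x).mp (Finset.mem_inter.mp hx).1
      obtain ⟨m, hm, rfl⟩ := (hB₀mem y).mp (Finset.mem_inter.mp hy).1
      have key : ∀ n ∈ N, ((n : G) : G ⧸ K) ∈ block t K γ → ∃ e ∈ core t, e • β = n⁻¹ • γ := fun n hn h =>
        (hbig _ ((adj_smul_fix (smul_base_eq_iff.mpr (inv_mem hn))).mpr hadj)).mp (mem_block.mp h)
      obtain ⟨e, he, hee⟩ := key n hn (Finset.mem_inter.mp hx).2
      obtain ⟨f, hf, hff⟩ := key m hm (Finset.mem_inter.mp hy).2
      refine QuotientGroup.eq.mpr ?_
      have hmem : f⁻¹ * (m⁻¹ * n) * e ∈ pairStab t β := mem_inf.mpr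
        ⟨mul_mem (mul_mem (inv_mem (core_le_coreNorm t hf)) (mul_mem (inv_mem hm) hn)) (core_le_coreNorm t he), by
          rw [mem_stabilizer_iff, mul_smul, mul_smul, mul_smul, hee, smul_inv_smul, ← hff, inv_smul_smul]⟩
      have hH' : m⁻¹ * n ∈ H := by
        have := mul_mem (mul_mem (mem_sup_left hf : f ∈ H) (mem_sup_right hmem))
          (inv_mem (mem_sup_left he : e ∈ H))
        simpa [mul_assoc] using this
      have hK' : m⁻¹ * n ∈ K := (mem_inf.mp (hKN'.ge hH')).1
      simpa using inv_mem hK'
    · -- three common cosets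
      set F := (Finset.univ : Finset (Pts t)).filter fun x => x ≠ o ∧ ¬ Adj t o x with hF
      have hFmem : ∀ x, x ∈ F ↔ x ≠ o ∧ ¬ Adj t o x := fun x => by
        rw [hF, Finset.mem_filter, and_iff_right (Finset.mem_univ _)]
      have hnb : nbr t o ⊆ (Finset.univ : Finset (Pts t)).erase o := fun x hx =>
        Finset.mem_erase.mpr ⟨fun e => not_adj_self D ht o (by have h := mem_nbr.mp hx; rwa [e] at h), Finset.mem_univ _⟩
      have hFcard : F.card = 140 := by
        have : (Finset.univ : Finset (Pts t)).erase o \ nbr t o = F := by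
          ext x
          rw [Finset.mem_sdiff, Finset.mem_erase, mem_nbr, hFmem, and_iff_left (Finset.mem_univ _)]
        rw [← this, Finset.card_sdiff_of_subset hnb, Finset.card_erase_of_mem (Finset.mem_univ _), Finset.card_univ,
          ← Nat.card_eq_fintype_card, card_points D ht, card_nbr D ht]
      have hFΩ : (F.filter fun x => x ∈ Ω).card = 60 := by
        have hsplit : (Finset.univ.filter fun x => x ∈ Ω) = insert o (cls t β ∪ F.filter fun x => x ∈ Ω) := by
          ext x
          rw [Finset.mem_filter, Finset.mem_insert, Finset.mem_union, Finset.mem_filter, hFmem, mem_cls,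
            and_iff_right (Finset.mem_univ _)]
          refine ⟨fun hx => ?_, fun hx => ?_⟩
          · by_cases h1 : x = o
            · exact Or.inl h1
            by_cases h2 : Adj t o x
            · exact Or.inr (Or.inl ((hbig x h2).mp hx))
            · exact Or.inr (Or.inr ⟨⟨h1, h2⟩, hx⟩)
          · rcases hx with rfl | hx | hx
            · exact mem_orbit_self _
            · obtain ⟨e, he, rfl⟩ := hx
              exact (hbig _ ((adj_base_iff D ht).mpr (inBig_smul D ht (core_le_coreNorm t he) hβ))).mpr ⟨e, he, rfl⟩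
            · exact hx.2
        have h77 : (Finset.univ.filter fun x => x ∈ Ω).card = 77 := by
          rw [← hΩ77, ← Fintype.card_subtype, ← Nat.card_eq_fintype_card]
        have hclsadj : ∀ r ∈ cls t β, Adj t o r := fun r hr => (adj_base_iff D ht).mpr (inBig_cls D ht hβ hr)
        rw [hsplit, Finset.card_insert_of_notMem, Finset.card_union_of_disjoint, card_cls D ht hβ] at h77
        · omega
        · exact Finset.disjoint_left.mpr fun x hx hx' =>
            ((hFmem x).mp (Finset.mem_filter.mp hx').1).2 (hclsadj x hx)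
        · rw [Finset.mem_union]
          rintro (h | h)
          · exact not_adj_self D ht o (hclsadj o h)
          · exact ((hFmem o).mp (Finset.mem_filter.mp h).1).1 rfl
      have hconst : ∀ x ∈ F, (B₀ ∩ block t K x).card = (B₀ ∩ block t K γ).card := fun x hx => by
        obtain ⟨h1, h2⟩ := (hFmem x).mp hx
        obtain ⟨n, hn, rfl⟩ := trans_far D ht hγ h1 hadj h2
        exact hfix n hn γ
      have hper : ∀ c ∈ B₀, (F.filter fun x => c ∈ block t K x).card = 60 := by
        intro c hc
        obtain ⟨n, hn, rfl⟩ := (hB₀mem c).mp hc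
        rw [← hFΩ]
        refine Finset.card_equiv (MulAction.toPerm n⁻¹) fun x => ?_
        have hno : n⁻¹ • o = o := smul_base_eq_iff.mpr (inv_mem hn)
        simp only [Finset.mem_filter (s := F), hFmem, MulAction.toPerm_apply, mem_block, adj_smul_fix hno]
        refine and_congr (and_congr_left fun _ => not_congr ?_) Iff.rfl
        conv_rhs => rw [← hno, smul_left_cancel_iff]
      have h1 : ∑ x ∈ F, (B₀ ∩ block t K x).card = 7 * 60 := by
        have e : ∀ x ∈ F, (B₀ ∩ block t K x).card = (B₀.filter fun c => c ∈ block t K x).card := fun x _ => by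
          congr 1
        rw [Finset.sum_congr rfl e]
        simp only [Finset.card_filter]
        rw [Finset.sum_comm, Finset.sum_congr rfl (g := fun _ => 60) fun c hc => ?_, Finset.sum_const, hB₀card, smul_eq_mul]
        rw [← Finset.card_filter]
        exact hper c hc
      rw [Finset.sum_congr rfl hconst, Finset.sum_const, hFcard, smul_eq_mul] at h1
      omega
  obtain ⟨g, rfl⟩ := exists_rep p
  have hne : g⁻¹ • q ≠ o := fun e => hpq (by rw [show base t = g⁻¹ • q from e.symm, smul_inv_smul])
  rw [← smul_inv_smul g q, block_smul, block_smul, ← Finset.image_inter _ _ (MulAction.injective g),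
    Finset.card_image_of_injective _ (MulAction.injective g)]
  convert hmain _ hne

/-- A normal subgroup fixing every point is trivial. -/
theorem points_kernel {t : G} (ht : orderOf t = 2) {K : Subgroup G} [K.Normal]
    (hK : ∀ k ∈ K, ∀ p : Pts t, k • p = p) : K = ⊥ := by
  have : Fact (Nat.Prime 5) := ⟨by norm_num⟩
  obtain ⟨β, -, hβne, -, hβc, hβF, -, -, -⟩ := orbit_split D ht
  have hβ : InBig t β := ⟨hβne, hβc, hβF⟩
  have hKN : K ≤ coreNorm t := fun k hk => smul_base_eq_iff.mp (hK k hk (base t))
  refine normal_trivial D ht hβ (fun k hk => mem_inf.mpr ⟨hKN hk, mem_stabilizer_iff.mpr (hK k hk β)⟩)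
    (le_top.trans (normalizer_eq_top_iff.mpr inferInstance).ge) fun h5 => ?_
  obtain ⟨b, hb⟩ := exists_prime_orderOf_dvd_card' (G := K) 5 h5
  have h := card_fixed_five D ht (by rw [orderOf_coe, hb]) (hKN b.2)
  rw [Nat.card_congr (Equiv.subtypeUnivEquiv (p := fun q : Pts t => (b : G) • q = q) (hK b b.2)),
    card_points D ht] at h
  omega

/-- A group with the local data of `M₂₃` is isomorphic to it. -/
theorem iso_m23 : Nonempty (G ≃* ↥Cfsg.Spor.M23) := by
  classical
  have : Fact (Nat.Prime 2) := ⟨by norm_num⟩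
  obtain ⟨t, ht⟩ := exists_prime_orderOf_dvd_card' (G := G) 2 (by rw [D.card]; norm_num)
  have := Fintype.ofFinite (Pts t)
  obtain ⟨K, h23, hK⟩ := exists_heptads D ht
  have := Fintype.ofFinite (G ⧸ K)
  obtain ⟨h7, hint⟩ := hK
  have hα : Fintype.card (G ⧸ K) = 23 := by rw [← Nat.card_eq_fintype_card, h23]
  set B : Set (Finset (G ⧸ K)) := Set.range (block t K) with hB
  have hinj : Function.Injective (block t K) := fun p q h => by
    by_contra hne
    have h3 := hint p q hne
    rw [h, Finset.inter_self, h7] at h3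
    omega
  -- every four cosets lie in exactly one block
  have hst : IsSteinerSystem 4 7 B := by
    refine ⟨?_, fun s hs => ?_⟩
    · rintro b ⟨p, rfl⟩
      exact h7 p
    have huniq : ∀ p q : Pts t, ∀ u : Finset (G ⧸ K), u.card = 4 → u ⊆ block t K p → u ⊆ block t K q → p = q := by
      intro p q u hu hp hq
      by_contra hne
      have h := Finset.card_le_card (Finset.subset_inter hp hq)
      have h3 := hint p q hne
      omega
    set S := (Finset.univ : Finset (Pts t)).biUnion fun p => (block t K p).powersetCard 4 with hS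
    have hcardS : S.card = 8855 := by
      rw [hS, Finset.card_biUnion fun p _ q _ hpq => Finset.disjoint_left.mpr fun u hu hu' => hpq ?_,
        Finset.sum_congr rfl (g := fun _ => 35) fun p _ => ?_, Finset.sum_const, Finset.card_univ,
        ← Nat.card_eq_fintype_card, card_points D ht, smul_eq_mul]
      · rw [Finset.card_powersetCard, h7]; rfl
      · exact huniq p q u (Finset.mem_powersetCard.mp hu).2 (Finset.mem_powersetCard.mp hu).1
          (Finset.mem_powersetCard.mp hu').1
    have hall : S = (Finset.univ : Finset (G ⧸ K)).powersetCard 4 := by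
      refine Finset.eq_of_subset_of_card_le (fun u hu => ?_) ?_
      · obtain ⟨p, -, hu⟩ := Finset.mem_biUnion.mp hu
        exact Finset.mem_powersetCard.mpr ⟨Finset.subset_univ _, (Finset.mem_powersetCard.mp hu).2⟩
      · rw [hcardS, Finset.card_powersetCard, Finset.card_univ, hα]
        rfl
    have hsS : s ∈ S := by rw [hall]; exact Finset.mem_powersetCard.mpr ⟨Finset.subset_univ _, hs⟩
    obtain ⟨p, -, hp⟩ := Finset.mem_biUnion.mp hsS
    refine ⟨block t K p, ⟨⟨p, rfl⟩, (Finset.mem_powersetCard.mp hp).1⟩, ?_⟩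
    rintro b ⟨⟨q, rfl⟩, hq⟩
    rw [huniq p q s hs (Finset.mem_powersetCard.mp hp).1 hq]
  -- the action
  have hmem : ∀ g : G, MulAction.toPermHom G (G ⧸ K) g ∈ setSystemAut B := fun g => by
    refine Cfsg.Agent.Golay.mem_setSystemAut_iff.mpr fun b hb => ?_
    obtain ⟨p, rfl⟩ := hb
    exact ⟨g • p, block_smul g p⟩
  let φ : G →* setSystemAut B := (MulAction.toPermHom G (G ⧸ K)).codRestrict _ hmem
  have hφ : Function.Injective φ := by
    rw [← MonoidHom.ker_eq_bot_iff]
    refine points_kernel D ht fun k hk p => hinj ?_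
    have h1 : ∀ x : G ⧸ K, k • x = x := fun x =>
      DFunLike.congr_fun (congrArg Subtype.val (MonoidHom.mem_ker.mp hk)) x
    rw [block_smul, show (fun x : G ⧸ K => k • x) = id from funext h1, Finset.image_id]
  obtain ⟨f, ψ, -⟩ := Golay.aut23_equiv hα hst
  set a := f none with ha
  have hc : Nat.card ↥(M24 ⊓ stabilizer (Equiv.Perm GolayPt) a) = 10200960 := Golay.natCard_m23 a
  let χ : G →* ↥(M24 ⊓ stabilizer (Equiv.Perm GolayPt) a) := ψ.toMonoidHom.comp φ
  have hχ : Function.Bijective χ :=
    (Nat.bijective_iff_injective_and_card χ).mpr ⟨ψ.injective.comp hφ, by rw [D.card, hc]⟩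
  -- move the point
  obtain ⟨g, hg, hga⟩ := Golay.exists_map_one a (none : GolayPt)
  have hmap : (M24 ⊓ stabilizer (Equiv.Perm GolayPt) a).map (MulAut.conj g).toMonoidHom = Cfsg.Spor.M23 := by
    rw [Cfsg.Spor.M23, map_inf _ _ _ (MulEquiv.injective _)]
    refine congrArg₂ _ ?_ ?_
    · ext y
      rw [mem_map_equiv, MulAut.conj_symm_apply]
      refine ⟨fun h => ?_, fun h => mul_mem (mul_mem (inv_mem hg) h) hg⟩
      have := mul_mem (mul_mem hg h) (inv_mem hg)
      simpa [mul_assoc] using this
    · rw [← stabilizer_smul_eq_stabilizer_map_conj, Equiv.Perm.smul_def, hga]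
  exact ⟨(MulEquiv.ofBijective χ hχ).trans
    (((M24 ⊓ stabilizer (Equiv.Perm GolayPt) a).equivMapOfInjective _ (MulEquiv.injective (MulAut.conj g))).trans
      (MulEquiv.subgroupCongr hmap))⟩

end Cfsg.Agent.Order10200960
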