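/-
The local data from the order 10200960 and the set of the numbers of elements of one order.

Main results (namespace `Cfsg.Agent.Order10200960`): `localData_of_nse`.
-/
import Cfsg.Agent.Lib.Order10200960.Counts
import Cfsg.Agent.Lib.Order10200960.Data
import Mathlib.GroupTheory.SpecificGroups.Cyclic

set_option autoImplicit false

open Subgroup Cfsg Cfsg.Agent.SameOrder Cfsg.Agent.SmallOrders

namespace Cfsg.Agent.Order10200960

variable {G : Type*} [Group G] [Finite G]

/-- The hypothesis on the values, in terms of the list. -/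
def NseHyp (G : Type*) [Group G] : Prop :=
  (∀ m, numOrder G m = 0 ∨ numOrder G m ∈ valueList) ∧ ∀ v ∈ valueList, ∃ m, numOrder G m = v

theorem nseHyp_of_eq
    (hnse : {c : ℕ | 0 < c ∧ ∃ n : ℕ, c = Nat.card {g : G // orderOf g = n}} =
      {c : ℕ | 0 < c ∧ ∃ n : ℕ, c = Nat.card {g : ↥Spor.M23 // orderOf g = n}}) : NseHyp G := by
  rw [values_m23] at hnse
  refine ⟨fun m => ?_, fun v hv => ?_⟩
  · rcases Nat.eq_zero_or_pos (numOrder G m) with h | h
    · exact Or.inl h
    · exact Or.inr ((Set.ext_iff.mp hnse _).mp ⟨h, m, rfl⟩)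
  · obtain ⟨-, n, hn⟩ := (Set.ext_iff.mp hnse v).mpr hv
    exact ⟨n, hn.symm⟩

/-- The value at a prime is forced. -/
def forced : List (ℕ × ℕ) :=
  [(2, 3795), (3, 56672), (5, 680064), (7, 1457280), (11, 1854720), (23, 887040)]

theorem forced_check : forced.all (fun e => valueList.all fun v =>
    v == e.2 || v % (e.1 - 1) != 0 || (v + 1) % e.1 != 0 || v == 1) = true := by decide +kernel

variable (hn : Nat.card G = 10200960) (H : NseHyp G)
include hn H

theorem numOrder_forced {p v : ℕ} (hp : p.Prime) (he : (p, v) ∈ forced) : numOrder G p = v := by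
  have hd : p ∣ Nat.card G := by
    rw [hn]
    simp only [forced, List.mem_cons, Prod.mk.injEq, List.not_mem_nil, or_false] at he
    rcases he with h | h | h | h | h | h <;> rw [h.1] <;> norm_num
  have hne := numOrder_prime_ne_zero hp hd
  have hmem := (H.1 p).resolve_left hne
  have h1 := totient_dvd (G := G) p
  rw [Nat.totient_prime hp] at h1
  have h2 := dvd_prime hp hd
  have h := List.all_eq_true.mp (List.all_eq_true.mp forced_check _ he) _ hmem
  simp only [Bool.or_eq_true, beq_iff_eq, bne_iff_ne] at h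
  rcases h with ((h | h) | h) | h
  · exact h
  · exact absurd (Nat.mod_eq_zero_of_dvd h1) h
  · rw [add_comm] at h2
    exact absurd (Nat.mod_eq_zero_of_dvd h2) h
  · exfalso
    rw [h] at h1 h2
    simp only [forced, List.mem_cons, Prod.mk.injEq, List.not_mem_nil, or_false] at he
    rcases he with h' | h' | h' | h' | h' | h' <;> rw [h'.1] at h1 h2 <;>
      first | omega | (norm_num at h1 h2) | skip
    · obtain ⟨x, hx⟩ := (numOrder_ne_zero_iff).mp (show numOrder G 2 ≠ 0 by rw [← h'.1, h]; norm_num)
      have h3795 : numOrder G 2 = 1 := by rw [← h'.1, h]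
      have hv := H.2 3795 (by decide)
      obtain ⟨m, hm⟩ := hv
      have hm2 : m ≠ 2 := fun e => by rw [e, h3795] at hm; norm_num at hm
      have := totient_dvd (G := G) m
      rw [hm] at this
      have hm0 : m ≠ 1 := fun e => by rw [e, numOrder_one] at hm; norm_num at hm
      have hev : 2 ∣ m.totient := by
        refine even_iff_two_dvd.mp (Nat.totient_even ?_)
        by_contra hlt
        interval_cases m <;> simp_all [numOrder]
      exact absurd (hev.trans this) (by norm_num)

theorem norm_prime {p v k : ℕ} [Fact p.Prime] (he : (p, v) ∈ forced) {m : ℕ} (hpm : 10200960 = p ^ 1 * m)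
    (hm : ¬ p ∣ m) (hk : k * v = 10200960 * (p - 1)) {a : G} (ha : orderOf a = p) :
    Nat.card (nrm a) = k := by
  obtain ⟨h, -, -⟩ := prime_data (hn.trans hpm) hm ha
  rw [numOrder_forced hn H Fact.out he, hn, ← hk] at h
  have hv : 0 < v := by
    rcases Nat.eq_zero_or_pos v with rfl | hv
    · simp only [forced, List.mem_cons, Prod.mk.injEq, List.not_mem_nil, or_false] at he
      omega
    · exact hv
  exact Nat.eq_of_mul_eq_mul_right hv h

theorem value_le (m : ℕ) : numOrder G m ≤ 1854720 := by
  rcases H.1 m with h | h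
  · omega
  · exact (by decide +kernel : ∀ x ∈ valueList, x ≤ 1854720) _ h

omit hn H in
theorem card_sylow_prime {p m : ℕ} [Fact p.Prime] (h : Nat.card G = p ^ 1 * m) (hm : ¬ p ∣ m) :
    ∀ Q : Sylow p G, Nat.card (Q : Subgroup G) = p := fun Q => by
  rw [card_sylow_subgroup h hm Q, pow_one]

/-- The number of elements of order `p * q` is a fixed multiple of that of order `p`. -/
theorem pair_count {p v q m : ℕ} [Fact p.Prime] (he : (p, v) ∈ forced) (hpm : 10200960 = p ^ 1 * m)
    (hm : ¬ p ∣ m) (hpq : Nat.Coprime p q) (hq : q ≠ 0) {a : G} (ha : orderOf a = p) :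
    numOrder G (p * q) = v * Nat.card {b : G // orderOf b = q ∧ a * b = b * a} := by
  rw [numOrder_mul hpq (Fact.out : p.Prime).ne_zero hq fun b hb =>
    commuting_const (card_sylow_prime (hn.trans hpm) hm) hb ha, numOrder_forced hn H Fact.out he]

omit hn H in
theorem exists_commuting {a : G} {q : ℕ} [Fact q.Prime] (h : q ∣ Nat.card (cnt1 a)) :
    ∃ b : G, orderOf b = q ∧ a * b = b * a := by
  obtain ⟨b, hb⟩ := exists_prime_orderOf_dvd_card' q h
  exact ⟨b, by rw [orderOf_coe, hb], (mem_centralizer_singleton_iff.mp b.2).symm⟩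

omit hn H in
/-- An element of order `q` commuting with `a` gives at least `q - 1` of them. -/
theorem two_le_commuting {a : G} (h : ∃ b : G, orderOf b = 3 ∧ a * b = b * a) :
    2 ≤ Nat.card {b : G // orderOf b = 3 ∧ a * b = b * a} := by
  obtain ⟨b, hb, hab⟩ := h
  have : Nontrivial {b : G // orderOf b = 3 ∧ a * b = b * a} :=
    ⟨⟨b, hb, hab⟩, ⟨b⁻¹, by rw [orderOf_inv, hb], Commute.inv_right hab⟩, fun e => by
      have e' : b = b⁻¹ := congrArg Subtype.val e
      have : b ^ 2 = 1 := by rw [pow_two]; nth_rw 2 [e']; exact mul_inv_cancel b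
      have := orderOf_dvd_of_pow_eq_one this
      rw [hb] at this
      norm_num at this⟩
  exact Finite.one_lt_card

theorem cent_twentythree {a : G} (ha : orderOf a = 23) : Nat.card (cnt1 a) = 23 := by
  have : Fact (Nat.Prime 23) := ⟨by norm_num⟩
  have : Fact (Nat.Prime 11) := ⟨by norm_num⟩
  have he : (23, 887040) ∈ forced := by decide
  have hN := norm_prime hn H he (m := 443520) (by norm_num) (by norm_num) (k := 253) (by norm_num) ha
  obtain ⟨-, h23, hdvd⟩ := prime_data (m := 443520) (hn.trans (by norm_num)) (by norm_num) ha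
  rw [hN] at hdvd
  obtain ⟨c, hc⟩ := h23
  rw [hc] at hdvd ⊢
  have hc11 : c ∣ 11 := Nat.dvd_of_mul_dvd_mul_left (by norm_num) hdvd
  rcases (Nat.dvd_prime (by norm_num)).mp hc11 with rfl | rfl
  · rfl
  · exfalso
    obtain ⟨b, hb, hab⟩ := exists_commuting (a := a) (q := 11) (hc ▸ by norm_num)
    have hk : 10 ≤ Nat.card {b : G // orderOf b = 11 ∧ a * b = b * a} := by
      refine le_trans (le_of_eq ?_) (Nat.card_le_card_of_injective
        (fun i : Fin 10 => (⟨b ^ (i.1 + 1), ?_, Commute.pow_right hab _⟩ :
          {b : G // orderOf b = 11 ∧ a * b = b * a})) ?_)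
      · simp
      · rw [Nat.Coprime.orderOf_pow, hb]
        rw [hb]
        exact ((show Nat.Prime 11 by norm_num).coprime_iff_not_dvd).mpr fun h => by
          have := Nat.le_of_dvd (by omega) h
          omega
      · intro i j e
        have e' : b ^ (i.1 + 1) = b ^ (j.1 + 1) := congrArg Subtype.val e
        have := pow_eq_pow_iff_modEq.mp e'
        rw [hb, Nat.ModEq] at this
        exact Fin.ext (by omega)
    have h1 := pair_count hn H he (q := 11) (m := 443520) (by norm_num) (by norm_num) (by norm_num) (by norm_num) ha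
    have h2 := value_le hn H (23 * 11)
    omega

theorem cent_eleven {a : G} (ha : orderOf a = 11) : Nat.card (cnt1 a) = 11 := by
  have : Fact (Nat.Prime 11) := ⟨by norm_num⟩
  have : Fact (Nat.Prime 5) := ⟨by norm_num⟩
  have he : (11, 1854720) ∈ forced := by decide
  have hN := norm_prime hn H he (m := 927360) (by norm_num) (by norm_num) (k := 55) (by norm_num) ha
  obtain ⟨-, h11, hdvd⟩ := prime_data (m := 927360) (hn.trans (by norm_num)) (by norm_num) ha
  rw [hN] at hdvd
  obtain ⟨c, hc⟩ := h11
  rw [hc] at hdvd ⊢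
  have hc5 : c ∣ 5 := Nat.dvd_of_mul_dvd_mul_left (by norm_num) hdvd
  rcases (Nat.dvd_prime (by norm_num)).mp hc5 with rfl | rfl
  · rfl
  · exfalso
    obtain ⟨b, hb, hab⟩ := exists_commuting (a := a) (q := 5) (hc ▸ by norm_num)
    have hk : 2 ≤ Nat.card {b : G // orderOf b = 5 ∧ a * b = b * a} := by
      have : Nontrivial {b : G // orderOf b = 5 ∧ a * b = b * a} :=
        ⟨⟨b, hb, hab⟩, ⟨b⁻¹, by rw [orderOf_inv, hb], Commute.inv_right hab⟩, fun e => by
          have e' : b = b⁻¹ := congrArg Subtype.val e
          have : b ^ 2 = 1 := by rw [pow_two]; nth_rw 2 [e']; exact mul_inv_cancel b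
          have := orderOf_dvd_of_pow_eq_one this
          rw [hb] at this
          norm_num at this⟩
      exact Finite.one_lt_card
    have h1 := pair_count hn H he (q := 5) (m := 927360) (by norm_num) (by norm_num) (by norm_num) (by norm_num) ha
    have h2 := value_le hn H (11 * 5)
    omega

theorem cent_seven {a : G} (ha : orderOf a = 7) : Nat.card (cnt1 a) = 14 := by
  have : Fact (Nat.Prime 7) := ⟨by norm_num⟩
  have : Fact (Nat.Prime 3) := ⟨by norm_num⟩
  have : Fact (Nat.Prime 2) := ⟨by norm_num⟩
  have he : (7, 1457280) ∈ forced := by decide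
  have hN := norm_prime hn H he (m := 1457280) (by norm_num) (by norm_num) (k := 42) (by norm_num) ha
  obtain ⟨-, h7, hdvd⟩ := prime_data (m := 1457280) (hn.trans (by norm_num)) (by norm_num) ha
  rw [hN] at hdvd
  obtain ⟨c, hc⟩ := h7
  rw [hc] at hdvd ⊢
  have hc6 : c ∣ 6 := Nat.dvd_of_mul_dvd_mul_left (by norm_num) hdvd
  have h3 : ¬ 3 ∣ c := fun h3 => by
    have hk := two_le_commuting (exists_commuting (a := a) (q := 3) (hc ▸ h3.mul_left 7))
    have h1 := pair_count hn H he (q := 3) (m := 1457280) (by norm_num) (by norm_num) (by norm_num) (by norm_num) ha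
    have h2 := value_le hn H (7 * 3)
    rw [h1] at h2
    have := Nat.mul_le_mul_left 1457280 hk
    omega
  have h2 : 2 ∣ c := by
    by_contra h2
    have hmod := Order95040.card_modEq_commute (p := 7) ha {g : G | orderOf g = 2} fun g hg => by
      show orderOf (a * g * a⁻¹) = 2
      exact (orderOf_injective (MulAut.conj a).toMonoidHom (MulEquiv.injective _) g).trans hg
    have hempty : IsEmpty {g : G // g ∈ {g : G | orderOf g = 2} ∧ a * g = g * a} := ⟨fun g => h2 (by
      have hm : g.1 ∈ cnt1 a := mem_centralizer_singleton_iff.mpr g.2.2.symm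
      have := orderOf_dvd_natCard (⟨g.1, hm⟩ : cnt1 a)
      rw [orderOf_mk, hc, show orderOf g.1 = 2 from g.2.1] at this
      exact (Nat.Coprime.dvd_of_dvd_mul_left (by norm_num) this))⟩
    rw [Nat.card_eq_zero.mpr (Or.inl hempty), show Nat.card {g : G | orderOf g = 2} = 3795 from
      numOrder_forced hn H Nat.prime_two (by decide)] at hmod
    exact absurd hmod (by decide)
  have : c ≤ 6 := Nat.le_of_dvd (by norm_num) hc6
  interval_cases c <;> omega

/-- A larger centraliser of an element of order five would contain a central involution. -/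
theorem five_involution {a : G} (ha : orderOf a = 5) (hne : Nat.card (cnt1 a) ≠ 15) :
    numOrder G 10 = 680064 ∧ numOrder G 15 = 1360128 ∧
      ∃ u : G, orderOf u = 2 ∧ a * u = u * a ∧ ∀ y : G, a * y = y * a → u * y = y * u := by
  classical
  have : Fact (Nat.Prime 5) := ⟨by norm_num⟩
  have : Fact (Nat.Prime 3) := ⟨by norm_num⟩
  have : Fact (Nat.Prime 2) := ⟨by norm_num⟩
  have he : (5, 680064) ∈ forced := by decide
  have hN := norm_prime hn H he (m := 2040192) (by norm_num) (by norm_num) (k := 60) (by norm_num) ha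
  obtain ⟨-, h5, hdvd⟩ := prime_data (m := 2040192) (hn.trans (by norm_num)) (by norm_num) ha
  rw [hN] at hdvd
  obtain ⟨c, hc⟩ := h5
  rw [hc] at hdvd hne
  have hc12 : c ∣ 12 := Nat.dvd_of_mul_dvd_mul_left (by norm_num) hdvd
  have h4 : 12 ∣ c * 4 := by
    let θ := (zpowers a).normalizerMonoidHom
    have hk : θ.ker = (cnt1 a).subgroupOf (nrm a) := by
      rw [cnt1, ← centralizer_zpowers]; exact (zpowers a).normalizerMonoidHom_ker
    have hr : Nat.card θ.range ∣ 4 := (card_subgroup_dvd_card _).trans (dvd_of_eq (by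
      rw [IsCyclic.card_mulAut, Nat.card_zpowers, ha]; decide))
    have hmul := θ.ker.card_mul_index
    rw [Subgroup.index_ker, hk, Nat.card_congr (subgroupOfEquivOfLe (cnt1_le_nrm a)).toEquiv, hc, hN] at hmul
    refine Nat.dvd_trans ⟨1, ?_⟩ (Nat.mul_dvd_mul_left c hr)
    rw [mul_one]
    have : 5 * c * Nat.card θ.range = 5 * 12 := hmul
    rw [mul_assoc] at this
    omega
  have h3 : 3 ∣ c := (Nat.Coprime.dvd_of_dvd_mul_right (by norm_num) (dvd_trans ⟨4, by norm_num⟩ h4))
  have h2 : 2 ∣ c := by
    by_contra h2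
    have : c ≤ 12 := Nat.le_of_dvd (by norm_num) hc12
    interval_cases c <;> omega
  have hk3 := two_le_commuting (exists_commuting (a := a) (q := 3) (hc ▸ h3.mul_left 5))
  have h15 := pair_count hn H he (q := 3) (m := 2040192) (by norm_num) (by norm_num) (by norm_num) (by norm_num) ha
  set k3 := Nat.card {b : G // orderOf b = 3 ∧ a * b = b * a}
  have hk3' : k3 = 2 := by
    rcases H.1 (5 * 3) with h | h
    · omega
    · simp only [valueList, List.mem_cons, List.not_mem_nil, or_false] at h
      omega
  have h10 := pair_count hn H he (q := 2) (m := 2040192) (by norm_num) (by norm_num) (by norm_num) (by norm_num) ha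
  set k2 := Nat.card {b : G // orderOf b = 2 ∧ a * b = b * a}
  obtain ⟨u, hu, hau⟩ := exists_commuting (a := a) (q := 2) (hc ▸ h2.mul_left 5)
  have hk2pos : 0 < k2 := Nat.card_pos_iff.mpr ⟨⟨⟨u, hu, hau⟩⟩, inferInstance⟩
  have hev : ¬ 2 ∣ k2 := by
    have h := dvd_prime (G := ↥(cnt1 a)) Nat.prime_two (hc ▸ h2.mul_left 5)
    have e : numOrder ↥(cnt1 a) 2 = k2 := Nat.card_congr
      { toFun := fun b => ⟨b.1.1, (orderOf_coe b.1).trans b.2, (mem_centralizer_singleton_iff.mp b.1.2).symm⟩
        invFun := fun b => ⟨⟨b.1, mem_centralizer_singleton_iff.mpr b.2.2.symm⟩, (orderOf_mk b.1 _).trans b.2.1⟩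
        left_inv := fun b => rfl
        right_inv := fun b => rfl }
    rw [e] at h
    omega
  have hk2 : k2 = 1 := by
    rcases H.1 (5 * 2) with h | h
    · omega
    · simp only [valueList, List.mem_cons, List.not_mem_nil, or_false] at h
      omega
  -- the involution is central in the centraliser
  have huC : ∀ y : G, a * y = y * a → u * y = y * u := fun y hy => by
    have hmem : orderOf (y * u * y⁻¹) = 2 ∧ a * (y * u * y⁻¹) = y * u * y⁻¹ * a :=
      ⟨(orderOf_injective (MulAut.conj y).toMonoidHom (MulEquiv.injective _) u).trans hu,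
        ((show Commute a y from hy).mul_right hau).mul_right (show Commute a y from hy).inv_right⟩
    have := (Nat.card_eq_one_iff_unique.mp hk2).1
    have e := congrArg Subtype.val (Subsingleton.elim
      (⟨_, hmem⟩ : {b : G // orderOf b = 2 ∧ a * b = b * a}) ⟨u, hu, hau⟩)
    exact (mul_inv_eq_iff_eq_mul.mp e).symm
  rw [hk2, mul_one] at h10
  rw [hk3'] at h15
  exact ⟨h10, h15.trans (by norm_num), u, hu, hau, huC⟩

theorem cent_five {a : G} (ha : orderOf a = 5) : Nat.card (cnt1 a) = 15 := by
  classical
  by_contra hne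
  have : Fact (Nat.Prime 5) := ⟨by norm_num⟩
  obtain ⟨h10, h15, -⟩ := five_involution hn H ha hne
  have hall : ∀ a' : G, orderOf a' = 5 → Nat.card (cnt1 a') ≠ 15 := fun a' ha' e => by
    obtain ⟨w, hw⟩ := card_centralizer_const
      (card_sylow_prime (p := 5) (m := 2040192) (hn.trans (by norm_num)) (by norm_num)) ha ha'
    rw [← hw, card_centralizer_conj] at e
    exact hne e
  -- every element of order 15 gives one of order 30
  have h30 : 1360128 ≤ numOrder G 30 := by
    rw [← h15]
    have key : ∀ z : G, orderOf z = 15 → ∃ u : G, orderOf u = 2 ∧ Commute z u := fun z hz => by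
      have ha' : orderOf (z ^ 3) = 5 := by rw [orderOf_pow' z (by norm_num), hz]; norm_num
      obtain ⟨-, -, u, hu, -, huC⟩ := five_involution hn H ha' (hall _ ha')
      exact ⟨u, hu, (show Commute u z from huC z ((Commute.refl z).pow_left 3)).symm⟩
    choose u hu hzu using key
    have h16 : ∀ z : G, (hz : orderOf z = 15) → (z * u z hz) ^ 16 = z := fun z hz => by
      rw [(hzu z hz).mul_pow, show u z hz ^ 16 = (u z hz ^ orderOf (u z hz)) ^ 8 by rw [hu, ← pow_mul],
        pow_orderOf_eq_one, one_pow, mul_one, show z ^ 16 = z ^ orderOf z * z by rw [hz, ← pow_succ],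
        pow_orderOf_eq_one, one_mul]
    refine Nat.card_le_card_of_injective (fun z : {z : G // orderOf z = 15} =>
      (⟨z.1 * u z.1 z.2, ?_⟩ : {g : G // orderOf g = 30})) fun z z' e => Subtype.ext ?_
    · rw [Commute.orderOf_mul_eq_mul_orderOf_of_coprime (hzu _ z.2) (by rw [z.2, hu]; norm_num), z.2, hu]
    · have e' : z.1 * u z.1 z.2 = z'.1 * u z'.1 z'.2 := congrArg Subtype.val e
      rw [← h16 z.1 z.2, e', h16]
  obtain ⟨m1, hm1⟩ := H.2 318780 (by decide)
  obtain ⟨m2, hm2⟩ := H.2 850080 (by decide)
  obtain ⟨m3, hm3⟩ := H.2 1275120 (by decide)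
  have f2 := numOrder_forced hn H (p := 2) (v := 3795) (by norm_num) (by decide)
  have f3 := numOrder_forced hn H (p := 3) (v := 56672) (by norm_num) (by decide)
  have f5 := numOrder_forced hn H (p := 5) (v := 680064) (by norm_num) (by decide)
  have f7 := numOrder_forced hn H (p := 7) (v := 1457280) (by norm_num) (by decide)
  have f11 := numOrder_forced hn H (p := 11) (v := 1854720) (by norm_num) (by decide)
  have f23 := numOrder_forced hn H (p := 23) (v := 887040) (by norm_num) (by decide)
  have f1 := numOrder_one (G := G)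
  have hL : [1, 2, 3, 5, 7, 11, 23, 10, 15, 30, m1, m2, m3].Nodup := by
    simp only [List.nodup_cons, List.mem_cons, List.not_mem_nil, not_or, List.nodup_nil, or_false, and_true,
      not_false_eq_true]
    refine ⟨?_, ?_, ?_, ?_, ?_, ?_, ?_, ?_, ?_, ?_, ?_, ?_⟩ <;>
      (repeat' constructor) <;> first | omega | (rintro rfl; omega)
  have hsum := sum_numOrder_le G [1, 2, 3, 5, 7, 11, 23, 10, 15, 30, m1, m2, m3].toFinset
  rw [List.sum_toFinset _ hL, hn] at hsum
  simp only [List.map_cons, List.map_nil, List.sum_cons, List.sum_nil] at hsum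
  omega

theorem localData_of_nse : LocalData G := by
  have : Fact (Nat.Prime 7) := ⟨by norm_num⟩
  have : Fact (Nat.Prime 5) := ⟨by norm_num⟩
  have : Fact (Nat.Prime 11) := ⟨by norm_num⟩
  have : Fact (Nat.Prime 23) := ⟨by norm_num⟩
  have : Fact (Nat.Prime 2) := ⟨by norm_num⟩
  -- every involution centralises an element of order seven
  have h7 : ∀ t : G, orderOf t = 2 → ∃ a : G, orderOf a = 7 ∧ t * a = a * t := fun t ht => by
    by_contra hno
    have hco : ∀ q : ℕ, q.Prime → (∀ g : G, orderOf g = q → Nat.card (cnt1 g) % 2 = 1) →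
        ¬ q ∣ Nat.card (cnt1 t) := fun q hq hodd hd => by
      have := Fact.mk hq
      obtain ⟨b, hb, htb⟩ := exists_commuting (a := t) hd
      have h := orderOf_dvd_natCard (⟨t, mem_centralizer_singleton_iff.mpr htb⟩ : cnt1 b)
      rw [orderOf_mk, ht] at h
      have := hodd b hb
      omega
    have h5 := hco 5 (by norm_num) fun g hg => by rw [cent_five hn H hg]
    have h11 := hco 11 (by norm_num) fun g hg => by rw [cent_eleven hn H hg]
    have h23 := hco 23 (by norm_num) fun g hg => by rw [cent_twentythree hn H hg]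
    have h7' : ¬ 7 ∣ Nat.card (cnt1 t) := fun hd => by
      obtain ⟨b, hb, htb⟩ := exists_commuting (a := t) hd
      exact hno ⟨b, hb, htb⟩
    have hcls := card_isConj_class t
    rw [hn] at hcls
    have hle : Nat.card {g : G // IsConj t g} ≤ 3795 := by
      rw [← numOrder_forced hn H Nat.prime_two (v := 3795) (by decide)]
      refine Nat.card_le_card_of_injective (fun g => (⟨g.1, ?_⟩ : {g : G // orderOf g = 2}))
        fun a b e => Subtype.ext (congrArg (fun z : {g : G // orderOf g = 2} => (z : G)) e)
      obtain ⟨w, hw⟩ := isConj_iff.mp g.2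
      rw [← hw, ← ht]
      exact orderOf_injective (MulAut.conj w).toMonoidHom (MulEquiv.injective _) t
    have hd : 5 * 7 * 11 * 23 ∣ Nat.card {g : G // IsConj t g} := by
      have hd' : 5 * 7 * 11 * 23 ∣ Nat.card {g : G // IsConj t g} * Nat.card (cnt1 t) :=
        ⟨1152, hcls.trans (by norm_num)⟩
      refine Nat.Coprime.dvd_of_dvd_mul_right ?_ hd'
      refine Nat.Coprime.mul_left (Nat.Coprime.mul_left (Nat.Coprime.mul_left ?_ ?_) ?_) ?_ <;>
        exact (Nat.Prime.coprime_iff_not_dvd (by norm_num)).mpr ‹_›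
    have hpos : 0 < Nat.card {g : G // IsConj t g} := Nat.card_pos_iff.mpr ⟨⟨⟨t, IsConj.refl t⟩⟩, inferInstance⟩
    have := Nat.le_of_dvd hpos hd
    omega
  have hconj : ∀ s t : G, orderOf s = 2 → orderOf t = 2 → IsConj s t := fun s t hs ht => by
    obtain ⟨a, ha, hsa⟩ := h7 s hs
    obtain ⟨b, hb, htb⟩ := h7 t ht
    obtain ⟨w, hw⟩ := card_centralizer_const
      (card_sylow_prime (p := 7) (m := 1457280) (hn.trans (by norm_num)) (by norm_num)) ha hb
    have huniq : ∀ u v : G, orderOf u = 2 → orderOf v = 2 → u ∈ cnt1 b → v ∈ cnt1 b → u = v := by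
      intro u v hu hv huC hvC
      have hbu : Commute b u := (mem_centralizer_singleton_iff.mp huC).symm
      have hcyc : IsCyclic (cnt1 b) := by
        refine isCyclic_of_orderOf_eq_card
          ⟨b * u, (cnt1 b).mul_mem (mem_centralizer_singleton_iff.mpr rfl) huC⟩ ?_
        rw [orderOf_mk, cent_seven hn H hb,
          Commute.orderOf_mul_eq_mul_orderOf_of_coprime hbu (by rw [hb, hu]; norm_num), hb, hu]
      classical
      have := Fintype.ofFinite (cnt1 b)
      by_contra hne
      have hle := IsCyclic.card_pow_eq_one_le (α := cnt1 b) (n := 2) two_pos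
      have hsub : ({1, ⟨u, huC⟩, ⟨v, hvC⟩} : Finset (cnt1 b)) ⊆ Finset.univ.filter fun z => z ^ 2 = 1 := by
        intro z hz
        rw [Finset.mem_filter]
        refine ⟨Finset.mem_univ _, ?_⟩
        simp only [Finset.mem_insert, Finset.mem_singleton] at hz
        rcases hz with rfl | rfl | rfl
        · exact one_pow 2
        · exact Subtype.ext (by rw [SubgroupClass.coe_pow, ← hu, pow_orderOf_eq_one]; rfl)
        · exact Subtype.ext (by rw [SubgroupClass.coe_pow, ← hv, pow_orderOf_eq_one]; rfl)
      have h3 := (Finset.card_le_card hsub).trans hle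
      have hu1 : u ≠ 1 := fun e => by rw [e, orderOf_one] at hu; omega
      have hv1 : v ≠ 1 := fun e => by rw [e, orderOf_one] at hv; omega
      rw [Finset.card_insert_of_notMem, Finset.card_pair] at h3
      · omega
      · exact fun e => hne (congrArg Subtype.val e)
      · simp only [Finset.mem_insert, Finset.mem_singleton, not_or]
        exact ⟨fun e => hu1 (congrArg Subtype.val e).symm, fun e => hv1 (congrArg Subtype.val e).symm⟩
    refine isConj_iff.mpr ⟨w, huniq _ _ ?_ ht ?_ (mem_centralizer_singleton_iff.mpr htb)⟩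
    · rw [← hs]; exact orderOf_injective (MulAut.conj w).toMonoidHom (MulEquiv.injective _) s
    · rw [← hw, mem_centralizer_singleton_iff]
      calc w * s * w⁻¹ * (w * a * w⁻¹) = w * (s * a) * w⁻¹ := by group
        _ = w * (a * s) * w⁻¹ := by rw [hsa]
        _ = w * a * w⁻¹ * (w * s * w⁻¹) := by group
  refine ⟨hn, fun g hg => cent_five hn H hg, fun g hg => ?_, fun g hg => cent_seven hn H hg, fun g hg => ?_,
    fun g hg => cent_eleven hn H hg, fun g hg => ?_, fun g hg => cent_twentythree hn H hg, fun g hg => ?_,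
    hconj, fun t ht => ?_⟩
  · exact norm_prime hn H (p := 5) (v := 680064) (by decide) (m := 2040192) (by norm_num) (by norm_num) (by norm_num) hg
  · exact norm_prime hn H (p := 7) (v := 1457280) (by decide) (m := 1457280) (by norm_num) (by norm_num) (by norm_num) hg
  · exact norm_prime hn H (p := 11) (v := 1854720) (by decide) (m := 927360) (by norm_num) (by norm_num) (by norm_num) hg
  · exact norm_prime hn H (p := 23) (v := 887040) (by decide) (m := 443520) (by norm_num) (by norm_num) (by norm_num) hg
  · have hcls := card_isConj_class t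
    have e : Nat.card {g : G // IsConj t g} = 3795 := by
      rw [← numOrder_forced hn H Nat.prime_two (v := 3795) (by decide)]
      refine Nat.card_congr (Equiv.subtypeEquivRight fun g => ⟨fun h => ?_, fun h => hconj t g ht h⟩)
      obtain ⟨w, hw⟩ := isConj_iff.mp h
      rw [← hw, ← ht]
      exact orderOf_injective (MulAut.conj w).toMonoidHom (MulEquiv.injective _) t
    rw [e, hn] at hcls
    show Nat.card (centralizer ({t} : Set G)) = 2688
    omega

end Cfsg.Agent.Order10200960
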