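/-
Tools on the principal block for a prime dividing the order once.

Main results (namespace `Cfsg.Agent.Order10200960`):
* `Blk`, `exists_blk` : the block data, and the sum over a section `avg`
* `Blk.sum_weighted`, `Blk.joint` : orthogonality between the sections of two primes
* `Blk.not_mem_of_vanish` : characters of defect zero for a prime dividing `c` are outside
* `Blk.rational_at`, `Blk.false_of_small` : a rational member of small degree, also the
  exceptional one when it is alone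
-/
import Cfsg.Agent.Lib.SmallOrders.BlockDegrees.ValueFormula
import Cfsg.Agent.Lib.OrderM22.Column
import Cfsg.Agent.Lib.GaloisPow.Twist
import Cfsg.Agent.Lib.Char.PRegular

set_option autoImplicit false

open scoped ComplexConjugate

namespace Cfsg.Agent.Order10200960

open Cfsg Cfsg.Agent.Blocks Cfsg.Agent.CyclicDefect Cfsg.Agent.SmallOrders.BlockDegrees
open Cfsg.Agent.OrderM22 (dg)

variable {G : Type*} [Group G] [Finite G]

/-- The sum of a function over the section `x K`. -/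
noncomputable def avg (x : G) (L : Subgroup G) (f : G → ℂ) : ℂ :=
  ∑ᶠ k : K x L, f (x * ((k : L) : G))

theorem avg_eq (x : G) (L : Subgroup G) [Fintype (K x L)] (f : G → ℂ) :
    avg x L f = ∑ k : K x L, f (x * ((k : L) : G)) := finsum_eq_sum_of_fintype _

/-- The data of the principal block at `x`. -/
structure Blk (p c e lo : ℕ) (x : G) (L : Subgroup G) (A E : Finset (IrrCharacter G))
    (σ : IrrCharacter G → ℤ) (ε : ℤ) : Prop where
  set : Setting p x L
  cardK : Nat.card (K x L) = c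
  data : BlockData p e lo x L A E σ ε

theorem dg_cast (χ : IrrCharacter G) : (χ : G → ℂ) 1 = (dg χ : ℂ) := (charDegree_cast χ).symm

theorem dg_oneChar : dg (oneChar G) = 1 := by simp [dg, charDegree, oneChar]

theorem dg_dvd (χ : IrrCharacter G) : dg χ ∣ Nat.card G := charDegree_dvd_card χ

theorem exists_blk [IsSimpleGroup G] (hG : ¬ IsMulCommutative G) {p c e lo : ℕ} [Fact p.Prime]
    (hodd : p ≠ 2) {x : G} (hx : orderOf x = p) (hsq : ¬ p ^ 2 ∣ Nat.card G)
    (hC : Nat.card (Subgroup.centralizer ({x} : Set G)) = p * c)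
    (hN : Nat.card (Subgroup.normalizer (Subgroup.zpowers x : Set G)) = p * c * e)
    (hlo : lo ≤ 2 ∨ (1 < c ∧ lo ≤ 2 * p)) :
    ∃ (L : Subgroup G) (A E : Finset (IrrCharacter G)) (σ : IrrCharacter G → ℤ) (ε : ℤ),
      Blk p c e lo x L A E σ ε := by
  obtain ⟨L, A, E, σ, ε, h1, h2, h3⟩ := exists_blockData hG hodd hx hsq hC hN hlo
  exact ⟨L, A, E, σ, ε, h1, h2, h3⟩

variable {p c e lo : ℕ} {x : G} {L : Subgroup G} {A E : Finset (IrrCharacter G)}
  {σ : IrrCharacter G → ℤ} {ε : ℤ}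

theorem Blk.c_pos (h : Blk p c e lo x L A E σ ε) : 0 < c := h.cardK ▸ Nat.card_pos

theorem Blk.avg_one (h : Blk p c e lo x L A E σ ε) : avg x L (oneChar G : G → ℂ) = c := by
  have := Fintype.ofFinite (K x L)
  have e1 : ∀ k : K x L, (oneChar G : G → ℂ) (x * ((k : L) : G)) = 1 := fun _ => rfl
  rw [avg_eq, Finset.sum_congr rfl fun k _ => e1 k, Finset.sum_const,
    Finset.card_univ, ← Nat.card_eq_fintype_card, h.cardK, nsmul_eq_mul, mul_one]

theorem Blk.avg_A (h : Blk p c e lo x L A E σ ε) {χ : IrrCharacter G} (hχ : χ ∈ A) :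
    avg x L (χ : G → ℂ) = c * σ χ := by
  have := Fintype.ofFinite (K x L)
  rw [avg_eq, Finset.sum_congr rfl fun k _ => h.data.valA χ hχ k, Finset.sum_const,
    Finset.card_univ, ← Nat.card_eq_fintype_card, h.cardK, nsmul_eq_mul]

theorem Blk.sum_avg_E (h : Blk p c e lo x L A E σ ε) :
    ∑ χ ∈ E, avg x L (χ : G → ℂ) = -(c : ℂ) * ε := by
  have := Fintype.ofFinite (K x L)
  simp only [avg_eq]
  rw [Finset.sum_comm, Finset.sum_congr rfl fun k _ => h.data.valE k, Finset.sum_const,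
    Finset.card_univ, ← Nat.card_eq_fintype_card, h.cardK, nsmul_eq_mul]
  ring

theorem Blk.avg_other (h : Blk p c e lo x L A E σ ε) {χ : IrrCharacter G} (h1 : χ ≠ oneChar G)
    (h2 : χ ∉ A) (h3 : χ ∉ E) : avg x L (χ : G → ℂ) = 0 := by
  have := Fintype.ofFinite (K x L)
  rw [avg_eq]; exact h.data.other χ h1 h2 h3

theorem Blk.mem_of_avg_ne (h : Blk p c e lo x L A E σ ε) {χ : IrrCharacter G}
    (hne : avg x L (χ : G → ℂ) ≠ 0) : χ = oneChar G ∨ χ ∈ A ∨ χ ∈ E := by
  by_contra hn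
  simp only [not_or] at hn
  exact hne (h.avg_other hn.1 hn.2.1 hn.2.2)

theorem Blk.not_dvd_one (h : Blk p c e lo x L A E σ ε) : ¬ p ∣ orderOf (1 : G) := by
  simpa using h.set.hp.ne_one

theorem Blk.eps_ne (h : Blk p c e lo x L A E σ ε) : (ε : ℂ) ≠ 0 := by
  rcases h.data.signE with h | h <;> simp [h]

theorem Blk.eqE (h : Blk p c e lo x L A E σ ε) {χ ψ : IrrCharacter G} (hχ : χ ∈ E) (hψ : ψ ∈ E)
    {g : G} (hg : ¬ p ∣ orderOf g) : (χ : G → ℂ) g = (ψ : G → ℂ) g :=
  mul_left_cancel₀ h.eps_ne ((h.data.rel g hg χ hχ).trans (h.data.rel g hg ψ hψ).symm)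

theorem Blk.dgE (h : Blk p c e lo x L A E σ ε) {χ ψ : IrrCharacter G} (hχ : χ ∈ E) (hψ : ψ ∈ E) :
    dg χ = dg ψ := by
  have e1 := h.eqE hχ hψ h.not_dvd_one
  rw [dg_cast, dg_cast] at e1
  exact_mod_cast e1

theorem Blk.deg_eq (h : Blk p c e lo x L A E σ ε) {χe : IrrCharacter G} (he : χe ∈ E) :
    1 + ∑ χ ∈ A, σ χ * (dg χ : ℤ) = ε * (dg χe : ℤ) := by
  have e1 := h.data.rel 1 h.not_dvd_one χe he
  simp only [dg_cast] at e1
  exact_mod_cast e1.symm

theorem Blk.ne_one_A (h : Blk p c e lo x L A E σ ε) {χ : IrrCharacter G} (hχ : χ ∈ A) :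
    χ ≠ oneChar G := fun e' => h.data.one_notA (e' ▸ hχ)

theorem Blk.ne_one_E (h : Blk p c e lo x L A E σ ε) {χ : IrrCharacter G} (hχ : χ ∈ E) :
    χ ≠ oneChar G := fun e' => h.data.one_notE (e' ▸ hχ)

/-- Sums against the section of `x`. -/
theorem Blk.sum_weighted (h : Blk p c e lo x L A E σ ε) [Fintype (IrrCharacter G)]
    (φ : IrrCharacter G → ℂ) {χe : IrrCharacter G} (hφ : ∀ χ ∈ E, φ χ = φ χe) :
    ∑ χ, φ χ * conj (avg x L (χ : G → ℂ)) =
      (c : ℂ) * (φ (oneChar G) + ∑ χ ∈ A, (σ χ : ℂ) * φ χ - (ε : ℂ) * φ χe) := by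
  classical
  have h1 : oneChar G ∉ A ∪ E := fun hm =>
    (Finset.mem_union.mp hm).elim h.data.one_notA h.data.one_notE
  rw [← Finset.sum_subset (Finset.subset_univ (insert (oneChar G) (A ∪ E))) fun χ _ hχ => by
    simp only [Finset.mem_insert, Finset.mem_union, not_or] at hχ
    rw [h.avg_other hχ.1 hχ.2.1 hχ.2.2, map_zero, mul_zero]]
  rw [Finset.sum_insert h1, Finset.sum_union h.data.disj, h.avg_one, map_natCast,
    Finset.sum_congr rfl (s₁ := A) (g := fun χ => (c : ℂ) * ((σ χ : ℂ) * φ χ)) (fun χ hχ => by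
      rw [h.avg_A hχ, map_mul, map_natCast, map_intCast]; ring),
    Finset.sum_congr rfl (s₁ := E) (g := fun χ => φ χe * conj (avg x L (χ : G → ℂ)))
      (fun χ hχ => by rw [hφ χ hχ]),
    ← Finset.mul_sum, ← Finset.mul_sum, ← map_sum, h.sum_avg_E, map_mul, map_neg, map_natCast,
    map_intCast]
  ring

theorem Blk.mul_K_centralizer (h : Blk p c e lo x L A E σ ε) (k : K x L) :
    x * ((k : L) : G) ∈ Subgroup.centralizer ({x} : Set G) :=
  mul_mem (Subgroup.mem_centralizer_singleton_iff.mpr rfl)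
    (Subgroup.mem_centralizer_singleton_iff.mpr (h.set.commute_K k).eq.symm)

theorem Blk.dvd_orderOf_mul (h : Blk p c e lo x L A E σ ε) (k : K x L) :
    p ∣ orderOf (x * ((k : L) : G)) := by
  rw [(h.set.commute_K k).orderOf_mul_eq_mul_orderOf_of_coprime, h.set.hx]
  · exact dvd_mul_right _ _
  · rw [h.set.hx]; exact h.set.hp.coprime_iff_not_dvd.mpr (h.set.regular_K k)

variable {q c' e' lo' : ℕ} {y : G} {L' : Subgroup G} {A' E' : Finset (IrrCharacter G)}
  {τ : IrrCharacter G → ℤ} {η : ℤ}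

theorem Blk.not_dvd_orderOf_section (h' : Blk q c' e' lo' y L' A' E' τ η)
    (hp : ¬ p ∣ Nat.card (Subgroup.centralizer ({y} : Set G))) (k : K y L') :
    ¬ p ∣ orderOf (y * ((k : L') : G)) := fun hd =>
  hp (hd.trans (Subgroup.orderOf_dvd_natCard _ (h'.mul_K_centralizer k)))

theorem Blk.avg_eqE (h : Blk p c e lo x L A E σ ε) (h' : Blk q c' e' lo' y L' A' E' τ η)
    (hp : ¬ p ∣ Nat.card (Subgroup.centralizer ({y} : Set G))) {χ ψ : IrrCharacter G}
    (hχ : χ ∈ E) (hψ : ψ ∈ E) : avg y L' (χ : G → ℂ) = avg y L' (ψ : G → ℂ) :=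
  finsum_congr fun k => h.eqE hχ hψ (h'.not_dvd_orderOf_section hp k)

/-- The sections of two elements are orthogonal. -/
theorem Blk.sum_avg_mul (h : Blk p c e lo x L A E σ ε) (h' : Blk q c' e' lo' y L' A' E' τ η)
    (hp : ¬ p ∣ Nat.card (Subgroup.centralizer ({y} : Set G))) [Fintype (IrrCharacter G)] :
    ∑ χ : IrrCharacter G, avg y L' (χ : G → ℂ) * conj (avg x L (χ : G → ℂ)) = 0 := by
  classical
  have := Fintype.ofFinite G
  have := Fintype.ofFinite (K x L)
  have := Fintype.ofFinite (K y L')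
  simp only [avg_eq, map_sum, Finset.sum_mul, Finset.mul_sum]
  rw [Finset.sum_comm]
  refine Finset.sum_eq_zero fun k _ => ?_
  rw [Finset.sum_comm]
  refine Finset.sum_eq_zero fun k' _ => ?_
  rw [Char.column_orth, if_neg]
  intro hc
  obtain ⟨u, hu⟩ := isConj_iff.mp hc
  refine h'.not_dvd_orderOf_section hp k' ?_
  rw [← orderOf_injective (MulAut.conj u).toMonoidHom (MulAut.conj u).injective (y * ((k' : L') : G))]
  rw [MulEquiv.toMonoidHom_eq_coe, MonoidHom.coe_coe, MulAut.conj_apply, hu]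
  exact h.dvd_orderOf_mul k

/-- The relation between two blocks. -/
theorem Blk.joint (h : Blk p c e lo x L A E σ ε) (h' : Blk q c' e' lo' y L' A' E' τ η)
    (hp : ¬ p ∣ Nat.card (Subgroup.centralizer ({y} : Set G))) {χe : IrrCharacter G} (he : χe ∈ E) :
    (c' : ℂ) + ∑ χ ∈ A, (σ χ : ℂ) * avg y L' (χ : G → ℂ) - (ε : ℂ) * avg y L' (χe : G → ℂ) = 0 := by
  classical
  have := Fintype.ofFinite (IrrCharacter G)
  have h0 := h.sum_avg_mul h' hp
  rw [h.sum_weighted (fun χ => avg y L' (χ : G → ℂ)) fun χ hχ => h.avg_eqE h' hp hχ he,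
    mul_eq_zero] at h0
  simp only [h'.avg_one] at h0
  exact h0.resolve_left (Nat.cast_ne_zero.mpr h.c_pos.ne')

/-- A character of defect zero for a prime in `K` is outside. -/
theorem Blk.not_mem_of_vanish (h : Blk p c e lo x L A E σ ε) {r : ℕ} [Fact r.Prime] (hr : r ∣ c)
    {χ : IrrCharacter G} (hd : (Nat.card G).factorization r ≤ (dg χ).factorization r) :
    χ ∉ A ∧ χ ∉ E := by
  have hrp : r.Prime := Fact.out
  obtain ⟨k, hk⟩ := exists_prime_orderOf_dvd_card' (G := K x L) r (h.cardK.symm ▸ hr)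
  have hko : orderOf ((k : L) : G) = r := by rw [Subgroup.orderOf_coe, Subgroup.orderOf_coe, hk]
  have hv : ∀ ψ : IrrCharacter G, dg ψ = dg χ → (ψ : G → ℂ) (x * ((k : L) : G)) = 0 := fun ψ hψ =>
    Char.vanishes_of_defect_zero hrp ψ.2 (dg_cast ψ) (hψ ▸ hd) _ (by
      rw [(h.set.commute_K k).orderOf_mul_eq_mul_orderOf_of_coprime, hko]
      · exact dvd_mul_left _ _
      · rw [h.set.hx]; exact h.set.hp.coprime_iff_not_dvd.mpr (h.set.regular_K k))
  refine ⟨fun hm => ?_, fun hm => ?_⟩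
  · have e1 := h.data.valA χ hm k
    rw [hv χ rfl] at e1
    rcases h.data.sign χ hm with s | s <;> simp [s] at e1
  · have e1 := h.data.valE k
    rw [Finset.sum_eq_zero fun ψ hψ => hv ψ (h.dgE hψ hm)] at e1
    rcases h.data.signE with s | s <;> simp [s] at e1

/-- The values of a member at the powers prime to the order. -/
theorem pow_value {χ : IrrCharacter G} {s : ℤ} (hv : ∀ k : K x L, (χ : G → ℂ) (x * ((k : L) : G)) = s)
    (k : K x L) {m : ℕ} (hm : m.Coprime (Nat.card G)) :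
    (χ : G → ℂ) ((x * ((k : L) : G)) ^ m) = s := by
  obtain ⟨f, hf⟩ := GaloisPow.exists_galois G hm
  rw [← hf _ (Char.IsIrrCharacter.isCharacter χ.2), hv k, map_intCast]

/-- A member determined by its degree is rational on `K`. -/
theorem Blk.rational_at (h : Blk p c e lo x L A E σ ε) {χ : IrrCharacter G} (hχ : χ ≠ oneChar G)
    {s : ℤ} (hs : s = 1 ∨ s = -1) (hv : ∀ k : K x L, (χ : G → ℂ) (x * ((k : L) : G)) = s)
    (hu : ∀ ψ : IrrCharacter G, ψ ∈ A ∨ ψ ∈ E → dg ψ = dg χ → ψ = χ) {m : ℕ}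
    (hm : m.Coprime (Nat.card G)) (hm1 : m % p = 1) (k : K x L) :
    (χ : G → ℂ) (((k : L) : G) ^ m) = (χ : G → ℂ) ((k : L) : G) := by
  have hxm : x ^ m = x := by
    rw [← pow_mod_orderOf, h.set.hx, hm1, pow_one]
  set ψ := GaloisPow.powIrr hm χ with hψ
  have hval : ∀ j : K x L, (ψ : G → ℂ) (x * ((j : L) : G)) = s := fun j => by
    rw [hψ, GaloisPow.powIrr_apply]; exact pow_value hv j hm
  have hne : avg x L (ψ : G → ℂ) ≠ 0 := by
    have := Fintype.ofFinite (K x L)
    rw [avg_eq, Finset.sum_congr rfl fun j _ => hval j, Finset.sum_const, Finset.card_univ,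
      ← Nat.card_eq_fintype_card, h.cardK, nsmul_eq_mul]
    refine mul_ne_zero (Nat.cast_ne_zero.mpr h.c_pos.ne') ?_
    rcases hs with e1 | e1 <;> simp [e1]
  have hd : dg ψ = dg χ := by
    have e1 : (ψ : G → ℂ) 1 = (χ : G → ℂ) 1 := by rw [hψ, GaloisPow.powIrr_apply, one_pow]
    rw [dg_cast, dg_cast] at e1
    exact_mod_cast e1
  have hψχ : ψ = χ := by
    rcases h.mem_of_avg_ne hne with e1 | e1
    · exfalso
      refine hχ (GaloisPow.powIrr_injective hm ?_)
      rw [← hψ, e1]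
      exact Subtype.ext (funext fun g => rfl)
    · exact hu ψ e1 hd
  calc (χ : G → ℂ) (((k : L) : G) ^ m) = (ψ : G → ℂ) ((k : L) : G) := by
        rw [hψ, GaloisPow.powIrr_apply]
    _ = (χ : G → ℂ) ((k : L) : G) := by rw [hψχ]

/-- A residue prime to the order. -/
theorem exists_coprime_lift {p q : ℕ} (hp : p.Prime) (hq : q.Prime) (hpq : p ≠ q) {N : ℕ} (hN : N ≠ 0)
    {a b : ℕ} (ha : ¬ p ∣ a) (hb : ¬ q ∣ b) :
    ∃ m : ℕ, m % p = a % p ∧ m % q = b % q ∧ m.Coprime N := by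
  have hco : p.Coprime q := (Nat.coprime_primes hp hq).mpr hpq
  obtain ⟨m0, h1, h2⟩ := Nat.chineseRemainder hco a b
  have hm0 : m0.Coprime (p * q) := by
    refine Nat.Coprime.mul_right ?_ ?_
    · refine (hp.coprime_iff_not_dvd.mpr fun hd => ha ?_).symm
      exact (Nat.ModEq.dvd_iff h1 dvd_rfl).mp hd
    · refine (hq.coprime_iff_not_dvd.mpr fun hd => hb ?_).symm
      exact (Nat.ModEq.dvd_iff h2 dvd_rfl).mp hd
  have : NeZero (p * q * N) := ⟨mul_ne_zero (mul_ne_zero hp.ne_zero hq.ne_zero) hN⟩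
  obtain ⟨u, hu⟩ := ZMod.unitsMap_surjective (dvd_mul_right (p * q) N) (ZMod.unitOfCoprime m0 hm0)
  refine ⟨(u : ZMod (p * q * N)).val, ?_, ?_,
    (ZMod.val_coe_unit_coprime u).coprime_dvd_right (dvd_mul_left N (p * q))⟩
  all_goals
    have hval : (((u : ZMod (p * q * N)).val : ℕ) : ZMod (p * q)) = (m0 : ZMod (p * q)) := by
      have e1 := congrArg (fun w : (ZMod (p * q))ˣ => (w : ZMod (p * q))) hu
      simp only [ZMod.unitsMap_def, Units.coe_map, MonoidHom.coe_coe, ZMod.castHom_apply,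
        ZMod.coe_unitOfCoprime] at e1
      rw [ZMod.natCast_val, e1]
    rw [ZMod.natCast_eq_natCast_iff] at hval
  · exact (hval.of_dvd (dvd_mul_right p q)).trans h1
  · exact (hval.of_dvd (dvd_mul_left q p)).trans h2

/-- A member rational at an element of `K` of prime order `r` has degree at least `p (r - 1)`. -/
theorem Blk.false_of_small [IsSimpleGroup G] (hG : ¬ IsMulCommutative G) (h : Blk p c e lo x L A E σ ε)
    {r : ℕ} [Fact r.Prime] (hr : r ∣ c) (hr1 : ¬ p ∣ r - 1) {χ : IrrCharacter G} (hχ : χ ≠ oneChar G)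
    {s : ℤ} (hs : s = 1 ∨ s = -1) (hv : ∀ k : K x L, (χ : G → ℂ) (x * ((k : L) : G)) = s)
    (hu : ∀ ψ : IrrCharacter G, ψ ∈ A ∨ ψ ∈ E → dg ψ = dg χ → ψ = χ)
    (hd : dg χ < p * (r - 1)) : False := by
  classical
  have hp : p.Prime := h.set.hp
  have hrp : r.Prime := Fact.out
  obtain ⟨k, hk⟩ := exists_prime_orderOf_dvd_card' (G := K x L) r (h.cardK.symm ▸ hr)
  set y : G := ((k : L) : G) with hy
  have hyo : orderOf y = r := by rw [hy, Subgroup.orderOf_coe, Subgroup.orderOf_coe, hk]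
  have hpr : p ≠ r := fun e => h.set.regular_K k (by rw [← hy, hyo, e])
  have hco : p.Coprime r := (Nat.coprime_primes hp hrp).mpr hpr
  have hG0 : Nat.card G ≠ 0 := Nat.card_pos.ne'
  have hxy : Commute x y := h.set.commute_K k
  have hxp : x ^ p = 1 := h.set.pow_eq_one
  have hyr : y ^ r = 1 := by rw [← hyo, pow_orderOf_eq_one]
  have hval : ∀ j l : ℕ, ¬ p ∣ j → (χ : G → ℂ) (x ^ j * y ^ l) = s := by
    intro j l hj
    by_cases hl : r ∣ l
    · obtain ⟨m, h1, -, h3⟩ := exists_coprime_lift hp hrp hpr hG0 hj hrp.not_dvd_one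
      have e1 := pow_value hv (1 : K x L) h3
      rw [OneMemClass.coe_one, OneMemClass.coe_one, mul_one, pow_eq_pow_mod m hxp, h1,
        ← pow_eq_pow_mod j hxp] at e1
      obtain ⟨u, rfl⟩ := hl
      rw [pow_mul, hyr, one_pow, mul_one, e1]
    · obtain ⟨m, h1, h2, h3⟩ := exists_coprime_lift hp hrp hpr hG0 hj hl
      have e1 := pow_value hv k h3
      rwa [← hy, hxy.mul_pow, pow_eq_pow_mod m hxp, h1, ← pow_eq_pow_mod j hxp,
        pow_eq_pow_mod m hyr, h2, ← pow_eq_pow_mod l hyr] at e1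
  have hrat : ∀ l : ℕ, ¬ r ∣ l → (χ : G → ℂ) (y ^ l) = (χ : G → ℂ) y := by
    intro l hl
    obtain ⟨m, h1, h2, h3⟩ := exists_coprime_lift hp hrp hpr hG0 hp.not_dvd_one hl
    rw [Nat.one_mod_eq_one.mpr hp.ne_one] at h1
    have e1 := h.rational_at hχ hs hv hu h3 h1 k
    rwa [← hy, pow_eq_pow_mod m hyr, h2, ← pow_eq_pow_mod l hyr] at e1
  have hlt := norm_lt_of_ne_one hG χ.2 (fun e' => hχ (Subtype.ext e'))
    (t := y) (fun e' => hrp.ne_one (by rw [← hyo, e', orderOf_one]))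
  obtain ⟨n, ρ, -, hρ⟩ := χ.2
  have hn : dg χ = n := by
    simp only [dg, ← hρ, charDegree, Representation.char_one, Module.finrank_fin_fun, Complex.natCast_re,
      Nat.floor_natCast]
  obtain ⟨a, ha1, ha2⟩ := Nat.chineseRemainder hco 1 0
  obtain ⟨b, hb1, hb2⟩ := Nat.chineseRemainder hco 0 1
  set g := x * y with hg
  have hga : g ^ a = x := by
    rw [hg, hxy.mul_pow, pow_eq_pow_mod a hxp, ha1, pow_eq_pow_mod a hyr, ha2, Nat.zero_mod, pow_zero,
      mul_one, ← pow_eq_pow_mod 1 hxp, pow_one]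
  have hgb : g ^ b = y := by
    rw [hg, hxy.mul_pow, pow_eq_pow_mod b hxp, hb1, pow_eq_pow_mod b hyr, hb2, Nat.zero_mod, pow_zero,
      one_mul, ← pow_eq_pow_mod 1 hyr, pow_one]
  obtain ⟨bs, μ, hμ, hroot⟩ := Char.exists_eigenbasis ρ g
  let P : Fin (Module.finrank ℂ (Fin n → ℂ)) → ℂ := fun i => μ i ^ a
  let Q : Fin (Module.finrank ℂ (Fin n → ℂ)) → ℂ := fun i => μ i ^ b
  have hroot' : ∀ i N, g ^ N = 1 → μ i ^ N = 1 := fun i N hN => by
    obtain ⟨u, hu'⟩ := orderOf_dvd_of_pow_eq_one hN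
    rw [hu', pow_mul, hroot, one_pow]
  have hPp : ∀ i, P i ^ p = 1 := fun i => by
    rw [← pow_mul]; exact hroot' i _ (by rw [pow_mul, hga, hxp])
  have hQr : ∀ i, Q i ^ r = 1 := fun i => by
    rw [← pow_mul]; exact hroot' i _ (by rw [pow_mul, hgb, hyr])
  have hch : ∀ j l : ℕ, ∑ i, P i ^ j * Q i ^ l = (χ : G → ℂ) (x ^ j * y ^ l) := fun j l => by
    rw [← hρ, ← hga, ← hgb, ← pow_mul, ← pow_mul, ← pow_add, Char.character_pow ρ g bs μ hμ]
    simp only [P, Q, ← pow_mul, ← pow_add]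
  have hchy : ∀ l : ℕ, ∑ i, Q i ^ l = (χ : G → ℂ) (y ^ l) := fun l => by
    have := hch 0 l
    simpa only [pow_zero, one_mul] using this
  have hcard : Fintype.card (Fin (Module.finrank ℂ (Fin n → ℂ))) = n := by
    rw [Fintype.card_fin, Module.finrank_fin_fun]
  set S := (χ : G → ℂ) y
  set F := Finset.univ.filter fun i => P i = 1
  -- the fixed space of `x`
  have hkey : ∀ l : ℕ, (p : ℂ) * ∑ i ∈ F, (Q i ^ l - 1) = (χ : G → ℂ) (y ^ l) - n := by
    intro l
    calc (p : ℂ) * ∑ i ∈ F, (Q i ^ l - 1)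
        = ∑ i, (∑ j ∈ Finset.range p, P i ^ j) * (Q i ^ l - 1) := by
          rw [Finset.mul_sum, Finset.sum_filter]
          refine Finset.sum_congr rfl fun i _ => ?_
          rw [geom_roots (hPp i), ite_mul, zero_mul]
      _ = ∑ j ∈ Finset.range p, ((χ : G → ℂ) (x ^ j * y ^ l) - (χ : G → ℂ) (x ^ j * y ^ 0)) := by
          simp only [← hch, Finset.sum_mul, ← Finset.sum_sub_distrib]
          rw [Finset.sum_comm]
          refine Finset.sum_congr rfl fun j _ => Finset.sum_congr rfl fun i _ => ?_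
          ring
      _ = (χ : G → ℂ) (x ^ 0 * y ^ l) - (χ : G → ℂ) (x ^ 0 * y ^ 0) := by
          refine Finset.sum_eq_single 0 (fun j hj hj0 => ?_) fun h' =>
            absurd (Finset.mem_range.mpr hp.pos) h'
          have hpj : ¬ p ∣ j := fun h' => by
            have := Nat.le_of_dvd (Nat.pos_of_ne_zero hj0) h'
            have := Finset.mem_range.mp hj
            omega
          rw [hval j l hpj, hval j 0 hpj, sub_self]
      _ = _ := by rw [pow_zero, pow_zero, one_mul, one_mul, dg_cast, hn]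
  set N1 := (Finset.univ.filter fun i => Q i = 1).card with hN1
  set ζ := Complex.exp (2 * Real.pi * Complex.I / r) with hζdef
  have hζ : IsPrimitiveRoot ζ r := Complex.isPrimitiveRoot_exp r hrp.ne_zero
  set N := (Finset.univ.filter fun i => Q i = ζ).card with hNdef
  have hζ1 : ζ ≠ 1 := hζ.ne_one hrp.one_lt
  obtain ⟨r', hr'⟩ : ∃ r', r = r' + 1 := ⟨r - 1, by have := hrp.one_lt; omega⟩
  have hS : ∀ l ∈ Finset.range r', (χ : G → ℂ) (y ^ (l + 1)) = S := fun l hl => by
    refine hrat _ fun hd' => ?_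
    have := Nat.le_of_dvd (by omega) hd'
    rw [Finset.mem_range] at hl
    omega
  have hsplit : ∀ v : ℂ, v ^ r = 1 → (n : ℂ) + S * ((∑ l ∈ Finset.range r, v⁻¹ ^ l) - 1) =
      (r : ℂ) * ((Finset.univ.filter fun i => Q i = v).card : ℂ) := by
    intro v hv
    rw [← card_fiber_mul Q hrp.ne_zero hQr hv, hr', Finset.sum_range_succ', Finset.sum_range_succ']
    simp only [hchy, pow_zero, mul_one, add_sub_cancel_right]
    rw [Finset.mul_sum, Finset.sum_congr rfl
      (f := fun l => (χ : G → ℂ) (y ^ (l + 1)) * v⁻¹ ^ (l + 1))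
      (g := fun l => S * v⁻¹ ^ (l + 1)) (fun l hl => by simp only [hS l hl]), add_comm]
    congr 1
    simp [hcard]
  have e1 := hsplit 1 (one_pow r)
  simp only [inv_one, one_pow, Finset.sum_const, Finset.card_range, nsmul_eq_mul, mul_one] at e1
  have e2 := hsplit ζ hζ.pow_eq_one
  rw [geom_roots (by rw [inv_pow, hζ.pow_eq_one, inv_one]),
    if_neg (fun e' => hζ1 (inv_eq_one.mp e'))] at e2
  -- the count on the fixed space
  set M1 := (F.filter fun i => Q i = 1).card with hM1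
  have e3 : (p : ℂ) * ((r : ℂ) * M1 - (r : ℂ) * F.card) =
      ((r : ℂ) - 1) * (S - n) := by
    have h1 : ∑ l ∈ Finset.range r, (p : ℂ) * ∑ i ∈ F, (Q i ^ l - 1) =
        (p : ℂ) * ((r : ℂ) * M1 - (r : ℂ) * F.card) := by
      rw [← Finset.mul_sum, Finset.sum_comm]
      simp only [Finset.sum_sub_distrib, Finset.sum_const, Finset.card_range, nsmul_eq_mul, mul_one]
      congr 1
      rw [Finset.sum_congr rfl fun i _ => geom_roots (hQr i), Finset.sum_ite, Finset.sum_const_zero,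
        add_zero, Finset.sum_const, nsmul_eq_mul, hM1, mul_comm]
      ring
    rw [← h1, Finset.sum_congr rfl fun l _ => hkey l, hr', Finset.sum_range_succ',
      Finset.sum_congr rfl fun l hl => by rw [hS l hl], Finset.sum_const, Finset.card_range,
      nsmul_eq_mul, pow_zero, dg_cast, hn]
    push_cast
    ring
  have e4 : (p : ℂ) * ((F.card : ℂ) - M1) = ((r : ℂ) - 1) * N := by
    have hr0 : (r : ℂ) ≠ 0 := Nat.cast_ne_zero.mpr hrp.ne_zero
    apply mul_left_cancel₀ hr0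
    linear_combination -e3 + ((r : ℂ) - 1) * e2
  have e5 : (n : ℂ) - N1 = ((r : ℂ) - 1) * N := by
    have hr0 : (r : ℂ) ≠ 0 := Nat.cast_ne_zero.mpr hrp.ne_zero
    apply mul_left_cancel₀ hr0
    linear_combination e1 + ((r : ℂ) - 1) * e2
  have i4 : (p : ℤ) * ((F.card : ℤ) - M1) = (r' : ℤ) * N := by
    rw [hr'] at e4; push_cast at e4
    simp only [add_sub_cancel_right] at e4
    exact_mod_cast e4
  have i5 : (n : ℤ) - N1 = (r' : ℤ) * N := by
    rw [hr'] at e5; push_cast at e5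
    simp only [add_sub_cancel_right] at e5
    exact_mod_cast e5
  have hpN : p ∣ N := by
    have : p ∣ r' * N := by
      have := Dvd.intro _ i4
      exact_mod_cast this
    refine (hp.dvd_mul.mp this).resolve_left ?_
    rwa [hr', Nat.add_sub_cancel] at hr1
  have hN0 : N = 0 := by
    by_contra h0
    have h2 : p * r' ≤ r' * N := by
      rw [mul_comm]; exact Nat.mul_le_mul_left _ (Nat.le_of_dvd (Nat.pos_of_ne_zero h0) hpN)
    rw [hn, hr', Nat.add_sub_cancel] at hd
    have : (r' * N : ℕ) ≤ n := by zify; omega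
    omega
  rw [← hNdef, hN0, Nat.cast_zero, mul_zero] at e2
  have hSn : S = (n : ℂ) := by linear_combination -e2
  rw [hSn] at hlt
  simp only [Complex.norm_natCast] at hlt
  rw [show charDegree (χ : G → ℂ) = n from hn] at hlt
  exact lt_irrefl _ hlt

end Cfsg.Agent.Order10200960
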