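/-
The column of an element of order 23, and congruences of character values.

Main results (namespace `Cfsg.Agent.Order10200960`):
* `w23`, `col23`, `allowed23` : residues of the degrees
* `joint_col` : a column against the principal block of another prime
* `int_congr_pow` : values at `g` and at `g ^ p`
* `mem_K_of_regular` : regular elements of the centraliser lie in `K`
* `dvd_class_mul` : the degree divides class size times value
-/
import Cfsg.Agent.Lib.Order10200960.OrdTwentyThree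
import Cfsg.Agent.Lib.Char.Integral

set_option autoImplicit false

open scoped ComplexConjugate

namespace Cfsg.Agent.Order10200960

open Cfsg Cfsg.Agent.Blocks Cfsg.Agent.CyclicDefect Cfsg.Agent.SmallOrders
open Cfsg.Agent.SmallOrders.BlockDegrees (oneChar)
open Cfsg.Agent.OrderM22 (dg Col exists_col)

/-- Weight at an element of order 23. -/
def w23 (d : ℕ) : ℤ :=
  if d % 23 = 1 then 2 else if d % 23 = 22 then -2 else if d % 23 = 11 then -1
  else if d % 23 = 12 then 1 else 0

variable {G : Type*} [Group G] [Finite G]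

theorem col23 [IsSimpleGroup G] (hc : Nat.card G = 10200960) {x : G} (hx : orderOf x = 23) :
    ∃ F E, Col 23 11 2 w23 x F E := by
  have : Fact (Nat.Prime 23) := ⟨by norm_num⟩
  obtain ⟨hC, hN⟩ := twentyThree_data hc hx
  refine exists_col (not_comm_ord hc) (by norm_num) hx (not_sq_ord hc (by decide)) hC hN
    (a := 2) (b := 1) (by norm_num) ?_ ?_ ?_ ?_ ?_ <;> intro d hd <;>
    simp only [w23] <;> split_ifs <;> omega

theorem allowed23 [IsSimpleGroup G] (hc : Nat.card G = 10200960) (χ : IrrCharacter G) :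
    dg χ % 23 = 0 ∨ dg χ % 23 = 1 ∨ dg χ % 23 = 22 ∨ dg χ % 23 = 11 ∨ dg χ % 23 = 12 := by
  have : Fact (Nat.Prime 23) := ⟨by norm_num⟩
  obtain ⟨x, hx⟩ := exists_prime_orderOf_dvd_card' (G := G) 23 (by rw [hc]; norm_num)
  obtain ⟨F, E, h⟩ := col23 hc hx
  by_cases hF : χ ∈ F
  · rcases h.degF χ hF with h1 | h1 <;> omega
  by_cases hE : χ ∈ E
  · rcases h.degE χ hE with h1 | h1 <;> omega
  · have := h.other χ hF hE; omega

/-- A column against the principal block of another prime, with the degrees only. -/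
theorem joint_col {p e : ℕ} {a : ℤ} {w : ℕ → ℤ} {x : G} {F E : Finset (IrrCharacter G)}
    (hcol : Col p e a w x F E) (hx : orderOf x = p)
    {q c' e' lo' : ℕ} {y : G} {L' : Subgroup G} {A' E' : Finset (IrrCharacter G)}
    {τ : IrrCharacter G → ℤ} {η : ℤ} (h' : Blk q c' e' lo' y L' A' E' τ η)
    (hp : ¬ p ∣ Nat.card (Subgroup.centralizer ({y} : Set G))) {χe : IrrCharacter G} (he : χe ∈ E') :
    w 1 + ∑ χ ∈ A', τ χ * w (dg χ) - η * w (dg χe) = 0 := by
  classical
  have := Fintype.ofFinite G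
  have := Fintype.ofFinite (IrrCharacter G)
  have := Fintype.ofFinite (K y L')
  have h0 : ∑ χ : IrrCharacter G, (w (dg χ) : ℂ) * avg y L' (χ : G → ℂ) = 0 := by
    rw [← hcol.weighted (fun χ => avg y L' (χ : G → ℂ)) fun χ hχ ψ hψ =>
      finsum_congr fun k => hcol.eqE χ hχ ψ hψ _ (h'.not_dvd_orderOf_section hp k)]
    simp only [avg_eq, Finset.sum_mul]
    rw [Finset.sum_comm, Finset.sum_eq_zero, mul_zero]
    intro k _
    rw [Char.column_orth, if_neg]
    intro hcj
    refine h'.not_dvd_orderOf_section hp k ?_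
    obtain ⟨u, hu⟩ := isConj_iff.mp hcj
    rw [← orderOf_injective (MulAut.conj u).toMonoidHom (MulAut.conj u).injective
      (y * ((k : L') : G)), MulEquiv.toMonoidHom_eq_coe, MonoidHom.coe_coe, MulAut.conj_apply, hu, hx]
  have h1 := h'.sum_weighted (fun χ => (w (dg χ) : ℂ)) (χe := χe) fun χ hχ => by rw [h'.dgE hχ he]
  have h2 := congrArg conj h0
  rw [map_sum, map_zero] at h2
  simp only [map_mul, map_intCast] at h2
  simp only [h2, dg_oneChar] at h1
  have h3 := (mul_eq_zero.mp h1.symm).resolve_left (Nat.cast_ne_zero.mpr h'.c_pos.ne')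
  exact_mod_cast h3

/-- Integral values at `g` and `g ^ p` are congruent. -/
theorem int_congr_pow {χ : G → ℂ} (hχ : IsCharacter G χ) {p : ℕ} [hp : Fact p.Prime] {g : G}
    {a b : ℤ} (ha : χ g = a) (hb : χ (g ^ p) = b) : (p : ℤ) ∣ a ^ p - b := by
  obtain ⟨n, ρ, rfl⟩ := hχ
  obtain ⟨bs, μ, hμ, hroot⟩ := Char.exists_eigenbasis ρ g
  have h1 := Char.character_eq_sum_eigenvalues ρ g bs μ hμ
  have h2 := Char.character_pow ρ g bs μ hμ p
  rw [ha] at h1
  rw [hb] at h2
  let R := integralClosure ℤ ℂ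
  have hint : ∀ i, μ i ∈ R := fun i =>
    IsIntegral.of_pow (orderOf_pos g) (by rw [hroot i]; exact isIntegral_one)
  let m : Fin (Module.finrank ℂ (Fin n → ℂ)) → R := fun i => ⟨μ i, hint i⟩
  have hnu : (p : R) ∈ nonunits R := by
    rintro ⟨u, hu⟩
    have h2 : ((u⁻¹ : Rˣ) : ℂ) = (p : ℂ)⁻¹ := by
      refine eq_inv_of_mul_eq_one_left ?_
      have h3 : ((u⁻¹ : Rˣ) : R) * (p : R) = 1 := by rw [← hu, Units.inv_mul]
      simpa using congrArg (fun x : R => (x : ℂ)) h3
    have h4 := Char.nat_dvd_of_isIntegral_div (m := 1) hp.out.ne_zero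
      (by simpa using h2 ▸ (u⁻¹ : Rˣ).val.2)
    exact hp.out.not_dvd_one h4
  have := CharP.quotient R p hnu
  have : ExpChar (R ⧸ Ideal.span ({(p : R)} : Set R)) p := ExpChar.prime hp.out
  let q := Ideal.Quotient.mk (Ideal.span ({(p : R)} : Set R))
  have e1 : (∑ i, m i) = (a : R) := Subtype.ext (by push_cast; exact h1.symm)
  have e2 : (∑ i, m i ^ p) = (b : R) := Subtype.ext (by push_cast; exact h2.symm)
  have h5 : q ((a : R) ^ p) = q (b : R) := by
    rw [← e1, ← e2, map_pow, map_sum, map_sum, sum_pow_char]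
    exact Finset.sum_congr rfl fun i _ => (map_pow q _ _).symm
  rw [map_pow, map_intCast, map_intCast, ← Int.cast_pow, ← sub_eq_zero, ← Int.cast_sub,
    CharP.intCast_eq_zero_iff _ p] at h5
  exact h5

theorem mem_K_of_regular {p : ℕ} {x t : G} {L : Subgroup G} (hS : Setting p x L)
    (ht : t ∈ Subgroup.centralizer ({x} : Set G)) {m : ℕ} (hm : t ^ m = 1) (hpm : ¬ p ∣ m) :
    ∃ k : K x L, ((k : L) : G) = t := by
  have hc : Commute x t := (Subgroup.mem_centralizer_singleton_iff.mp ht).symm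
  have hN : t ∈ Subgroup.normalizer (Subgroup.zpowers x : Set G) := cnt1_le_nrm x ht
  obtain ⟨u, hu, l, hl, rfl⟩ := hS.hgen t hN
  obtain ⟨i, rfl⟩ := Subgroup.mem_zpowers_iff.mp hu
  have hxl : Commute x l := by
    have h1 : Commute x ((x ^ i)⁻¹ * (x ^ i * l)) :=
      ((Commute.refl x).zpow_right i).inv_right.mul_right hc
    rwa [inv_mul_cancel_left] at h1
  have h2 : (x ^ i) ^ m * l ^ m = 1 := by rw [← (hxl.zpow_left i).mul_pow, hm]
  have h3 : (x ^ i) ^ m ∈ L := by rw [mul_eq_one_iff_eq_inv.mp h2]; exact inv_mem (pow_mem hl m)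
  have h4 : (x ^ i) ^ m = 1 := by
    have h5 : orderOf ((x ^ i) ^ m) ∣ p := hS.hx ▸
      orderOf_dvd_of_mem_zpowers (pow_mem (zpow_mem (Subgroup.mem_zpowers x) i) m)
    rcases hS.hp.eq_one_or_self_of_dvd _ h5 with h6 | h6
    · exact orderOf_eq_one_iff.mp h6
    · exact absurd (h6 ▸ Subgroup.orderOf_dvd_natCard _ h3) hS.hcop
  have h5 : x ^ i = 1 := by
    have hd : (p : ℤ) ∣ i * m := by
      rw [← hS.hx]; refine orderOf_dvd_iff_zpow_eq_one.mpr ?_
      rw [zpow_mul, zpow_natCast, h4]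
    rcases (Nat.prime_iff_prime_int.mp hS.hp).dvd_or_dvd hd with h6 | h6
    · rw [← hS.hx] at h6; exact orderOf_dvd_iff_zpow_eq_one.mp h6
    · exact absurd (Int.natCast_dvd_natCast.mp h6) hpm
  exact ⟨⟨⟨l, hl⟩, mem_K.mpr hxl⟩, by rw [h5, one_mul]⟩

/-- The degree divides the class size times an integral value. -/
theorem dvd_class_mul (χ : IrrCharacter G) {t : G} {v : ℤ} (hv : (χ : G → ℂ) t = v) :
    (dg χ : ℤ) ∣ ((Subgroup.centralizer ({t} : Set G)).index : ℤ) * v := by
  have h := Char.IsIrrCharacter.isIntegral_classSize_mul_div χ.2 t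
  rw [hv, dg_cast] at h
  rw [Int.natCast_dvd, Int.natAbs_mul, Int.natAbs_natCast]
  refine Char.nat_dvd_of_isIntegral_div (dg_pos' χ).ne' ?_
  rcases Int.natAbs_eq v with e | e
  · rw [e] at h; push_cast; simpa using h
  · rw [e] at h; push_cast at h ⊢
    rw [mul_neg, neg_div] at h
    simpa using h.neg

end Cfsg.Agent.Order10200960
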