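/-
Values of a character at an element of order 7 conjugate to its square.

Main results (namespace `Cfsg.Agent.Order10200960`):
* `seven_value` : trace and norm data of such a value
* `pair_sums` : the squares of two values with given sum, permuted by conjugation
* `no_seven_sums` : the two column sums exclude centralisers of order 112 and 896
-/
import Cfsg.Agent.Lib.Order10200960.OrdBlock

set_option autoImplicit false

open scoped ComplexConjugate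

namespace Cfsg.Agent.Order10200960

open Cfsg Cfsg.Agent.SmallOrders.BlockDegrees
open Cfsg.Agent.OrderM22 (dg)

variable {G : Type*} [Group G] [Finite G]

theorem seven_value {y : G} (hy : orderOf y = 7) (hcj : IsConj y (y ^ 2)) (χ : IrrCharacter G) :
    ∃ r v : ℤ, (χ : G → ℂ) y + conj ((χ : G → ℂ) y) = r ∧
      ((χ : G → ℂ) y - conj ((χ : G → ℂ) y)) ^ 2 = -7 * (v : ℂ) ^ 2 ∧
      (conj ((χ : G → ℂ) y) = (χ : G → ℂ) y → ∃ n : ℤ, (χ : G → ℂ) y = n) := by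
  classical
  have := Fintype.ofFinite G
  obtain ⟨g, hg⟩ := isConj_iff.mp hcj
  have hsq : ∀ l : ℕ, (χ : G → ℂ) (y ^ (2 * l)) = (χ : G → ℂ) (y ^ l) := fun l => by
    have e : g * y ^ l * g⁻¹ = y ^ (2 * l) := by rw [pow_mul, ← hg, conj_pow]
    rw [← e]
    exact (Char.IsCharacter.isClassFunction (Char.IsIrrCharacter.isCharacter χ.2)) _ _
  set a := (χ : G → ℂ) y with ha
  have hy7 : y ^ 7 = 1 := by rw [← hy, pow_orderOf_eq_one]
  have h1 : (χ : G → ℂ) (y ^ 1) = a := by rw [pow_one]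
  have h2 : (χ : G → ℂ) (y ^ 2) = a := by rw [← h1]; exact hsq 1
  have h4 : (χ : G → ℂ) (y ^ 4) = a := by rw [← h2]; exact hsq 2
  have h6 : (χ : G → ℂ) (y ^ 6) = conj a := by
    have e : y ^ 6 = y⁻¹ := by
      rw [eq_inv_iff_mul_eq_one, ← pow_succ]; exact hy7
    rw [e, ha, Char.IsCharacter.apply_inv (Char.IsIrrCharacter.isCharacter χ.2)]
  have h5 : (χ : G → ℂ) (y ^ 5) = conj a := by
    rw [← h6, ← hsq 6, show 2 * 6 = 5 + 7 by rfl, pow_add, hy7, mul_one]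
  have h3 : (χ : G → ℂ) (y ^ 3) = conj a := by
    rw [← h5, ← hsq 5, show 2 * 5 = 3 + 7 by rfl, pow_add, hy7, mul_one]
  have h0 : (χ : G → ℂ) (y ^ 0) = (dg χ : ℂ) := by rw [pow_zero, dg_cast]
  obtain ⟨n, ρ, -, hρ⟩ := χ.2
  obtain ⟨bs, μ, hμ, hroot⟩ := Char.exists_eigenbasis ρ y
  have hch : ∀ l : ℕ, ∑ i, μ i ^ l = (χ : G → ℂ) (y ^ l) := fun l => by
    rw [← hρ, Char.character_pow ρ y bs μ hμ]
  have hμ7 : ∀ i, μ i ^ 7 = 1 := fun i => by rw [← hy]; exact hroot i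
  have key : ∀ z : ℂ, z ^ 7 = 1 → ∃ m : ℕ,
      (dg χ : ℂ) + a * (z⁻¹ + z⁻¹ ^ 2 + z⁻¹ ^ 4) + conj a * (z⁻¹ ^ 3 + z⁻¹ ^ 5 + z⁻¹ ^ 6) = 7 * m := by
    intro z hz
    refine ⟨(Finset.univ.filter fun i => μ i = z).card, ?_⟩
    have e := card_fiber_mul μ (m := 7) (by norm_num) hμ7 hz
    simp only [hch, Finset.sum_range_succ, Finset.sum_range_zero, h0, h1, h2, h3, h4, h5, h6] at e
    push_cast at e
    linear_combination e
  set ζ := Complex.exp (2 * Real.pi * Complex.I / (7 : ℕ))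
  have hζ : IsPrimitiveRoot ζ 7 := Complex.isPrimitiveRoot_exp 7 (by norm_num)
  have hw7 : ζ⁻¹ ^ 7 = 1 := by rw [inv_pow, hζ.pow_eq_one, inv_one]
  have hgeom : 1 + ζ⁻¹ + ζ⁻¹ ^ 2 + ζ⁻¹ ^ 3 + ζ⁻¹ ^ 4 + ζ⁻¹ ^ 5 + ζ⁻¹ ^ 6 = 0 := by
    have e := geom_roots (z := ζ⁻¹) (m := 7) hw7
    rw [if_neg (fun e' => hζ.ne_one (by norm_num) (inv_eq_one.mp e'))] at e
    simp only [Finset.sum_range_succ, Finset.sum_range_zero, pow_zero, pow_one, zero_add] at e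
    exact e
  obtain ⟨m0, hm0⟩ := key 1 (one_pow 7)
  obtain ⟨m1, hm1⟩ := key ζ hζ.pow_eq_one
  obtain ⟨m2, hm2⟩ := key ζ⁻¹ hw7
  rw [inv_inv] at hm2
  have hζw : ζ = ζ⁻¹ ^ 6 := by
    have h0' : ζ ≠ 0 := hζ.ne_zero (by norm_num)
    field_simp
    linear_combination hζ.pow_eq_one
  generalize ζ⁻¹ = w at hm1 hm2 hw7 hgeom hζw
  rw [hζw] at hm2
  have hm2' : (dg χ : ℂ) + a * (w ^ 3 + w ^ 5 + w ^ 6) + conj a * (w + w ^ 2 + w ^ 4) = 7 * m2 := by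
    rw [← hm2]
    have e : ∀ k r q : ℕ, k = r + 7 * q → w ^ k = w ^ r := fun k r q e => by
      rw [e, pow_add, pow_mul, hw7, one_pow, mul_one]
    rw [← pow_mul, ← pow_mul, ← pow_mul, ← pow_mul, ← pow_mul, e (6 * 2) 5 1 rfl, e (6 * 4) 3 3 rfl,
      e (6 * 3) 4 2 rfl, e (6 * 5) 2 4 rfl, e (6 * 6) 1 5 rfl, pow_one]
    ring
  set S := w + w ^ 2 + w ^ 4
  set T := w ^ 3 + w ^ 5 + w ^ 6
  have hST : S + T = -1 := by linear_combination hgeom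
  have hmul : S * T = 2 := by
    linear_combination (1 + w + w ^ 2 + w ^ 3 + 2) * hw7 + hgeom
  have hdiff : (S - T) ^ 2 = -7 := by linear_combination (S + T - 1) * hST - 4 * hmul
  refine ⟨2 * (dg χ : ℤ) - 7 * ((m1 : ℤ) + m2), (m1 : ℤ) - m2, ?_, ?_, fun hr => ⟨(dg χ : ℤ) - 7 * m1, ?_⟩⟩
  · push_cast
    linear_combination (a + conj a) * hST - hm1 - hm2'
  · push_cast
    have hlin : (a - conj a) * (S - T) = 7 * ((m1 : ℂ) - m2) := by linear_combination hm1 - hm2'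
    linear_combination (-1 / 7 : ℂ) * ((a - conj a) * (S - T) + 7 * ((m1 : ℂ) - m2)) * hlin +
      (1 / 7 : ℂ) * (a - conj a) ^ 2 * hdiff
  · rw [hr] at hm1
    push_cast
    linear_combination a * hST - hm1

/-- Two values with sum `r`, permuted by conjugation. -/
theorem pair_sums {y : G} (hy : orderOf y = 7) (hcj : IsConj y (y ^ 2)) {χ ψ : IrrCharacter G}
    (hperm : conj ((χ : G → ℂ) y) = (χ : G → ℂ) y ∧ conj ((ψ : G → ℂ) y) = (ψ : G → ℂ) y ∨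
      conj ((χ : G → ℂ) y) = (ψ : G → ℂ) y)
    {r : ℤ} (hr : (χ : G → ℂ) y + (ψ : G → ℂ) y = r) :
    ∃ sq nm : ℤ, (χ : G → ℂ) y ^ 2 + (ψ : G → ℂ) y ^ 2 = sq ∧
      (χ : G → ℂ) y * conj ((χ : G → ℂ) y) + (ψ : G → ℂ) y * conj ((ψ : G → ℂ) y) = nm ∧
      ((sq = nm ∧ ∃ D : ℤ, 2 * sq = r ^ 2 + D ^ 2) ∨
        ∃ v : ℤ, 2 * sq = r ^ 2 - 7 * v ^ 2 ∧ 2 * nm = r ^ 2 + 7 * v ^ 2) := by
  obtain ⟨rχ, v, hs, hd, hint⟩ := seven_value hy hcj χ
  obtain ⟨-, -, -, -, hintψ⟩ := seven_value hy hcj ψ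
  rcases hperm with ⟨h1, h2⟩ | h1
  · obtain ⟨a, ha⟩ := hint h1
    obtain ⟨b, hb⟩ := hintψ h2
    refine ⟨a ^ 2 + b ^ 2, a ^ 2 + b ^ 2, by rw [ha, hb]; push_cast; ring,
      by rw [h1, h2, ha, hb]; push_cast; ring, Or.inl ⟨rfl, a - b, ?_⟩⟩
    have : r = a + b := by
      rw [ha, hb] at hr; exact_mod_cast hr.symm
    rw [this]; ring
  · have h2 : conj ((ψ : G → ℂ) y) = (χ : G → ℂ) y := by rw [← h1, Complex.conj_conj]
    rw [h1] at hs hd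
    set a := (χ : G → ℂ) y
    set b := (ψ : G → ℂ) y
    have hrr : rχ = r := by rw [hs] at hr; exact_mod_cast hr
    obtain ⟨q, hq⟩ : ∃ q : ℤ, r ^ 2 + 7 * v ^ 2 = 2 * q := by
      obtain ⟨k, hk⟩ | ⟨k, hk⟩ := Int.even_or_odd (r + v)
      · exact ⟨2 * k ^ 2 - r * v - 3 * (-(v ^ 2)), by linear_combination (r + v + 2 * k) * hk⟩
      · exfalso
        have h4 : ((4 * (a * b) : ℂ)) = ((r ^ 2 + 7 * v ^ 2 : ℤ) : ℂ) := by
          push_cast; linear_combination (a + b + (r : ℂ)) * hr - hd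
        have hint2 : IsIntegral ℤ (a * b) :=
          (Char.IsCharacter.isIntegral (Char.IsIrrCharacter.isCharacter χ.2) y).mul
            (Char.IsCharacter.isIntegral (Char.IsIrrCharacter.isCharacter ψ.2) y)
        have hnn : 0 ≤ r ^ 2 + 7 * v ^ 2 := by positivity
        obtain ⟨N, hN⟩ := Int.eq_ofNat_of_zero_le hnn
        rw [hN] at h4
        have h5 : a * b = (N : ℂ) / (4 : ℕ) := by push_cast at h4 ⊢; linear_combination h4 / 4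
        rw [h5] at hint2
        have h6 := Char.nat_dvd_of_isIntegral_div (by norm_num) hint2
        have h7 : r ^ 2 + 7 * v ^ 2 = 2 * (3 * v ^ 2 + 2 * k ^ 2 + 2 * k - r * v) + 1 := by
          linear_combination (r + v + 2 * k + 1) * hk
        omega
    refine ⟨q - 7 * v ^ 2, q, ?_, ?_, Or.inr ⟨v, by linear_combination -hq, by linear_combination -hq⟩⟩
    · have h3 : (r : ℂ) ^ 2 + 7 * (v : ℂ) ^ 2 = 2 * (q : ℂ) := by exact_mod_cast hq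
      push_cast
      linear_combination (1 / 2 : ℂ) * ((a + b + (r : ℂ)) * hr) + (1 / 2 : ℂ) * hd + (1 / 2 : ℂ) * h3
    · rw [h1, h2]
      have h3 : (r : ℂ) ^ 2 + 7 * (v : ℂ) ^ 2 = 2 * (q : ℂ) := by exact_mod_cast hq
      linear_combination (1 / 2 : ℂ) * ((a + b + (r : ℂ)) * hr) - (1 / 2 : ℂ) * hd + (1 / 2 : ℂ) * h3

/-- The two column sums exclude `c = 16` and `c = 128`. -/
theorem no_seven_sums {X c s1 n1 s2 n2 : ℤ} (hc : c = 16 ∨ c = 128)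
    (h1 : 3 + 3 * X ^ 2 + s1 + s2 = 0) (h2 : 3 + 3 * X ^ 2 + n1 + n2 = 7 * c)
    (hp1 : (s1 = n1 ∧ ∃ D : ℤ, 2 * s1 = X ^ 2 + D ^ 2) ∨
      ∃ v : ℤ, 2 * s1 = X ^ 2 - 7 * v ^ 2 ∧ 2 * n1 = X ^ 2 + 7 * v ^ 2)
    (hp2 : (s2 = n2 ∧ ∃ D : ℤ, 2 * s2 = 1 + D ^ 2) ∨
      ∃ v : ℤ, 2 * s2 = 1 - 7 * v ^ 2 ∧ 2 * n2 = 1 + 7 * v ^ 2) : False := by
  have nsq : ∀ v : ℤ, v ^ 2 ≠ 15 ∧ v ^ 2 ≠ 127 ∧ v ^ 2 ≠ 128 := fun v => by
    have key : ∀ n ∈ List.range 12, (n : ℕ) ^ 2 ≠ 15 ∧ n ^ 2 ≠ 127 ∧ n ^ 2 ≠ 128 := by decide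
    by_cases hv : v.natAbs < 12
    · have := key _ (List.mem_range.mpr hv)
      have e : v ^ 2 = ((v.natAbs ^ 2 : ℕ) : ℤ) := by push_cast; rw [sq_abs]
      rw [e]; exact_mod_cast this
    · have : (144 : ℤ) ≤ v ^ 2 := by
        rw [← sq_abs]; have : (12 : ℤ) ≤ |v| := by rw [Int.abs_eq_natAbs]; omega
        nlinarith
      omega
  have n105 : ∀ Z D : ℤ, 7 * Z ^ 2 + D ^ 2 ≠ 105 := fun Z D he => by
    have hZ : -3 ≤ Z ∧ Z ≤ 3 := ⟨by nlinarith, by nlinarith⟩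
    have hD : -10 ≤ D ∧ D ≤ 10 := ⟨by nlinarith, by nlinarith⟩
    obtain ⟨hZ1, hZ2⟩ := hZ
    obtain ⟨hD1, hD2⟩ := hD
    interval_cases Z <;> interval_cases D <;> norm_num at he
  rcases hp1 with ⟨e1, D, hD⟩ | ⟨v, hv1, hv2⟩ <;> rcases hp2 with ⟨e2, D', hD'⟩ | ⟨v', hw1, hw2⟩
  · nlinarith [sq_nonneg X, sq_nonneg D, sq_nonneg D']
  · have hcc : v' ^ 2 = c := by linarith
    rcases hc with rfl | rfl
    · exact n105 X D (by linarith)
    · exact (nsq v').2.2 hcc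
  · have hcc : v ^ 2 = c := by linarith
    rcases hc with rfl | rfl
    · exact n105 X D' (by linarith)
    · exact (nsq v).2.2 hcc
  · have hX : X ^ 2 = c - 1 := by linarith
    rcases hc with rfl | rfl
    · exact (nsq X).1 hX
    · exact (nsq X).2.1 hX

end Cfsg.Agent.Order10200960
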