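/-
Enumeration of small multisets from a list.

Main results (namespace `Cfsg.Agent.Order10200960`):
* `msets`, `exists_mem_msets` : the multisets of a given size
* `exists_list_map_eq` : a finite set listed along a list of its images
-/
import Cfsg.Agent.EqLemmas
import Mathlib.Data.Finset.Card
import Mathlib.Data.Multiset.MapFold

set_option autoImplicit false

namespace Cfsg.Agent.Order10200960

/-- The multisets of a given size with members in a list, as lists. -/
def msets {α : Type*} : List α → ℕ → List (List α)
  | [], 0 => [[]]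
  | [], _ + 1 => []
  | a :: L, k => (List.range (k + 1)).flatMap fun j =>
      (msets L (k - j)).map (List.replicate j a ++ ·)

theorem exists_mem_msets {α : Type*} : ∀ (L : List α) (k : ℕ) (M : Multiset α),
    M.card = k → (∀ a ∈ M, a ∈ L) → ∃ S ∈ msets L k, (S : Multiset α) = M
  | [], 0, M, hk, _ => by
    exact ⟨[], by simp [msets], by rw [Multiset.card_eq_zero.mp hk]; rfl⟩
  | [], k + 1, M, hk, hM => by
    obtain ⟨a, ha⟩ := Multiset.card_pos_iff_exists_mem.mp (by rw [hk]; omega : 0 < M.card)
    exact absurd (hM a ha) List.not_mem_nil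
  | a :: L, k, M, hk, hM => by
    classical
    have hsplit := Multiset.filter_add_not (fun b => b = a) M
    have hrep : M.filter (fun b => b = a) = Multiset.replicate (M.count a) a :=
      Multiset.filter_eq' M a
    have hcard := congrArg Multiset.card hsplit
    rw [Multiset.card_add, hrep, Multiset.card_replicate] at hcard
    obtain ⟨S, hS, hSM⟩ := exists_mem_msets L (k - M.count a) (M.filter fun b => ¬ b = a)
      (by omega) fun b hb =>
        (List.mem_cons.mp (hM b (Multiset.mem_of_mem_filter hb))).resolve_left
          (Multiset.mem_filter.mp hb).2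
    refine ⟨List.replicate (M.count a) a ++ S, ?_, ?_⟩
    · rw [msets]
      exact List.mem_flatMap.mpr ⟨M.count a, List.mem_range.mpr (by omega), List.mem_map_of_mem hS⟩
    · rw [← Multiset.coe_add, Multiset.coe_replicate, hSM, ← hrep, hsplit]

theorem exists_list_map_eq {α β : Type*} (f : α → β) : ∀ (L : List β) (s : Multiset α),
    s.map f = (L : Multiset β) → ∃ l : List α, (l : Multiset α) = s ∧ l.map f = L
  | [], s, h => ⟨[], by rw [(Multiset.map_eq_zero (f := f) (s := s)).mp (by simpa using h)]; rfl, rfl⟩
  | b :: L, s, h => by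
    classical
    rw [← Multiset.cons_coe] at h
    obtain ⟨a, ha, hab⟩ := Multiset.mem_map.mp (h ▸ Multiset.mem_cons_self b (L : Multiset β))
    rw [← Multiset.cons_erase ha, Multiset.map_cons, hab, Multiset.cons_inj_right] at h
    obtain ⟨l, hl, hlL⟩ := exists_list_map_eq f L (s.erase a) h
    exact ⟨a :: l, by rw [← Multiset.cons_coe, hl, Multiset.cons_erase ha],
      by rw [List.map_cons, hab, hlL]⟩

theorem exists_list_of_finset {α β : Type*} (f : α → β) {s : Finset α} {L : List β}
    (h : s.val.map f = (L : Multiset β)) :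
    ∃ l : List α, l.Nodup ∧ (∀ a, a ∈ l ↔ a ∈ s) ∧ l.map f = L := by
  obtain ⟨l, hl, hlL⟩ := exists_list_map_eq f L s.val h
  exact ⟨l, Multiset.coe_nodup.mp (hl ▸ s.nodup), fun a => by
    rw [← Finset.mem_val, ← hl, Multiset.mem_coe], hlL⟩

theorem sum_map_eq_of_finset {α β M : Type*} [AddCommMonoid M] (f : α → β) (g : β → M)
    {s : Finset α} {L : List β} (h : s.val.map f = (L : Multiset β)) :
    ∑ a ∈ s, g (f a) = (L.map g).sum := by
  rw [Finset.sum_eq_multiset_sum, show (fun a => g (f a)) = g ∘ f from rfl, ← Multiset.map_map, h,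
    Multiset.map_coe, Multiset.sum_coe]

end Cfsg.Agent.Order10200960
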