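/-
The Sylow subgroups of prime order in a simple group of order 10200960.

Main results (namespace `Cfsg.Agent.Order10200960`):
* `local_data` : centraliser, normaliser and the bound from the alternating group
* `not_dvd_cnt1_symm` : commuting elements of two prime orders
* `false_of_inverted` : no inverting element when the automiser is odd
-/
import Cfsg.Agent.Lib.Order10200960.Data
import Cfsg.Agent.Lib.SmallOrders.OrbitSign
import Cfsg.Agent.Lib.SmallOrders.Check2

set_option autoImplicit false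

namespace Cfsg.Agent.Order10200960

open Subgroup SmallOrders

variable {G : Type*} [Group G] [Finite G]

theorem not_comm_ord [IsSimpleGroup G] (hc : Nat.card G = 10200960) : ¬ IsMulCommutative G :=
  not_isMulCommutative_of_card (by rw [hc]; norm_num)

/-- The four primes dividing the order once. -/
def singlePrimes : List ℕ := [5, 7, 11, 23]

theorem singlePrimes_facts : ∀ p ∈ singlePrimes,
    p ≠ 2 ∧ p ∣ 10200960 ∧ ¬ p ∣ 10200960 / p ∧ ¬ p ^ 2 ∣ 10200960 := by decide +kernel

theorem sylow_card_ord (hc : Nat.card G = 10200960) {p : ℕ} [Fact p.Prime] (hp : p ∈ singlePrimes)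
    (Q : Sylow p G) : Nat.card (Q : Subgroup G) = p := by
  obtain ⟨-, h2, h3, -⟩ := singlePrimes_facts p hp
  rw [card_sylow_subgroup (e := 1) (m := 10200960 / p)
    (by rw [hc, pow_one, Nat.mul_div_cancel' h2]) h3 Q, pow_one]

theorem not_sq_ord (hc : Nat.card G = 10200960) {p : ℕ} (hp : p ∈ singlePrimes) :
    ¬ p ^ 2 ∣ Nat.card G := hc ▸ (singlePrimes_facts p hp).2.2.2

theorem cnt1_same (hc : Nat.card G = 10200960) {p : ℕ} [Fact p.Prime] (hp : p ∈ singlePrimes)
    {a b : G} (ha : orderOf a = p) (hb : orderOf b = p) :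
    Nat.card (cnt1 a) = Nat.card (cnt1 b) := by
  obtain ⟨u, hu⟩ := card_centralizer_const (sylow_card_ord hc hp) ha hb
  rw [← hu, card_centralizer_conj]

/-- The local data at a prime dividing the order once. -/
theorem local_data [IsSimpleGroup G] (hc : Nat.card G = 10200960) {p : ℕ} [Fact p.Prime]
    (hp : p ∈ singlePrimes) {x : G} (hx : orderOf x = p) :
    ∃ c j : ℕ, Nat.card (cnt1 x) = p * c ∧ Nat.card (nrm x) = p * c * j ∧ 1 < j ∧ j ∣ p - 1 ∧
      p * c * j * Nat.card (Sylow p G) = 10200960 ∧ Nat.card (Sylow p G) % p = 1 ∧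
      1 < Nat.card (Sylow p G) ∧ c ∣ altCard ((Nat.card (Sylow p G) - 1) / p) := by
  have hpp : p.Prime := Fact.out
  have hG := not_comm_ord hc
  obtain ⟨hp2, hpn, -, -⟩ := singlePrimes_facts p hp
  obtain ⟨P, hP⟩ := exists_sylow_eq_zpowers (sylow_card_ord hc hp) hx
  obtain ⟨j, hj1, hj2, hCj, -, -⟩ := exists_card_centralizer_mul hG hx P hP
  have hmod : Nat.card (Sylow p G) % p = 1 := by
    have := card_sylow_modEq_one p G
    unfold Nat.ModEq at this
    rwa [Nat.one_mod_eq_one.mpr hpp.ne_one] at this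
  have hd : Nat.card (Sylow p G) = (Nat.card (Sylow p G) - 1) / p * p + 1 := by
    have := Nat.div_add_mod' (Nat.card (Sylow p G)) p
    have h2 : Nat.card (Sylow p G) - 1 = Nat.card (Sylow p G) / p * p := by omega
    rw [h2, Nat.mul_div_cancel _ hpp.pos]
    omega
  obtain ⟨c, hc1, hck⟩ := exists_card_centralizer_dvd hG hp2 hx (sylow_card_ord hc hp) hd
  rw [card_alternatingGroup_fin] at hck
  have hN := card_normalizer_mul_card_sylow P
  rw [hP] at hN hCj
  refine ⟨c, j, hc1, ?_, hj1, hj2, ?_, hmod, one_lt_card_sylow hG (hc ▸ hpn), hck⟩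
  · show Nat.card (normalizer (zpowers x : Set G)) = _
    rw [← hCj, hc1]
  · rw [← hc, ← hN, ← hCj, hc1]

theorem exists_orderOf_of_dvd {q : ℕ} [Fact q.Prime] {H : Subgroup G} (h : q ∣ Nat.card H) :
    ∃ y : G, y ∈ H ∧ orderOf y = q := by
  obtain ⟨⟨y, hy⟩, hyo⟩ := exists_prime_orderOf_dvd_card' q h
  exact ⟨y, hy, by rwa [orderOf_mk] at hyo⟩

/-- If elements of order `q` centralise none of order `p`, nor conversely. -/
theorem not_dvd_cnt1_symm {p q : ℕ} [Fact q.Prime]
    (h : ∀ y : G, orderOf y = q → ¬ p ∣ Nat.card (cnt1 y)) {x : G} (hx : orderOf x = p) :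
    ¬ q ∣ Nat.card (cnt1 x) := fun hd => by
  obtain ⟨y, hy, hyo⟩ := exists_orderOf_of_dvd hd
  refine h y hyo ?_
  rw [← hx]
  exact orderOf_dvd_natCard _ (mem_centralizer_singleton_iff.mpr
    (mem_centralizer_singleton_iff.mp hy).symm)

theorem mem_nrm_of_inverted {x a : G} (h : a * x * a⁻¹ = x⁻¹) : a ∈ nrm x := by
  refine mem_normalizer_fintype fun y hy => ?_
  obtain ⟨i, rfl⟩ := mem_zpowers_iff.mp hy
  rw [← conj_zpow, h]
  exact zpow_mem (inv_mem (mem_zpowers x)) i

/-- No element inverts `x` when `|N : C|` is odd. -/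
theorem false_of_inverted {p c j : ℕ} [Fact p.Prime] (hp2 : p ≠ 2) {x a : G} (hx : orderOf x = p)
    (hC : Nat.card (cnt1 x) = p * c) (hN : Nat.card (nrm x) = p * c * j) (hj : Odd j)
    (h : a * x * a⁻¹ = x⁻¹) : False := by
  let θ : nrm x →* MulAut (zpowers x) := (zpowers x).normalizerMonoidHom
  have hk : θ.ker = (cnt1 x).subgroupOf (nrm x) := by
    rw [cnt1, ← centralizer_zpowers]; exact (zpowers x).normalizerMonoidHom_ker
  have hidx : θ.ker.index = j := by
    have h1 := θ.ker.card_mul_index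
    conv_lhs at h1 => arg 1; rw [hk, Nat.card_congr (subgroupOfEquivOfLe (cnt1_le_nrm x)).toEquiv, hC]
    have hpos : 0 < p * c := hC ▸ Nat.card_pos
    exact Nat.eq_of_mul_eq_mul_left hpos (h1.trans hN)
  have hm := Subgroup.pow_index_mem θ.ker (⟨a, mem_nrm_of_inverted h⟩ : nrm x)
  rw [hidx, hk, mem_subgroupOf, mem_centralizer_singleton_iff] at hm
  simp only [SubgroupClass.coe_pow] at hm
  have h2 : Commute (a * a) x := by
    show a * a * x = x * (a * a)
    have h' : a * x⁻¹ * a⁻¹ = x := by rw [← conj_inv, h, inv_inv]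
    calc a * a * x = a * (a * x * a⁻¹) * a := by group
      _ = (a * x⁻¹ * a⁻¹) * a * a := by rw [h]; group
      _ = x * (a * a) := by rw [h', mul_assoc]
  obtain ⟨k, rfl⟩ := hj
  have h3 : Commute ((a * a) ^ k * a) x := by
    rw [← pow_two, ← pow_mul, ← pow_succ]; exact hm
  have h4 : Commute a x := by
    have := ((h2.pow_left k).inv_left).mul_left h3
    rwa [inv_mul_cancel_left] at this
  rw [h4.eq, mul_inv_cancel_right] at h
  have h5 : x ^ 2 = 1 := by rw [pow_two, mul_eq_one_iff_eq_inv]; exact h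
  have h6 := orderOf_dvd_of_pow_eq_one h5
  rw [hx] at h6
  exact hp2 ((Nat.prime_dvd_prime_iff_eq Fact.out Nat.prime_two).mp h6)

end Cfsg.Agent.Order10200960
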