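/-
Small tools on degrees and signs.

Main results (namespace `Cfsg.Agent.Order10200960`):
* `forall_dvd_of_check` : a property of all divisors from those below the square root
* `defect_le`, `dg_lt`, `dg_ne_one` : degrees in the group
* `Blk.signed`, `Blk.avg_signed` : members with their signs
* `Blk.false_of_nonneg` : the relation between two blocks without negative terms
-/
import Cfsg.Agent.Lib.Order10200960.OrdBlock
import Cfsg.Agent.Lib.Order10200960.OrdLocal

set_option autoImplicit false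

namespace Cfsg.Agent.Order10200960

open Cfsg Cfsg.Agent.Blocks Cfsg.Agent.CyclicDefect Cfsg.Agent.SmallOrders.BlockDegrees
open Cfsg.Agent.OrderM22 (dg)

theorem forall_dvd_of_check {m R : ℕ} (hm : 0 < m) (hR : m < R * R) {P : ℕ → Prop}
    (h : ∀ u < R, u ∣ m → P u ∧ P (m / u)) {d : ℕ} (hd : d ∣ m) : P d := by
  by_cases h1 : d < R
  · exact (h d h1 hd).1
  · obtain ⟨u, hu⟩ := hd
    have hd0 : 0 < d := Nat.pos_of_ne_zero fun e => by rw [e, zero_mul] at hu; omega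
    have h2 : u < R := by
      by_contra h2
      have := Nat.mul_le_mul (not_lt.mp h1) (not_lt.mp h2)
      omega
    have h3 := (h u h2 ⟨d, by rw [hu, mul_comm]⟩).2
    have hu0 : 0 < u := Nat.pos_of_ne_zero fun e => by rw [e, mul_zero] at hu; omega
    rwa [hu, Nat.mul_div_cancel _ hu0] at h3

theorem defect_le {n d r k : ℕ} (hr : r.Prime) (hn : n ≠ 0) (hd : d ≠ 0) (h1 : ¬ r ^ (k + 1) ∣ n)
    (h2 : r ^ k ∣ d) : n.factorization r ≤ d.factorization r := by
  rw [hr.pow_dvd_iff_le_factorization hn] at h1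
  rw [hr.pow_dvd_iff_le_factorization hd] at h2
  omega

variable {G : Type*} [Group G] [Finite G]

theorem dg_pos' (χ : IrrCharacter G) : 0 < dg χ := charDegree_pos χ

theorem sum_dg_sq' [Fintype (IrrCharacter G)] : ∑ χ : IrrCharacter G, dg χ ^ 2 = Nat.card G := by
  have := Fintype.ofFinite G
  apply Nat.cast_injective (R := ℂ)
  rw [← Char.sum_sq_degrees (G := G)]
  push_cast
  exact Finset.sum_congr rfl fun χ _ => by rw [dg_cast]

theorem dg_lt (hc : Nat.card G = 10200960) (χ : IrrCharacter G) : dg χ < 3195 := by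
  have := Fintype.ofFinite (IrrCharacter G)
  have h := Finset.single_le_sum (f := fun ψ : IrrCharacter G => dg ψ ^ 2) (fun _ _ => Nat.zero_le _)
    (Finset.mem_univ χ)
  rw [sum_dg_sq', hc] at h
  by_contra hn
  have := Nat.pow_le_pow_left (not_lt.mp hn) 2
  omega

theorem dg_dvd_ord (hc : Nat.card G = 10200960) (χ : IrrCharacter G) : dg χ ∣ 10200960 :=
  hc ▸ dg_dvd χ

theorem dg_ne_one [IsSimpleGroup G] (hc : Nat.card G = 10200960) {χ : IrrCharacter G}
    (hne : χ ≠ oneChar G) : dg χ ≠ 1 := fun h1 => by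
  have hna : ∃ a b : G, a * b ≠ b * a := by
    by_contra! h
    exact not_comm_ord hc ⟨⟨h⟩⟩
  refine hne (Subtype.ext ((eq_one_of_degree_one hna ?_).trans rfl))
  rw [dg_cast, h1, Nat.cast_one]

variable {p c e lo : ℕ} {x : G} {L : Subgroup G} {A E : Finset (IrrCharacter G)}
  {σ : IrrCharacter G → ℤ} {ε : ℤ}

/-- A member with its sign. -/
theorem Blk.signed (h : Blk p c e lo x L A E σ ε) {χ : IrrCharacter G} (hχ : χ ∈ A ∨ χ ∈ E) :
    lo ≤ dg χ ∧ ∃ s : ℤ, (s = 1 ∨ s = -1) ∧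
      ((χ ∈ A ∧ s = σ χ ∧ s * (dg χ : ℤ) % p = 1) ∨
        (χ ∈ E ∧ s = -ε ∧ -s * (dg χ : ℤ) % p = (e : ℤ) % p)) := by
  rcases hχ with hχ | hχ
  · exact ⟨(h.data.degA χ hχ).1, σ χ, h.data.sign χ hχ, Or.inl ⟨hχ, rfl, (h.data.degA χ hχ).2⟩⟩
  · refine ⟨(h.data.degE χ hχ).1, -ε, ?_, Or.inr ⟨hχ, rfl, ?_⟩⟩
    · rcases h.data.signE with s | s <;> simp [s]
    · rw [neg_neg]; exact (h.data.degE χ hχ).2

/-- The average over the section when the exceptional character is alone. -/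
theorem Blk.avg_signed (h : Blk p c e lo x L A E σ ε) (h1 : E.card = 1) (hep : e + 1 = p)
    {χ : IrrCharacter G} (hne : χ ≠ oneChar G) (havg : avg x L (χ : G → ℂ) ≠ 0) :
    lo ≤ dg χ ∧ ∃ t : ℤ, (t = 1 ∨ t = -1) ∧ t * (dg χ : ℤ) % p = 1 ∧
      avg x L (χ : G → ℂ) = (c : ℂ) * t := by
  obtain ⟨hlo, t, ht, ⟨hm, rfl, hd⟩ | ⟨hm, rfl, hd⟩⟩ :=
    h.signed ((h.mem_of_avg_ne havg).resolve_left hne)
  · exact ⟨hlo, _, ht, hd, h.avg_A hm⟩
  · refine ⟨hlo, _, ht, ?_, ?_⟩
    · have hp : 1 < (p : ℤ) := by exact_mod_cast h.set.hp.one_lt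
      rw [← hep] at hd hp ⊢
      push_cast at hd hp ⊢
      rw [Int.emod_eq_of_lt (a := (e : ℤ)) (by omega) (by omega), neg_neg] at hd
      have h2 : (-ε * (dg χ : ℤ) - 1) % ((e : ℤ) + 1) = 0 := by
        rw [← Int.dvd_iff_emod_eq_zero]
        refine ⟨-(ε * (dg χ : ℤ) / ((e : ℤ) + 1)) - 1, ?_⟩
        have := Int.emod_add_mul_ediv (ε * (dg χ : ℤ)) ((e : ℤ) + 1)
        rw [hd] at this
        linear_combination this
      have := Int.emod_eq_emod_iff_emod_sub_eq_zero.mpr h2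
      rw [this, Int.emod_eq_of_lt zero_le_one (by omega)]
    · have h2 := h.sum_avg_E
      obtain ⟨ψ, hψ⟩ := Finset.card_eq_one.mp h1
      rw [hψ, Finset.mem_singleton] at hm
      subst hm
      rw [hψ, Finset.sum_singleton] at h2
      rw [h2]; push_cast; ring

variable {q c' e' lo' : ℕ} {y : G} {L' : Subgroup G} {A' E' : Finset (IrrCharacter G)}
  {τ : IrrCharacter G → ℤ} {η : ℤ}

/-- No negative term in the relation between two blocks. -/
theorem Blk.false_of_nonneg (h : Blk p c e lo x L A E σ ε) (h' : Blk q c' e' lo' y L' A' E' τ η)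
    (hp : ¬ p ∣ Nat.card (Subgroup.centralizer ({y} : Set G)))
    (hpos : ∀ (χ : IrrCharacter G) (s : ℤ), χ ∈ A ∧ s = σ χ ∨ χ ∈ E ∧ s = -ε →
      ∃ m : ℕ, (s : ℂ) * avg y L' (χ : G → ℂ) = m) : False := by
  classical
  obtain ⟨χe, he⟩ := h.data.nonempty
  have h0 := h.joint h' hp he
  choose! m hm using fun χ (hχ : χ ∈ A) => hpos χ (σ χ) (Or.inl ⟨hχ, rfl⟩)
  obtain ⟨me, hme⟩ := hpos χe (-ε) (Or.inr ⟨he, rfl⟩)
  rw [Finset.sum_congr rfl hm, ← Nat.cast_sum, sub_eq_add_neg, ← neg_mul, ← Int.cast_neg, hme,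
    ← Nat.cast_add, ← Nat.cast_add, Nat.cast_eq_zero] at h0
  have := h'.c_pos
  omega

end Cfsg.Agent.Order10200960
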