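/-
Arithmetic for the principal 11-block when the centraliser of an element of order 11 is larger.

Main results (namespace `Cfsg.Agent.Order10200960`):
* `res11_check` : the residues of the degrees
* `quad_false` : no values at an involution for four degrees with sum `-161`
-/
import Cfsg.Agent.Lib.Order10200960.OrdTools

set_option autoImplicit false
set_option maxRecDepth 10000
set_option synthInstance.maxSize 1024

namespace Cfsg.Agent.Order10200960

/-- The residues mod 23. -/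
def res23 (d : ℕ) : Prop :=
  d % 23 = 0 ∨ d % 23 = 1 ∨ d % 23 = 22 ∨ d % 23 = 11 ∨ d % 23 = 12

instance : DecidablePred res23 := fun d => by unfold res23; infer_instance

/-- The signed degrees that are multiples of 23. -/
def m11 : List ℤ := [-2760, -736, -483, -230, 23, 276, 1035, 1288]

theorem res11_check : ∀ d < (3195 : ℕ), d ∣ 10200960 ∧ 22 ≤ d ∧ res23 d ∧ ¬ 128 ∣ d →
    ∀ s ∈ [(1 : ℤ), -1],
      (s * (d : ℤ) % 11 = 1 →
        (¬ 9 ∣ d → s * (d : ℤ) ∈ m11) ∧ (¬ 7 ∣ d → s * (d : ℤ) ∈ m11 ∨ s * (d : ℤ) = 45)) ∧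
      (s * (d : ℤ) % 11 = 5 →
        (¬ 9 ∣ d → s * (d : ℤ) % 23 = 0 ∨ s * (d : ℤ) = -160) ∧
        (¬ 7 ∣ d → s * (d : ℤ) % 23 = 0 ∨ s * (d : ℤ) = -160)) := by decide +kernel

/-- The possible quadruples. -/
def quads : List (List ℤ) :=
  [[-2760, 23, 1288, 1288], [-2760, 276, 1035, 1288], [-736, -736, 23, 1288], [-736, -736, 276, 1035],
   [-736, -483, -230, 1288], [-736, -483, 23, 1035], [-736, -230, -230, 1035], [-736, 23, 276, 276],
   [-483, -483, -483, 1288], [-483, -483, -230, 1035], [-483, -230, 276, 276], [-483, 23, 23, 276],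
   [-230, -230, 23, 276], [-230, 23, 23, 23]]

theorem quads_check : ∀ a ∈ m11, ∀ b ∈ m11, ∀ c ∈ m11, ∀ d ∈ m11,
    a ≤ b ∧ b ≤ c ∧ c ≤ d ∧ a + b + c + d = -161 → [a, b, c, d] ∈ quads := by decide +kernel

/-- Values congruent to 1 mod 11 below a degree, with the divisibility from the class sum. -/
def vlist (h C : ℕ) (z : ℤ) : List ℤ :=
  (((List.range (2 * (z.natAbs / 11) + 3)).map fun k : ℕ =>
    11 * ((k : ℤ) - (z.natAbs / 11 : ℕ) - 1) + 1)).filter fun v =>
    decide (v.natAbs < z.natAbs) && decide ((z - v) % 4 = 0) && decide (v.natAbs * v.natAbs ≤ C) &&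
      decide (((h : ℤ) * v) % z = 0)

theorem mem_vlist {h C : ℕ} {z v : ℤ} (h1 : v.natAbs < z.natAbs) (h2 : (z - v) % 4 = 0)
    (h3 : v.natAbs * v.natAbs ≤ C) (h4 : ((h : ℤ) * v) % z = 0) (h5 : v % 11 = 1) :
    v ∈ vlist h C z := by
  refine List.mem_filter.mpr ⟨List.mem_map.mpr ⟨((v - 1) / 11 + (z.natAbs / 11 : ℕ) + 1).toNat,
    List.mem_range.mpr (by omega), by omega⟩, ?_⟩
  simp [h1, h2, h3, h4]

/-- No values for one class size and one quadruple. -/
def quadBad (h C : ℕ) : List ℤ → Bool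
  | [a, b, c, d] => (vlist h C a).all fun va => (vlist h C b).all fun vb =>
      (vlist h C c).all fun vc => (vlist h C d).all fun vd =>
        let W := 1 + va + vb + vc + vd
        decide (160 ≤ W.natAbs) || decide ((-160 - W) % 4 ≠ 0) || decide (((h : ℤ) * W) % 160 ≠ 0) ||
          decide (C < 1 + va.natAbs ^ 2 + vb.natAbs ^ 2 + vc.natAbs ^ 2 + vd.natAbs ^ 2 +
            2 * W.natAbs ^ 2) ||
          decide ((10200960 : ℤ) + va ^ 2 * (10200960 / a) + vb ^ 2 * (10200960 / b) +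
            vc ^ 2 * (10200960 / c) + vd ^ 2 * (10200960 / d) + W ^ 2 * 63756 ≠ 0)
  | _ => true

/-- No values for a class size `23 u`. -/
def sizeBad (u : ℕ) : Prop :=
  (443520 / u) % 2 = 0 ∧ u % 11 ≠ 0 → (quads.all (quadBad (23 * u) (443520 / u))) = true

instance : DecidablePred sizeBad := fun u => by unfold sizeBad; infer_instance

theorem sizeBad_check : ∀ u < 666, u ∣ 443520 → sizeBad u ∧ sizeBad (443520 / u) := by decide +kernel

theorem quad_false {h C : ℕ} (hhC : h * C = 10200960) (h23 : 23 ∣ h) (h11 : ¬ 11 ∣ h) (h2 : 2 ∣ C)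
    {a b c d va vb vc vd : ℤ} (ha : a ∈ m11) (hb : b ∈ m11) (hc : c ∈ m11) (hd : d ∈ m11)
    (hord : a ≤ b ∧ b ≤ c ∧ c ≤ d) (hsum : a + b + c + d = -161)
    (hva : va ∈ vlist h C a) (hvb : vb ∈ vlist h C b) (hvc : vc ∈ vlist h C c) (hvd : vd ∈ vlist h C d)
    (hW1 : (1 + va + vb + vc + vd).natAbs < 160) (hW2 : (-160 - (1 + va + vb + vc + vd)) % 4 = 0)
    (hW3 : ((h : ℤ) * (1 + va + vb + vc + vd)) % 160 = 0)
    (hsq : 1 + va.natAbs ^ 2 + vb.natAbs ^ 2 + vc.natAbs ^ 2 + vd.natAbs ^ 2 +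
      2 * (1 + va + vb + vc + vd).natAbs ^ 2 ≤ C)
    (heq : (10200960 : ℤ) + va ^ 2 * (10200960 / a) + vb ^ 2 * (10200960 / b) +
      vc ^ 2 * (10200960 / c) + vd ^ 2 * (10200960 / d) + (1 + va + vb + vc + vd) ^ 2 * 63756 = 0) :
    False := by
  obtain ⟨u, rfl⟩ := h23
  have hu : u * C = 443520 := by linarith
  have hu0 : 0 < u := Nat.pos_of_ne_zero fun e => by rw [e, zero_mul] at hu; omega
  have hC : 443520 / u = C := by rw [← hu, Nat.mul_div_cancel_left _ hu0]
  have h := forall_dvd_of_check (P := sizeBad) (by norm_num) (by norm_num : 443520 < 666 * 666)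
    sizeBad_check ⟨C, hu.symm⟩ ⟨by rw [hC]; omega, fun e => h11 (Dvd.dvd.mul_left
      (Nat.dvd_of_mod_eq_zero e) _)⟩
  rw [hC, List.all_eq_true] at h
  have h' := h _ (quads_check a ha b hb c hc d hd ⟨hord.1, hord.2.1, hord.2.2, hsum⟩)
  simp only [quadBad, List.all_eq_true] at h'
  have h'' := h' va hva vb hvb vc hvc vd hvd
  simp only [Bool.or_eq_true, decide_eq_true_eq] at h''
  rcases h'' with (((h1 | h1) | h1) | h1) | h1
  · omega
  · exact h1 hW2
  · exact h1 hW3
  · omega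
  · exact h1 heq

end Cfsg.Agent.Order10200960
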