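/-
The automiser of order 5 with a proper centraliser of an element of order 11 is impossible.

Main results (namespace `Cfsg.Agent.Order10200960`):
* `int_mod_eleven` : values at a commuting involution
* `false_five` : the case `|N : C| = 5`, `|C| > 11`
-/
import Cfsg.Agent.Lib.Order10200960.OrdColumn
import Cfsg.Agent.Lib.Order10200960.OrdElevenSearch

set_option autoImplicit false
set_option maxRecDepth 10000

namespace Cfsg.Agent.Order10200960

open Cfsg Cfsg.Agent.Blocks Cfsg.Agent.CyclicDefect Cfsg.Agent.SmallOrders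
open Cfsg.Agent.SmallOrders.BlockDegrees (oneChar exists_valData)
open Cfsg.Agent.OrderM22 (dg)

variable {G : Type*} [Group G] [Finite G] [IsSimpleGroup G]

theorem exists_sorted4 {ι : Type*} (f : ι → ℤ) (m : Multiset ι) (h : m.card = 4) :
    ∃ a b c d : ι, m = ↑[a, b, c, d] ∧ f a ≤ f b ∧ f b ≤ f c ∧ f c ≤ f d := by
  set l := m.toList.mergeSort (fun a b => decide (f a ≤ f b)) with hl
  have hperm : l.Perm m.toList := List.mergeSort_perm _ _
  have hlen : l.length = 4 := by rw [hperm.length_eq, Multiset.length_toList, h]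
  have hsort := List.pairwise_mergeSort (le := fun a b => decide (f a ≤ f b))
    (fun a b c h1 h2 => decide_eq_true ((of_decide_eq_true h1).trans (of_decide_eq_true h2)))
    (fun a b => by simp [le_total]) m.toList
  rw [← hl] at hsort
  have hm : m = ↑l := by
    conv_lhs => rw [← Multiset.coe_toList m]
    exact (Multiset.coe_eq_coe.mpr hperm).symm
  match l, hlen, hsort, hm with
  | [a, b, c, d], _, hs, hm =>
    simp only [List.pairwise_cons, List.mem_cons, List.not_mem_nil, or_false, decide_eq_true_eq,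
      forall_eq_or_imp, forall_eq] at hs
    exact ⟨a, b, c, d, hm, hs.1.1, hs.2.1.1, hs.2.2.1⟩

/-- The signed value at a commuting involution is 1 mod 11. -/
theorem int_mod_eleven [Fact (Nat.Prime 11)] {χ : G → ℂ} (hχ : IsCharacter G χ) {g t : G} {s u : ℤ}
    (hg : g ^ 11 = t) (hs : s = 1 ∨ s = -1) (h1 : χ g = s) (h2 : χ t = u) :
    (s * u) % 11 = 1 := by
  obtain ⟨k, hk⟩ := int_congr_pow hχ (p := 11) h1 (by rw [hg]; exact h2)
  push_cast at hk
  rcases hs with rfl | rfl <;> norm_num at hk <;> omega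

theorem false_five (hc : Nat.card G = 10200960) [Fact (Nat.Prime 11)] {x : G} (hx : orderOf x = 11)
    {c : ℕ} (h2 : 2 ∣ c) (hvar : 3 ∣ c ∨ 7 ∣ c) (hC : Nat.card (cnt1 x) = 11 * c)
    (hN : Nat.card (nrm x) = 11 * c * 5) : False := by
  classical
  have : Fact (Nat.Prime 2) := ⟨Nat.prime_two⟩
  have : Fact (Nat.Prime 3) := ⟨Nat.prime_three⟩
  have : Fact (Nat.Prime 7) := ⟨by norm_num⟩
  have : Fact (Nat.Prime 23) := ⟨by norm_num⟩
  have hc1 : 1 < c := by
    rcases Nat.eq_zero_or_pos c with rfl | _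
    · rw [mul_zero] at hC; exact absurd hC Nat.card_pos.ne'
    · obtain ⟨k, rfl⟩ := h2; omega
  obtain ⟨t, htC, hto⟩ := exists_orderOf_of_dvd (q := 2) (H := cnt1 x)
    (by rw [hC]; exact dvd_mul_of_dvd_right h2 _)
  obtain ⟨L, A, E, σ, ε, χe, u, hS, hcK, hD, hχe, hu, hEd, hval, hzero⟩ :=
    exists_valData (lo := 22) (not_comm_ord hc) (by norm_num) hx (not_sq_ord hc (by decide)) hC hN
      (Or.inr ⟨hc1, le_rfl⟩) hto
  have h : Blk 11 c 5 22 x L A E σ ε := ⟨hS, hcK, hD⟩
  have hv : ∀ r k : ℕ, [Fact r.Prime] → r ∣ c → ¬ r ^ (k + 1) ∣ 10200960 →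
      ∀ χ, χ ∈ A ∨ χ ∈ E → ¬ r ^ k ∣ dg χ := by
    intro r k hr hrc hr2 χ hmem hrd
    have := h.not_mem_of_vanish (χ := χ) hrc (defect_le hr.out Nat.card_pos.ne'
      (dg_pos' χ).ne' (by rwa [hc]) hrd)
    exact hmem.elim this.1 this.2
  -- the signed degrees
  have hA : ∀ χ ∈ A, σ χ * (dg χ : ℤ) ∈ m11 ∨ (σ χ * (dg χ : ℤ) = 45 ∧ ¬ 3 ∣ c) := by
    intro χ hχ
    obtain ⟨hlo, hd⟩ := hD.degA χ hχ
    have h128 := hv 2 7 h2 (by norm_num) χ (Or.inl hχ)
    norm_num at h128
    obtain ⟨k1, -⟩ := res11_check _ (dg_lt hc χ) ⟨dg_dvd_ord hc χ, hlo, allowed23 hc χ, h128⟩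
      (σ χ) (by simpa using hD.sign χ hχ)
    by_cases h3 : 3 ∣ c
    · exact Or.inl ((k1 hd).1 (by simpa using hv 3 2 h3 (by norm_num) χ (Or.inl hχ)))
    · rcases (k1 hd).2 (by simpa using hv 7 1 (hvar.resolve_left h3) (by norm_num) χ (Or.inl hχ))
        with e | e
      exacts [Or.inl e, Or.inr ⟨e, h3⟩]
  have hE : ε * (dg χe : ℤ) % 23 = 0 ∨ ε * (dg χe : ℤ) = -160 := by
    obtain ⟨hlo, hd⟩ := hD.degE χe hχe
    have h128 := hv 2 7 h2 (by norm_num) χe (Or.inr hχe)
    norm_num at h128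
    obtain ⟨-, k1⟩ := res11_check _ (dg_lt hc χe) ⟨dg_dvd_ord hc χe, hlo, allowed23 hc χe, h128⟩
      ε (by simpa using hD.signE)
    have hd' : ε * (dg χe : ℤ) % 11 = 5 := by simp only [dg] at hd ⊢; norm_num at hd; exact hd
    rcases hvar with h3 | h7
    · exact (k1 hd').1 (by simpa using hv 3 2 h3 (by norm_num) χe (Or.inr hχe))
    · exact (k1 hd').2 (by simpa using hv 7 1 h7 (by norm_num) χe (Or.inr hχe))
  have hm23 : ∀ z ∈ m11, z % 23 = 0 := by decide
  set A45 := A.filter fun χ => σ χ * (dg χ : ℤ) = 45 with hA45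
  have hcardA : A.card = 4 := by have := hD.cardA; omega
  have hsum : (∑ χ ∈ A, σ χ * (dg χ : ℤ)) % 23 = (-(A45.card : ℤ)) % 23 := by
    rw [← Finset.sum_filter_add_sum_filter_not A fun χ => σ χ * (dg χ : ℤ) = 45, ← hA45,
      Finset.sum_congr rfl (s₁ := A45) (g := fun _ => (45 : ℤ))
        (fun χ hχ => (Finset.mem_filter.mp hχ).2), Finset.sum_const, nsmul_eq_mul]
    obtain ⟨q, hq⟩ : (23 : ℤ) ∣ ∑ χ ∈ A.filter (fun χ => ¬ σ χ * (dg χ : ℤ) = 45), σ χ * (dg χ : ℤ) :=
      Finset.dvd_sum fun χ hχ => by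
        obtain ⟨h1, h2'⟩ := Finset.mem_filter.mp hχ
        refine Int.dvd_of_emod_eq_zero (hm23 _ ((hA χ h1).resolve_right fun e => h2' e.1))
    rw [hq]; omega
  have hkle : A45.card ≤ 4 := hcardA ▸ Finset.card_filter_le _ _
  have hdeg := h.deg_eq hχe
  have hk : A45.card = 0 ∧ ε * (dg χe : ℤ) = -160 := by
    by_cases h0 : A45.card = 0
    · exact ⟨h0, by rcases hE with e | e <;> omega⟩
    exfalso
    have h1 : A45.card = 1 ∧ ε * (dg χe : ℤ) % 23 = 0 := by rcases hE with e | e <;> omega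
    obtain ⟨χ, hχ⟩ := Finset.card_eq_one.mp h1.1
    have hχA : χ ∈ A45 := by rw [hχ]; exact Finset.mem_singleton_self _
    rw [hA45, Finset.mem_filter] at hχA
    obtain ⟨hmem, h45⟩ := hχA
    have hd45 : dg χ = 45 := by rcases hD.sign χ hmem with e | e <;> rw [e] at h45 <;> omega
    have hn3 : ¬ 3 ∣ c := fun h3 => by
      rcases hA χ hmem with e | e
      · rw [h45] at e; exact absurd e (by decide)
      · exact e.2 h3
    refine h.false_of_small (not_comm_ord hc) (r := 7) (hvar.resolve_left hn3) (by norm_num)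
      (h.ne_one_A hmem) (hD.sign χ hmem) (hD.valA χ hmem) ?_ (by omega)
    intro ψ hψ hdψ
    rcases hψ with hψ | hψ
    · have hz : σ ψ * (dg ψ : ℤ) = 45 := by
        rcases hA ψ hψ with e | e
        · have := hm23 _ e
          rcases hD.sign ψ hψ with s | s <;> rw [s] at this <;> omega
        · exact e.1
      have : ψ ∈ A45 := by rw [hA45, Finset.mem_filter]; exact ⟨hψ, hz⟩
      rwa [hχ, Finset.mem_singleton] at this
    · have := h.dgE hψ hχe
      rcases hD.signE with s | s <;> rw [s] at h1 <;> omega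
  obtain ⟨hk0, hy⟩ := hk
  have hAm : ∀ χ ∈ A, σ χ * (dg χ : ℤ) ∈ m11 := fun χ hχ => (hA χ hχ).resolve_right fun e => by
    have : χ ∈ A45 := Finset.mem_filter.mpr ⟨hχ, e.1⟩
    rw [Finset.card_eq_zero.mp hk0] at this
    exact Finset.notMem_empty _ this
  obtain ⟨a, b, c', d, hl, hab, hbc, hcd⟩ :=
    exists_sorted4 (fun χ => σ χ * (dg χ : ℤ)) A.val hcardA
  have hmem : ∀ χ, χ ∈ [a, b, c', d] → χ ∈ A := fun χ hχ => by
    show χ ∈ A.val
    rw [hl]; exact hχ
  -- the class of `t`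
  set C := Nat.card (cnt1 t) with hCdef
  set m := (cnt1 t).index with hmdef
  have hmC : m * C = 10200960 := by rw [hmdef, hCdef, Subgroup.index_mul_card, hc]
  have hxt : x ∈ cnt1 t := Subgroup.mem_centralizer_singleton_iff.mpr
    (Subgroup.mem_centralizer_singleton_iff.mp htC).symm
  have h11C : 11 ∣ C := hx ▸ Subgroup.orderOf_dvd_natCard _ hxt
  have h2C : 2 ∣ C := hto ▸ Subgroup.orderOf_dvd_natCard _
    (Subgroup.mem_centralizer_singleton_iff.mpr rfl)
  have h11m : ¬ 11 ∣ m := fun hd => by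
    have := Nat.mul_dvd_mul hd h11C
    rw [hmC] at this; norm_num at this
  have h23m : 23 ∣ m := by
    have h23C : ¬ 23 ∣ C := not_dvd_cnt1_symm (q := 23) (fun y hy => by
      rw [(twentyThree_data hc hy).1]; norm_num) hto
    exact (Nat.Prime.dvd_mul (by norm_num)).mp (hmC ▸ (by norm_num : 23 ∣ 10200960)) |>.resolve_right h23C
  obtain ⟨-, hv1, hW1, hW2, hsq, -⟩ := hval
  obtain ⟨k, hk⟩ := mem_K_of_regular hS htC (m := 2) (by rw [← hto, pow_orderOf_eq_one]) (by norm_num)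
  have ht11 : (x * t) ^ 11 = t := by
    have hcm : Commute x t := (Subgroup.mem_centralizer_singleton_iff.mp htC).symm
    rw [hcm.mul_pow,
      show x ^ 11 = 1 by rw [← hx, pow_orderOf_eq_one], one_mul,
      show 11 = 2 * 5 + 1 by rfl, pow_succ, pow_mul, show t ^ 2 = 1 by rw [← hto, pow_orderOf_eq_one],
      one_pow, one_mul]
  have hmod : ∀ χ ∈ A, (σ χ * u χ) % 11 = 1 := fun χ hχ =>
    int_mod_eleven (Char.IsIrrCharacter.isCharacter χ.2) ht11 (hD.sign χ hχ)
      (hk ▸ hD.valA χ hχ k) (hu χ)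
  have hdvd : ∀ χ ∈ A, ((m : ℤ) * (σ χ * u χ)) % (σ χ * (dg χ : ℤ)) = 0 := fun χ hχ => by
    have := dvd_class_mul χ (hu χ)
    rw [← hmdef] at this
    refine Int.emod_eq_zero_of_dvd ?_
    rcases hD.sign χ hχ with s | s <;> rw [s]
    · simpa using this
    · rw [neg_one_mul, neg_one_mul, mul_neg]; exact Int.neg_dvd.mpr this.neg_right
  rw [hy] at hW1 hW2
  have hb : ∀ χ ∈ A, σ χ * u χ ∈ vlist m C (σ χ * (dg χ : ℤ)) := fun χ hχ => by
    have hq := hv1 _ (Multiset.mem_map_of_mem _ (show χ ∈ A.val from hχ))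
    refine mem_vlist hq.1 hq.2 ?_ (hdvd χ hχ) (hmod χ hχ)
    have hle : (u χ).natAbs ^ 2 ≤
        ((A.val.map fun χ => (σ χ * (dg χ : ℤ), σ χ * u χ)).map fun q => q.2.natAbs ^ 2).sum := by
      rw [Multiset.map_map]
      refine le_trans ?_ (Multiset.single_le_sum (fun _ _ => Nat.zero_le _) _
        (Multiset.mem_map_of_mem _ (show χ ∈ A.val from hχ)))
      rcases hD.sign χ hχ with s | s <;> simp [Function.comp, s]
    have hs : (σ χ * u χ).natAbs = (u χ).natAbs := by rcases hD.sign χ hχ with s | s <;> simp [s]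
    rw [hs, ← pow_two]
    simp only [dg] at hle
    exact hle.trans (le_trans (by omega) hsq)
  have hno : ¬ ∃ w, IsConj t w ∧ w * x * w⁻¹ = x⁻¹ := fun ⟨w, _, hw⟩ =>
    false_of_inverted (by norm_num) hx hC hN (by decide) hw
  have heq := hzero hno
  rw [mul_eq_zero, or_iff_right (show (c : ℤ) ≠ 0 by omega)] at heq
  simp only [hc] at heq
  have hue : (m : ℤ) * (1 + (σ a * u a + σ b * u b + σ c' * u c' + σ d * u d)) % 160 = 0 := by
    have e1 := hD.rel t (by rw [hto]; norm_num) χe hχe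
    simp only [hu] at e1
    have e2 : ε * u χe = 1 + ∑ χ ∈ A, σ χ * u χ := by exact_mod_cast e1
    rw [Finset.sum, hl] at e2
    simp only [Multiset.map_coe, List.map, Multiset.sum_coe, List.sum_cons, List.sum_nil] at e2
    have e3 := dvd_class_mul χe (hu χe)
    rw [← hmdef] at e3
    have e4 : (dg χe : ℤ) = 160 := by
      rcases hD.signE with s | s <;> rw [s] at hy <;> omega
    rw [e4] at e3
    refine Int.emod_eq_zero_of_dvd ?_
    rw [show (1 : ℤ) + (σ a * u a + σ b * u b + σ c' * u c' + σ d * u d) = ε * u χe by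
      rw [e2]; ring, mul_left_comm]
    exact dvd_mul_of_dvd_right e3 _
  rw [Finset.sum, hl] at hdeg
  rw [hy] at heq
  rw [hl] at hW1 hW2 hsq heq
  simp only [Multiset.map_coe, List.map, Multiset.sum_coe, List.sum_cons, List.sum_nil] at hW1 hW2 hsq
  simp only [Multiset.map_coe, List.map, Multiset.sum_coe, List.sum_cons, List.sum_nil] at heq hdeg
  rw [hy] at hdeg
  norm_num only [Int.natAbs_neg, Int.natAbs_natCast] at hW1
  have hi : ∀ i, i ∈ [a, b, c', d] → i ∈ A := hmem
  refine quad_false (h := m) (C := C) hmC h23m h11m h2C (hAm a (hi a (by simp)))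
    (hAm b (hi b (by simp))) (hAm c' (hi c' (by simp))) (hAm d (hi d (by simp))) ⟨hab, hbc, hcd⟩
    (by linarith) (hb a (hi a (by simp))) (hb b (hi b (by simp))) (hb c' (hi c' (by simp)))
    (hb d (hi d (by simp))) ?_ ?_ ?_ ?_ ?_
  · simpa [add_assoc] using hW1
  · simpa [add_assoc] using hW2
  · simpa [add_assoc] using hue
  · norm_num at hsq ⊢
    simpa [add_assoc] using hsq
  · norm_num at heq ⊢
    linarith

end Cfsg.Agent.Order10200960
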