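/-
The elements of order 11 of a simple group of order 10200960.

Main results (namespace `Cfsg.Agent.Order10200960`):
* `false_two`, `false_ten` : the automisers of order 2 and 10
* `eleven_data` : `|C(a)| = 11` and `|N(⟨a⟩)| = 55`
-/
import Cfsg.Agent.Lib.Order10200960.OrdElevenFive

set_option autoImplicit false
set_option maxRecDepth 10000
set_option synthInstance.maxSize 1024

namespace Cfsg.Agent.Order10200960

open Cfsg Cfsg.Agent.Blocks Cfsg.Agent.CyclicDefect Cfsg.Agent.SmallOrders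
open Cfsg.Agent.SmallOrders.BlockDegrees (oneChar)
open Cfsg.Agent.OrderM22 (dg)

/-- The centralisers left by the Sylow count. -/
def cases11 (d : ℕ) : Prop :=
  1 < d ∧ d % 11 = 1 → ∀ j ∈ [2, 5, 10],
    j * d ∣ 927360 ∧ ¬ 23 ∣ 927360 / (j * d) ∧
      (30 < (d - 1) / 11 ∨ 927360 / (j * d) ∣ altCard ((d - 1) / 11)) →
    (j = 5 ∧ 927360 / (j * d) = 1) ∨ (j = 2 ∧ 1 < 927360 / (j * d)) ∨
      ((j = 5 ∨ j = 10) ∧ 2 ∣ 927360 / (j * d) ∧ (3 ∣ 927360 / (j * d) ∨ 7 ∣ 927360 / (j * d)))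

instance : DecidablePred cases11 := fun d => by unfold cases11; infer_instance

theorem cases11_check : ∀ u < 964, u ∣ 927360 → cases11 u ∧ cases11 (927360 / u) := by decide +kernel

theorem two_check : ∀ d < (3195 : ℕ), d ∣ 10200960 ∧ 22 ≤ d ∧ (d % 11 = 1 ∨ d % 11 = 10) →
    ((d + 1) ∣ 10200960 ∧ ((d + 1) % 11 = 2 ∨ (d + 1) % 11 = 9) → d = 23 ∨ d = 45) ∧
    ((d - 1) ∣ 10200960 ∧ ((d - 1) % 11 = 2 ∨ (d - 1) % 11 = 9) → False) := by decide +kernel

variable {G : Type*} [Group G] [Finite G] [IsSimpleGroup G]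

theorem false_two (hc : Nat.card G = 10200960) [Fact (Nat.Prime 11)] {x : G} (hx : orderOf x = 11)
    {c : ℕ} (hc1 : 1 < c) (hC : Nat.card (cnt1 x) = 11 * c)
    (hN : Nat.card (nrm x) = 11 * c * 2) : False := by
  classical
  have : Fact (Nat.Prime 5) := ⟨by norm_num⟩
  obtain ⟨L, A, E, σ, ε, h⟩ := exists_blk (lo := 22) (not_comm_ord hc) (by norm_num) hx
    (not_sq_ord hc (by decide)) hC hN (Or.inr ⟨hc1, le_rfl⟩)
  obtain ⟨χe, hχe⟩ := h.data.nonempty
  obtain ⟨ψ, hψ⟩ := Finset.card_eq_one.mp (show A.card = 1 by have := h.data.cardA; omega)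
  have hψA : ψ ∈ A := by rw [hψ]; exact Finset.mem_singleton_self _
  have heq := h.deg_eq hχe
  rw [hψ, Finset.sum_singleton] at heq
  have h1 := h.data.degA ψ hψA
  have h2 := h.data.degE χe hχe
  obtain ⟨k1, k2⟩ := two_check _ (dg_lt hc ψ) ⟨dg_dvd_ord hc ψ, h1.1, by
    rcases h.data.sign ψ hψA with a | a <;> rw [a] at h1 <;> simp only [dg] at h1 ⊢ <;> omega⟩
  have hr : dg χe % 11 = 2 ∨ dg χe % 11 = 9 := by
    rcases h.data.signE with b | b <;> rw [b] at h2 <;> simp only [dg] at h2 ⊢ <;> omega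
  have := dg_pos' χe
  have hd : (dg ψ = 23 ∨ dg ψ = 45) ∧ dg χe = dg ψ + 1 := by
    have hcases : dg χe = dg ψ + 1 ∨ dg χe = dg ψ - 1 := by
      rcases h.data.sign ψ hψA with a | a <;> rcases h.data.signE with b | b <;>
        rw [a, b] at heq <;> omega
    rcases hcases with e1 | e1 <;> rw [e1] at hr
    · exact ⟨k1 ⟨e1 ▸ dg_dvd_ord hc χe, hr⟩, e1⟩
    · exact (k2 ⟨e1 ▸ dg_dvd_ord hc χe, hr⟩).elim
  have huniq : ∀ φ, φ ∈ A ∨ φ ∈ E → dg φ = dg ψ → φ = ψ := by
    intro φ hφ hdφ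
    rcases hφ with hφ | hφ
    · rw [hψ, Finset.mem_singleton] at hφ; exact hφ
    · rw [h.dgE hφ hχe] at hdφ; omega
  by_cases h5 : 5 ∣ c
  · rcases hd.1 with e | e
    · exact h.false_of_small (not_comm_ord hc) (r := 5) h5 (by norm_num) (h.ne_one_A hψA)
        (h.data.sign ψ hψA) (h.data.valA ψ hψA) huniq (by omega)
    · exact (h.not_mem_of_vanish (χ := ψ) (r := 5) h5 (defect_le (k := 1) (by norm_num)
        Nat.card_pos.ne' (dg_pos' ψ).ne' (by rw [hc]; norm_num) (by rw [e]; norm_num))).1 hψA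
  obtain ⟨b, hb⟩ := exists_prime_orderOf_dvd_card' (G := G) 5 (by rw [hc]; norm_num)
  obtain ⟨c', e', hC', hN', he1, he2, -⟩ := local_data hc (by decide) hb
  obtain ⟨L', A', E', τ, η, h'⟩ := exists_blk (lo := 2) (not_comm_ord hc) (by norm_num) hb
    (not_sq_ord hc (by decide)) hC' hN' (Or.inl le_rfl)
  have h5C : ¬ 5 ∣ Nat.card (cnt1 x) := by
    rw [hC]; intro hd'
    exact h5 ((Nat.Coprime.dvd_mul_left (by norm_num)).mp hd')
  have hnd : ¬ 11 ∣ Nat.card (cnt1 b) := not_dvd_cnt1_symm (p := 5)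
    (fun y hy => by rw [cnt1_same hc (by decide) hy hx]; exact h5C) hb
  have hj : e' = 2 ∨ e' = 4 := by
    have := Nat.le_of_dvd (by norm_num) he2
    interval_cases e' <;> omega
  have hE5 : A'.card + E'.card ≤ 4 := by
    have := h'.data.cardA
    have h3 := h'.data.cardE
    rcases hj with rfl | rfl <;> norm_num at h3 <;> omega
  have he0 : avg b L' (χe : G → ℂ) = 0 := by
    by_contra h0
    have hsub : E ⊆ A' ∪ E' := fun φ hφ => Finset.mem_union.mpr
      ((h'.mem_of_avg_ne (by rwa [h.avg_eqE h' hnd hφ hχe])).resolve_left (h.ne_one_E hφ))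
    have := (Finset.card_le_card hsub).trans (Finset.card_union_le _ _)
    rw [h.data.cardE] at this
    omega
  have hψ0 : avg b L' (ψ : G → ℂ) = 0 := by
    by_contra h0
    rcases (h'.mem_of_avg_ne h0).resolve_left (h.ne_one_A hψA) with hm | hm
    · have := h'.data.degA ψ hm
      rcases h'.data.sign ψ hm with a | a <;> rw [a] at this <;> simp only [dg] at this hd <;> omega
    · have hdE := h'.data.degE ψ hm
      rcases hj with rfl | rfl
      · obtain ⟨φ, hφ, hne⟩ : ∃ φ ∈ E', φ ≠ ψ :=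
          Finset.exists_mem_ne (by rw [h'.data.cardE]; norm_num) ψ
        refine hne (huniq φ ((h.mem_of_avg_ne ?_).resolve_left (h'.ne_one_E hφ)) (h'.dgE hφ hm))
        rw [h'.avg_eqE h h5C hφ hm, h.avg_A hψA]
        refine mul_ne_zero (Nat.cast_ne_zero.mpr (by omega)) ?_
        rcases h.data.sign ψ hψA with a | a <;> simp [a]
      · rcases h'.data.signE with a | a <;> rw [a] at hdE <;> simp only [dg] at hdE hd <;> omega
  have h0 := h.joint h' hnd hχe
  rw [hψ, Finset.sum_singleton, hψ0, he0, mul_zero, mul_zero, add_zero, sub_zero,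
    Nat.cast_eq_zero] at h0
  have := h'.c_pos
  omega

theorem false_ten (hc : Nat.card G = 10200960) [Fact (Nat.Prime 11)] {x : G} (hx : orderOf x = 11)
    {c : ℕ} (h2 : 2 ∣ c) (hvar : 3 ∣ c ∨ 7 ∣ c) (hC : Nat.card (cnt1 x) = 11 * c)
    (hN : Nat.card (nrm x) = 11 * c * 10) : False := by
  classical
  have : Fact (Nat.Prime 2) := ⟨Nat.prime_two⟩
  have : Fact (Nat.Prime 3) := ⟨Nat.prime_three⟩
  have : Fact (Nat.Prime 7) := ⟨by norm_num⟩
  have hc1 : 1 < c := by
    rcases Nat.eq_zero_or_pos c with rfl | _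
    · rw [mul_zero] at hC; exact absurd hC Nat.card_pos.ne'
    · obtain ⟨k, rfl⟩ := h2; omega
  obtain ⟨L, A, E, σ, ε, h⟩ := exists_blk (lo := 22) (not_comm_ord hc) (by norm_num) hx
    (not_sq_ord hc (by decide)) hC hN (Or.inr ⟨hc1, le_rfl⟩)
  have hE1 : E.card = 1 := by rw [h.data.cardE]
  obtain ⟨χe, hχe⟩ := Finset.card_eq_one.mp hE1
  have heE : χe ∈ E := by rw [hχe]; exact Finset.mem_singleton_self _
  have hnA : χe ∉ A := fun hm => Finset.disjoint_left.mp h.data.disj hm heE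
  set s : IrrCharacter G → ℤ := fun χ => if χ ∈ A then σ χ else -ε with hsdef
  have hs : ∀ χ, χ ∈ A ∨ χ ∈ E → (s χ = 1 ∨ s χ = -1) ∧ 22 ≤ dg χ ∧ s χ * (dg χ : ℤ) % 11 = 1 ∧
      ∀ k : K x L, (χ : G → ℂ) (x * ((k : L) : G)) = s χ := by
    intro χ hχ
    by_cases hA : χ ∈ A
    · simp only [hsdef, if_pos hA]
      exact ⟨h.data.sign χ hA, (h.data.degA χ hA).1, (h.data.degA χ hA).2, h.data.valA χ hA⟩
    · have hm := hχ.resolve_left hA
      have hd := h.data.degE χ hm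
      have hv := h.data.valE
      rw [hχe, Finset.mem_singleton] at hm
      subst hm
      simp only [hsdef, if_neg hA]
      refine ⟨by rcases h.data.signE with e | e <;> simp [e], hd.1, ?_, fun k => ?_⟩
      · have hd2 := hd.2
        norm_num at hd2
        rcases h.data.signE with e | e <;> rw [e] at hd2 ⊢ <;> simp only [dg] at hd2 ⊢ <;> omega
      · have := hv k
        rw [hχe, Finset.sum_singleton] at this
        rw [this]; push_cast; rfl
  have hz : ∀ χ, χ ∈ A ∨ χ ∈ E →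
      s χ * (dg χ : ℤ) ∈ m11 ∨ (s χ * (dg χ : ℤ) = 45 ∧ ¬ 3 ∣ c) := by
    intro χ hχ
    obtain ⟨hsg, hlo, hd, -⟩ := hs χ hχ
    have hv : ∀ r k : ℕ, [Fact r.Prime] → r ∣ c → ¬ r ^ (k + 1) ∣ 10200960 → ¬ r ^ k ∣ dg χ := by
      intro r k hr hrc hr2 hrd
      have := h.not_mem_of_vanish (χ := χ) hrc (defect_le hr.out Nat.card_pos.ne'
        (dg_pos' χ).ne' (by rwa [hc]) hrd)
      exact hχ.elim this.1 this.2
    have h128 := hv 2 7 h2 (by norm_num)
    norm_num at h128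
    obtain ⟨k1, -⟩ := res11_check _ (dg_lt hc χ) ⟨dg_dvd_ord hc χ, hlo, allowed23 hc χ, h128⟩
      (s χ) (by simpa using hsg)
    by_cases h3 : 3 ∣ c
    · exact Or.inl ((k1 hd).1 (by simpa using hv 3 2 h3 (by norm_num)))
    · rcases (k1 hd).2 (by simpa using hv 7 1 (hvar.resolve_left h3) (by norm_num)) with e | e
      exacts [Or.inl e, Or.inr ⟨e, h3⟩]
  have hm23 : ∀ z ∈ m11, z % 23 = 0 := by decide
  set S := A ∪ E with hS
  have hmemS : ∀ χ ∈ S, χ ∈ A ∨ χ ∈ E := fun χ hχ => Finset.mem_union.mp hχ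
  have hScard : S.card = 10 := by
    rw [hS, Finset.card_union_of_disjoint h.data.disj, hE1]
    have := h.data.cardA; omega
  have hsum : ∑ χ ∈ S, s χ * (dg χ : ℤ) = -1 := by
    rw [hS, Finset.sum_union h.data.disj, hχe, Finset.sum_singleton,
      Finset.sum_congr rfl (s₁ := A) (g := fun χ => σ χ * (dg χ : ℤ))
        (fun χ hχ => by simp only [hsdef, if_pos hχ])]
    have := h.deg_eq heE
    simp only [hsdef, if_neg hnA]
    linarith
  set T := S.filter fun χ => s χ * (dg χ : ℤ) = 45 with hT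
  have hT1 : T.card = 1 := by
    have hle : T.card ≤ 10 := hScard ▸ Finset.card_filter_le _ _
    rw [← Finset.sum_filter_add_sum_filter_not S fun χ => s χ * (dg χ : ℤ) = 45, ← hT,
      Finset.sum_congr rfl (s₁ := T) (g := fun _ => (45 : ℤ))
        (fun χ hχ => (Finset.mem_filter.mp hχ).2), Finset.sum_const, nsmul_eq_mul] at hsum
    obtain ⟨q, hq⟩ : (23 : ℤ) ∣ ∑ χ ∈ S.filter (fun χ => ¬ s χ * (dg χ : ℤ) = 45), s χ * (dg χ : ℤ) :=
      Finset.dvd_sum fun χ hχ => by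
        obtain ⟨h1, h2'⟩ := Finset.mem_filter.mp hχ
        exact Int.dvd_of_emod_eq_zero (hm23 _ ((hz χ (hmemS χ h1)).resolve_right fun e => h2' e.1))
    omega
  obtain ⟨χ, hχ⟩ := Finset.card_eq_one.mp hT1
  have hχT : χ ∈ T := by rw [hχ]; exact Finset.mem_singleton_self _
  rw [hT, Finset.mem_filter] at hχT
  obtain ⟨hmem, h45⟩ := hχT
  obtain ⟨hsg, -, -, hv⟩ := hs χ (hmemS χ hmem)
  have hd45 : dg χ = 45 := by rcases hsg with e | e <;> rw [e] at h45 <;> omega
  have hn3 : ¬ 3 ∣ c := fun h3 => by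
    rcases hz χ (hmemS χ hmem) with e | e
    · rw [h45] at e; exact absurd e (by decide)
    · exact e.2 h3
  refine h.false_of_small (not_comm_ord hc) (r := 7) (hvar.resolve_left hn3) (by norm_num)
    ((hmemS χ hmem).elim h.ne_one_A h.ne_one_E) hsg hv ?_ (by omega)
  intro ψ hψ hdψ
  have hψT : ψ ∈ T := by
    refine Finset.mem_filter.mpr ⟨Finset.mem_union.mpr hψ, ?_⟩
    rcases hz ψ hψ with e | e
    · have := hm23 _ e
      rcases (hs ψ hψ).1 with a | a <;> rw [a] at this <;> omega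
    · exact e.1
  rwa [hχ, Finset.mem_singleton] at hψT

theorem eleven_data (hc : Nat.card G = 10200960) {x : G} (hx : orderOf x = 11) :
    Nat.card (cnt1 x) = 11 ∧ Nat.card (nrm x) = 55 := by
  have : Fact (Nat.Prime 11) := ⟨by norm_num⟩
  have : Fact (Nat.Prime 23) := ⟨by norm_num⟩
  obtain ⟨c, j, hC, hN, hj1, hj2, hn, hmod, hd1, hck⟩ := local_data hc (by decide) hx
  set d := Nat.card (Sylow 11 G)
  have hprod : c * j * d = 927360 := by nlinarith
  have hj : j ∈ [2, 5, 10] := by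
    have : ∀ j < 11, 1 < j → j ∣ 10 → j ∈ [2, 5, 10] := by decide
    exact this j (by have := Nat.le_of_dvd (by norm_num) hj2; omega) hj1 hj2
  have hdd : d ∣ 927360 := ⟨c * j, by rw [← hprod]; ring⟩
  have hjd : j * d ∣ 927360 := ⟨c, by rw [← hprod]; ring⟩
  have hcd : 927360 / (j * d) = c := by
    rw [← hprod, show c * j * d = c * (j * d) by ring]
    exact Nat.mul_div_cancel _ (Nat.mul_pos (by omega) (by omega))
  have h23 : ¬ 23 ∣ c := fun hd =>
    not_dvd_cnt1_symm (q := 23) (p := 11)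
      (fun y hy => by rw [(twentyThree_data hc hy).1]; norm_num) hx
      (hC ▸ dvd_mul_of_dvd_right hd _)
  have := forall_dvd_of_check (P := cases11) (by norm_num) (by norm_num : 927360 < 964 * 964)
    cases11_check hdd ⟨hd1, hmod⟩ j hj ⟨hjd, by rwa [hcd], Or.inr (by rwa [hcd])⟩
  rw [hcd] at this
  rcases this with ⟨rfl, rfl⟩ | ⟨rfl, h1⟩ | ⟨hj', h2, h37⟩
  · exact ⟨hC, hN⟩
  · exact (false_two hc hx h1 hC hN).elim
  · rcases hj' with rfl | rfl
    · exact (false_five hc hx h2 h37 hC hN).elim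
    · exact (false_ten hc hx h2 h37 hC hN).elim

end Cfsg.Agent.Order10200960
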