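/-
The residues of the degrees at the primes 11 and 23.

Main results (namespace `Cfsg.Agent.Order10200960`):
* `w11`, `col11`, `allowed11` : the column at an element of order 11
* `no_degree_eleven` : no character of degree 11, by its tensor square
* `dgList`, `mem_dgList` : the possible degrees
-/
import Cfsg.Agent.Lib.Order10200960.OrdEleven

set_option autoImplicit false
set_option maxRecDepth 10000

open scoped ComplexConjugate

namespace Cfsg.Agent.Order10200960

open Cfsg Cfsg.Agent.Blocks Cfsg.Agent.CyclicDefect Cfsg.Agent.SmallOrders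
open Cfsg.Agent.SmallOrders.BlockDegrees (oneChar)
open Cfsg.Agent.OrderM22 (dg Col exists_col)

/-- Weight at an element of order 11. -/
def w11 (d : ℕ) : ℤ :=
  if d % 11 = 1 then 2 else if d % 11 = 10 then -2 else if d % 11 = 5 then -1
  else if d % 11 = 6 then 1 else 0

/-- The residues mod 11. -/
def res11 (d : ℕ) : Prop :=
  d % 11 = 0 ∨ d % 11 = 1 ∨ d % 11 = 10 ∨ d % 11 = 5 ∨ d % 11 = 6

instance : DecidablePred res11 := fun d => by unfold res11; infer_instance

theorem positive_check : ∀ d < (121 : ℕ), d ∣ 10200960 ∧ d % 23 = 1 ∧ res11 d → d = 1 := by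
  decide +kernel

variable {G : Type*} [Group G] [Finite G]

theorem col11 [IsSimpleGroup G] (hc : Nat.card G = 10200960) {x : G} (hx : orderOf x = 11) :
    ∃ F E, Col 11 5 2 w11 x F E := by
  have : Fact (Nat.Prime 11) := ⟨by norm_num⟩
  obtain ⟨hC, hN⟩ := eleven_data hc hx
  refine exists_col (not_comm_ord hc) (by norm_num) hx (not_sq_ord hc (by decide)) hC hN
    (a := 2) (b := 1) (by norm_num) ?_ ?_ ?_ ?_ ?_ <;> intro d hd <;>
    simp only [w11] <;> split_ifs <;> omega

theorem allowed11 [IsSimpleGroup G] (hc : Nat.card G = 10200960) (χ : IrrCharacter G) :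
    res11 (dg χ) := by
  have : Fact (Nat.Prime 11) := ⟨by norm_num⟩
  obtain ⟨x, hx⟩ := exists_prime_orderOf_dvd_card' (G := G) 11 (by rw [hc]; norm_num)
  obtain ⟨F, E, h⟩ := col11 hc hx
  unfold res11
  by_cases hF : χ ∈ F
  · rcases h.degF χ hF with h1 | h1 <;> omega
  by_cases hE : χ ∈ E
  · rcases h.degE χ hE with h1 | h1 <;> omega
  · have := h.other χ hF hE; omega

theorem no_degree_eleven [IsSimpleGroup G] (hc : Nat.card G = 10200960) (χ : IrrCharacter G) :
    dg χ ≠ 11 := by
  classical
  intro hd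
  have := Fintype.ofFinite G
  have := Fintype.ofFinite (IrrCharacter G)
  have : Fact (Nat.Prime 23) := ⟨by norm_num⟩
  obtain ⟨x, hx⟩ := exists_prime_orderOf_dvd_card' (G := G) 23 (by rw [hc]; norm_num)
  obtain ⟨hC, hN⟩ := twentyThree_data hc hx
  obtain ⟨L, A, E, σ, ε, h⟩ := exists_blk (c := 1) (e := 11) (lo := 2) (not_comm_ord hc) (by norm_num)
    hx (not_sq_ord hc (by decide)) hC hN (Or.inl le_rfl)
  have hsub : Subsingleton (K x L) := (Nat.card_eq_one_iff_unique.mp h.cardK).1
  have := Fintype.ofFinite (K x L)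
  have havg : ∀ ψ : IrrCharacter G, avg x L (ψ : G → ℂ) = (ψ : G → ℂ) x := fun ψ => by
    rw [avg_eq, Fintype.sum_subsingleton _ 1, OneMemClass.coe_one, OneMemClass.coe_one, mul_one]
  have hA : ∀ ψ ∈ A, (ψ : G → ℂ) x = σ ψ := fun ψ hψ => by
    rw [← havg, h.avg_A hψ, Nat.cast_one, one_mul]
  have hone : (oneChar G : G → ℂ) x = 1 := rfl
  have h11A : ∀ ψ : IrrCharacter G, dg ψ = 11 → ψ ∉ A := fun ψ hdψ hm => by
    have := (h.data.degA ψ hm).2
    rcases h.data.sign ψ hm with s | s <;> rw [s] at this <;> simp only [dg] at this hdψ <;> omega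
  have horth : (1 : ℂ) + (A.card : ℂ) + ∑ ψ ∈ E, (ψ : G → ℂ) x * conj ((ψ : G → ℂ) x) = 23 := by
    have h1 := Char.column_orth (G := G) x x
    rw [if_pos (IsConj.refl x)] at h1
    rw [show (Nat.card (Subgroup.centralizer ({x} : Set G)) : ℂ) = 23 by
      exact_mod_cast hC] at h1
    rw [← h1, ← Finset.sum_subset (Finset.subset_univ (insert (oneChar G) (A ∪ E))) fun ψ _ hψ => by
      simp only [Finset.mem_insert, Finset.mem_union, not_or] at hψ
      rw [← havg, h.avg_other hψ.1 hψ.2.1 hψ.2.2, zero_mul]]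
    rw [Finset.sum_insert (by simp [h.data.one_notA, h.data.one_notE]),
      Finset.sum_union h.data.disj, hone, map_one, one_mul, ← add_assoc]
    congr 2
    rw [Finset.sum_congr rfl (s₁ := A) (g := fun _ => (1 : ℂ)) fun ψ hψ => by
      rw [hA ψ hψ, map_intCast]
      rcases h.data.sign ψ hψ with s | s <;> simp [s],
      Finset.sum_const, nsmul_eq_mul, mul_one]
  have hE2 : E.card = 2 := by rw [h.data.cardE]
  have hA10 : A.card = 10 := by have := h.data.cardA; omega
  -- the value at `x`
  have hmemE : ∀ ψ : IrrCharacter G, dg ψ = 11 → ψ ∈ E := by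
    intro ψ hdψ
    by_contra hn
    have h0 : (ψ : G → ℂ) x = 0 := by
      rw [← havg]
      refine h.avg_other (fun e => ?_) (h11A ψ hdψ) hn
      rw [e, dg_oneChar] at hdψ; omega
    have := GaloisAvg.dvd_degree_of_apply_eq_zero (p := 23) (k := 1) (g := x)
      (Char.IsIrrCharacter.isCharacter ψ.2) (by rw [pow_one, ← hx, pow_orderOf_eq_one]) (dg_cast ψ) h0
    rw [hdψ] at this; norm_num at this
  obtain ⟨a, b, hab, hEab⟩ := Finset.card_eq_two.mp hE2
  have hε : ε = 1 := by
    have h1 := (h.data.degE χ (hmemE χ hd)).2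
    rcases h.data.signE with s | s
    · exact s
    · exfalso; rw [s] at h1; simp only [dg] at hd; rw [hd] at h1; norm_num at h1
  have hsumE := h.sum_avg_E
  simp only [havg, hEab, Finset.sum_pair hab, hε] at hsumE
  rw [hEab, Finset.sum_pair hab, hA10] at horth
  norm_num at hsumE
  set α := (a : G → ℂ) x with hα
  set β := (b : G → ℂ) x with hβ
  have hdE : ∀ ψ ∈ E, dg ψ = 11 := fun ψ hψ => (h.dgE hψ (hmemE χ hd)).trans hd
  have hconj : β = conj α := by
    let a' : IrrCharacter G := ⟨_, Char.IsIrrCharacter.conj a.2⟩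
    have ha' : a' ∈ E := hmemE a' (by
      show charDegree _ = 11
      rw [← hdE a (by simp [hEab])]
      simp [dg, charDegree, a'])
    rw [hEab, Finset.mem_insert, Finset.mem_singleton] at ha'
    rcases ha' with e | e
    · -- a real value is impossible
      exfalso
      have hr : conj α = α := by
        have := congrArg (fun ψ : IrrCharacter G => (ψ : G → ℂ) x) e
        simpa [a', hα] using this
      have hb : β = -1 - α := by linear_combination hsumE
      rw [hb, map_sub, map_neg, map_one, hr] at horth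
      norm_num at horth
      have h2 : α * β = -(11 : ℂ) / 2 := by rw [hb]; linear_combination (-1 / 2 : ℂ) * horth
      have hint : IsIntegral ℤ (α * β) :=
        (Char.IsCharacter.isIntegral (Char.IsIrrCharacter.isCharacter a.2) x).mul
          (Char.IsCharacter.isIntegral (Char.IsIrrCharacter.isCharacter b.2) x)
      rw [h2, neg_div] at hint
      have := Char.nat_dvd_of_isIntegral_div (m := 11) (n := 2) (by norm_num) (by simpa using hint.neg)
      norm_num at this
    · have := congrArg (fun ψ : IrrCharacter G => (ψ : G → ℂ) x) e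
      simpa [a', hα, hβ] using this.symm
  have hnorm : α * conj α = 6 := by
    rw [hconj, Complex.conj_conj, mul_comm (conj α) α] at horth
    linear_combination (1 / 2 : ℂ) * horth
  have hre : α.re = -1 / 2 ∧ β.re = -1 / 2 := by
    have h1 := congrArg Complex.re hsumE
    have h2 : β.re = α.re := by rw [hconj, Complex.conj_re]
    simp only [Complex.add_re] at h1
    norm_num at h1
    constructor <;> linarith
  -- the tensor square
  set φ : G → ℂ := (a : G → ℂ) * fun g => conj ((a : G → ℂ) g) with hφ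
  have hφc : IsCharacter G φ := Char.IsCharacter.mul (Char.IsIrrCharacter.isCharacter a.2)
    (Char.IsCharacter.conj (Char.IsIrrCharacter.isCharacter a.2))
  obtain ⟨m, hm, hmi⟩ := Char.IsCharacter.decompose hφc
  have hm1 : m (oneChar G) = 1 := by
    have h1 := hmi (oneChar G)
    have h2 : classInner φ (oneChar G : G → ℂ) = classInner (a : G → ℂ) (a : G → ℂ) := by
      simp only [classInner, hφ, oneChar, Pi.mul_apply, Pi.one_apply, map_one, mul_one]
    rw [h2, Char.classInner_irr_self a.2] at h1
    exact_mod_cast h1.symm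
  have heval : ∀ g, φ g = ∑ ψ : IrrCharacter G, (m ψ : ℂ) * (ψ : G → ℂ) g := fun g => by
    conv_lhs => rw [hm]
    simp [Finset.sum_apply]
  have hdeg : ∑ ψ : IrrCharacter G, m ψ * dg ψ = 121 := by
    have h1 := heval 1
    simp only [hφ, Pi.mul_apply, dg_cast, map_natCast, hdE a (by simp [hEab])] at h1
    exact_mod_cast h1.symm
  have hx6 : φ x = 6 := hnorm
  have hbound : ∀ ψ ∈ A, ((m ψ : ℂ) * (ψ : G → ℂ) x).re ≤ 0 := by
    intro ψ hψ
    rw [hA ψ hψ]
    rcases h.data.sign ψ hψ with s | s
    · have h0 : m ψ = 0 := by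
        by_contra h0
        have hle : dg ψ + 1 ≤ 121 := by
          rw [← hdeg, ← Finset.add_sum_erase _ _ (Finset.mem_univ (oneChar G)), hm1, one_mul,
            dg_oneChar]
          have := Finset.single_le_sum (f := fun ξ : IrrCharacter G => m ξ * dg ξ)
            (fun _ _ => Nat.zero_le _)
            (Finset.mem_erase.mpr ⟨h.ne_one_A hψ, Finset.mem_univ ψ⟩)
          have h3 : dg ψ ≤ m ψ * dg ψ := Nat.le_mul_of_pos_left _ (Nat.pos_of_ne_zero h0)
          omega
        have h1 := (h.data.degA ψ hψ).2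
        rw [s, one_mul] at h1
        refine dg_ne_one hc (h.ne_one_A hψ) (positive_check _ (by omega) ⟨dg_dvd_ord hc ψ, ?_,
          allowed11 hc ψ⟩)
        simp only [dg]; omega
      simp [h0]
    · simp [s]
  have hre6 : (6 : ℝ) ≤ 1 := by
    have h1 := congrArg Complex.re (heval x)
    rw [hx6, ← Finset.sum_subset (Finset.subset_univ (insert (oneChar G) (A ∪ E))) fun ψ _ hψ => by
      simp only [Finset.mem_insert, Finset.mem_union, not_or] at hψ
      rw [← havg, h.avg_other hψ.1 hψ.2.1 hψ.2.2, mul_zero],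
      Finset.sum_insert (by simp [h.data.one_notA, h.data.one_notE]),
      Finset.sum_union h.data.disj, hm1, hone, hEab, Finset.sum_pair hab] at h1
    simp only [Complex.add_re, Complex.re_sum, ← hα, ← hβ] at h1
    norm_num [Complex.mul_re] at h1
    have h2 := Finset.sum_nonpos hbound
    simp only [Complex.mul_re, Complex.natCast_re, Complex.natCast_im, zero_mul, sub_zero] at h2
    have h3 : (m a : ℝ) * α.re ≤ 0 := by
      rw [hre.1]; have : (0 : ℝ) ≤ m a := Nat.cast_nonneg _; linarith
    have h4 : (m b : ℝ) * β.re ≤ 0 := by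
      rw [hre.2]; have : (0 : ℝ) ≤ m b := Nat.cast_nonneg _; linarith
    linarith
  norm_num at hre6

/-- The possible degrees. -/
def dgList : List ℕ :=
  (List.range 3195).filter fun d =>
    decide (d ∣ 10200960) && decide (d % 23 = 0 ∨ d % 23 = 1 ∨ d % 23 = 22 ∨ d % 23 = 11 ∨ d % 23 = 12) &&
      decide (res11 d) && decide (d ≠ 11)

theorem mem_dgList [IsSimpleGroup G] (hc : Nat.card G = 10200960) (χ : IrrCharacter G) :
    dg χ ∈ dgList := by
  refine List.mem_filter.mpr ⟨List.mem_range.mpr (dg_lt hc χ), ?_⟩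
  simp only [Bool.and_eq_true, decide_eq_true_eq]
  exact ⟨⟨⟨dg_dvd_ord hc χ, allowed23 hc χ⟩, allowed11 hc χ⟩, no_degree_eleven hc χ⟩

end Cfsg.Agent.Order10200960
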