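/-
The exceptional degrees and the elements of order 5.

Main results (namespace `Cfsg.Agent.Order10200960`):
* `exc_pair` : the two exceptional characters have one degree
* `weights_orth` : the two weights are orthogonal
* `no_degree_126` : by parity
* `five_data` : `|C(b)| = 15`, `|N(⟨b⟩)| = 60` and there is a character of degree 896
-/
import Cfsg.Agent.Lib.Order10200960.OrdResidues

set_option autoImplicit false
set_option maxRecDepth 10000
set_option synthInstance.maxSize 1024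

open scoped ComplexConjugate

namespace Cfsg.Agent.Order10200960

open Cfsg Cfsg.Agent.Blocks Cfsg.Agent.CyclicDefect Cfsg.Agent.SmallOrders
open Cfsg.Agent.SmallOrders.BlockDegrees (oneChar)
open Cfsg.Agent.OrderM22 (dg Col)

theorem no_consecutive : ∀ d ∈ dgList, ∀ m ∈ dgList,
    (d % 5 = 1 ∨ d % 5 = 4) ∧ (m % 5 = 2 ∨ m % 5 = 3) → m ≠ d + 1 ∧ d ≠ m + 1 := by decide +kernel

theorem negative_check : ∀ d ∈ dgList, ∀ s ∈ [(1 : ℤ), -1],
    s * (d : ℤ) % 5 = 1 ∧ s * w23 d < 0 → d = 126 ∨ d = 896 := by decide +kernel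

theorem odd_weights : ∀ d ∈ dgList,
    ((d % 23 = 11 ∨ d % 23 = 12) → w23 d % 2 ≠ 0) ∧
    (¬ (d % 23 = 11 ∨ d % 23 = 12) → w23 d % 2 = 0) ∧
    (¬ (d % 11 = 5 ∨ d % 11 = 6) → w11 d % 2 = 0) := by decide +kernel

variable {G : Type*} [Group G] [Finite G]

theorem exc_pair {p e : ℕ} {a : ℤ} {w : ℕ → ℤ} {x : G} {F E : Finset (IrrCharacter G)}
    (h : Col p e a w x F E) (hp : 1 < p) (hE : E.card = 2) (he : 1 < e ∧ e + 1 < p) :
    ∃ dE, (dE % p = e ∨ dE % p = p - e) ∧
      (∀ χ : IrrCharacter G, χ ∈ E ↔ dg χ = dE) ∧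
      ∀ χ : IrrCharacter G, (dg χ % p = e ∨ dg χ % p = p - e) → dg χ = dE := by
  obtain ⟨χ₀, hχ₀⟩ := Finset.card_pos.mp (by omega : 0 < E.card)
  have h1 : ¬ p ∣ orderOf (1 : G) := by
    rw [orderOf_one]; exact fun hd => by have := Nat.le_of_dvd one_pos hd; omega
  have heq : ∀ χ ∈ E, dg χ = dg χ₀ := fun χ hχ => by
    have e1 := h.eqE χ hχ χ₀ hχ₀ 1 h1
    rw [dg_cast, dg_cast] at e1
    exact_mod_cast e1
  have hres : ∀ χ ∈ E, dg χ % p = e ∨ dg χ % p = p - e := fun χ hχ => by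
    rcases h.degE χ hχ with e1 | e1
    · left
      have : ((dg χ % p : ℕ) : ℤ) = ((e % p : ℕ) : ℤ) := by push_cast; exact e1
      rw [Nat.mod_eq_of_lt (by omega : e < p)] at this
      exact_mod_cast this
    · right
      have e2 : ((dg χ : ℤ) + e) % p = 0 := by
        rw [← Int.dvd_iff_emod_eq_zero]
        have := Int.dvd_of_emod_eq_zero (Int.emod_eq_emod_iff_emod_sub_eq_zero.mp e1)
        have h3 := this.neg_right
        rwa [show -(-(dg χ : ℤ) - (e : ℤ)) = (dg χ : ℤ) + e by ring] at h3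
      have e3 : (dg χ + e) % p = 0 := by exact_mod_cast e2
      have e4 := Nat.mod_lt (dg χ) (show p > 0 by omega)
      rw [Nat.add_mod, Nat.mod_eq_of_lt (by omega : e < p)] at e3
      have e5 : dg χ % p + e < 2 * p := by omega
      rcases Nat.lt_or_ge (dg χ % p + e) p with e6 | e6
      · rw [Nat.mod_eq_of_lt e6] at e3; omega
      · rw [Nat.mod_eq_sub_mod e6, Nat.mod_eq_of_lt (by omega)] at e3; omega
  have hmem : ∀ χ : IrrCharacter G, (dg χ % p = e ∨ dg χ % p = p - e) → χ ∈ E := by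
    intro χ hχ
    by_contra hn
    by_cases hF : χ ∈ F
    · rcases h.degF χ hF with e1 | e1
      · have : dg χ % p = 1 := by exact_mod_cast e1
        omega
      · have e2 : ((dg χ : ℤ) + 1) % p = 0 := by
          rw [← Int.dvd_iff_emod_eq_zero]
          have h2 : (-(dg χ : ℤ)) % p = (1 : ℤ) % p := by
            rw [e1, Int.emod_eq_of_lt zero_le_one (by exact_mod_cast hp)]
          have := Int.dvd_of_emod_eq_zero (Int.emod_eq_emod_iff_emod_sub_eq_zero.mp h2)
          have h3 := this.neg_right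
          rwa [show -(-(dg χ : ℤ) - 1) = (dg χ : ℤ) + 1 by ring] at h3
        have e3 : (dg χ + 1) % p = 0 := by exact_mod_cast e2
        rw [Nat.add_mod, Nat.one_mod_eq_one.mpr (by omega)] at e3
        have e4 := Nat.mod_lt (dg χ) (show p > 0 by omega)
        rcases Nat.lt_or_ge (dg χ % p + 1) p with e6 | e6
        · rw [Nat.mod_eq_of_lt e6] at e3; omega
        · omega
    · have := Nat.dvd_iff_mod_eq_zero.mp (h.other χ hF hn)
      omega
  exact ⟨dg χ₀, hres χ₀ hχ₀,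
    fun χ => ⟨heq χ, fun e1 => hmem χ (by rw [e1]; exact hres χ₀ hχ₀)⟩,
    fun χ hχ => heq χ (hmem χ hχ)⟩

variable [IsSimpleGroup G]

theorem weights_orth (hc : Nat.card G = 10200960) [Fintype (IrrCharacter G)] :
    ∑ χ : IrrCharacter G, w23 (dg χ) * w11 (dg χ) = 0 := by
  classical
  have : Fact (Nat.Prime 11) := ⟨by norm_num⟩
  have : Fact (Nat.Prime 23) := ⟨by norm_num⟩
  obtain ⟨x, hx⟩ := exists_prime_orderOf_dvd_card' (G := G) 23 (by rw [hc]; norm_num)
  obtain ⟨y, hy⟩ := exists_prime_orderOf_dvd_card' (G := G) 11 (by rw [hc]; norm_num)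
  obtain ⟨F, E, h⟩ := col23 hc hx
  obtain ⟨F', E', h'⟩ := col11 hc hy
  have h1 : ¬ 23 ∣ orderOf (1 : G) := by rw [orderOf_one]; norm_num
  have hE : ∀ χ ∈ E, ∀ ψ ∈ E, dg χ = dg ψ := fun χ hχ ψ hψ => by
    have e1 := h.eqE χ hχ ψ hψ 1 h1
    rw [dg_cast, dg_cast] at e1
    exact_mod_cast e1
  have h2 := h.weighted (fun χ => (w11 (dg χ) : ℂ)) fun χ hχ ψ hψ => by rw [hE χ hχ ψ hψ]
  have hxy : ¬ IsConj x y := fun hcj => by
    obtain ⟨u, hu⟩ := isConj_iff.mp hcj
    have := orderOf_injective (MulAut.conj u).toMonoidHom (MulAut.conj u).injective x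
    rw [MulEquiv.toMonoidHom_eq_coe, MonoidHom.coe_coe, MulAut.conj_apply, hu, hy, hx] at this
    omega
  have h3 := congrArg conj (h'.rel (g := x) (by rw [hx]; norm_num) hxy)
  rw [map_sum, map_zero] at h3
  simp only [map_mul, map_intCast] at h3
  rw [h3, mul_zero] at h2
  exact_mod_cast h2.symm

theorem no_degree_126 (hc : Nat.card G = 10200960) (χ : IrrCharacter G) : dg χ ≠ 126 := by
  classical
  intro hd
  have := Fintype.ofFinite (IrrCharacter G)
  have : Fact (Nat.Prime 11) := ⟨by norm_num⟩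
  have : Fact (Nat.Prime 23) := ⟨by norm_num⟩
  obtain ⟨x, hx⟩ := exists_prime_orderOf_dvd_card' (G := G) 23 (by rw [hc]; norm_num)
  obtain ⟨y, hy⟩ := exists_prime_orderOf_dvd_card' (G := G) 11 (by rw [hc]; norm_num)
  obtain ⟨F, E, h⟩ := col23 hc hx
  obtain ⟨F', E', h'⟩ := col11 hc hy
  obtain ⟨d1, -, hE1, hu1⟩ := exc_pair h (by norm_num) (by rw [h.cardE]) (by norm_num)
  obtain ⟨d2, -, -, hu2⟩ := exc_pair h' (by norm_num) (by rw [h'.cardE]) (by norm_num)
  have e1 : d1 = 126 := by rw [← hd]; exact (hu1 χ (by rw [hd]; norm_num)).symm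
  have e2 : d2 = 126 := by rw [← hd]; exact (hu2 χ (by rw [hd]; norm_num)).symm
  subst e1 e2
  have key : ∀ ψ : IrrCharacter G, dg ψ ≠ 126 → 4 ∣ w23 (dg ψ) * w11 (dg ψ) := by
    intro ψ hψ
    obtain ⟨-, k2, k3⟩ := odd_weights _ (mem_dgList hc ψ)
    obtain ⟨u, hu⟩ := Int.dvd_of_emod_eq_zero (k2 fun hr => hψ (hu1 ψ hr))
    obtain ⟨v, hv⟩ := Int.dvd_of_emod_eq_zero (k3 fun hr => hψ (hu2 ψ hr))
    exact ⟨u * v, by rw [hu, hv]; ring⟩
  have h0 := weights_orth (G := G) hc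
  rw [← Finset.sum_filter_add_sum_filter_not Finset.univ fun ψ : IrrCharacter G => dg ψ = 126,
    Finset.sum_congr rfl (g := fun _ => (1 : ℤ)) fun ψ hψ => by
      rw [(Finset.mem_filter.mp hψ).2]; decide,
    Finset.sum_const, nsmul_eq_mul, mul_one] at h0
  have hcard : (Finset.univ.filter fun ψ : IrrCharacter G => dg ψ = 126).card = 2 := by
    have hset : (Finset.univ.filter fun ψ : IrrCharacter G => dg ψ = 126) = E := by
      ext ψ; simp [hE1 ψ]
    rw [hset, h.cardE]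
  rw [hcard] at h0
  obtain ⟨k, hk⟩ : (4 : ℤ) ∣ ∑ ψ ∈ Finset.univ.filter (fun ψ : IrrCharacter G => ¬ dg ψ = 126),
      w23 (dg ψ) * w11 (dg ψ) :=
    Finset.dvd_sum fun ψ hψ => key ψ (Finset.mem_filter.mp hψ).2
  rw [hk] at h0
  push_cast at h0
  omega

theorem five_data (hc : Nat.card G = 10200960) {b : G} (hb : orderOf b = 5) :
    Nat.card (cnt1 b) = 15 ∧ Nat.card (nrm b) = 60 ∧ ∃ χ : IrrCharacter G, dg χ = 896 := by
  classical
  have : Fact (Nat.Prime 2) := ⟨Nat.prime_two⟩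
  have : Fact (Nat.Prime 5) := ⟨by norm_num⟩
  have : Fact (Nat.Prime 7) := ⟨by norm_num⟩
  have : Fact (Nat.Prime 11) := ⟨by norm_num⟩
  have : Fact (Nat.Prime 23) := ⟨by norm_num⟩
  obtain ⟨c, j, hC, hN, hj1, hj2, hn, hmod, -, -⟩ := local_data hc (by decide) hb
  obtain ⟨L, A, E, τ, η, h⟩ := exists_blk (lo := 2) (not_comm_ord hc) (by norm_num) hb
    (not_sq_ord hc (by decide)) hC hN (Or.inl le_rfl)
  have h23 : ¬ 23 ∣ Nat.card (cnt1 b) := not_dvd_cnt1_symm (q := 23)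
    (fun y hy => by rw [(twentyThree_data hc hy).1]; norm_num) hb
  have h11 : ¬ 11 ∣ Nat.card (cnt1 b) := not_dvd_cnt1_symm (q := 11)
    (fun y hy => by rw [(eleven_data hc hy).1]; norm_num) hb
  obtain ⟨χe, hχe⟩ := h.data.nonempty
  have hj : j = 4 := by
    have h1 := Nat.le_of_dvd (by norm_num) hj2
    rcases (show j = 2 ∨ j = 3 ∨ j = 4 by omega) with rfl | rfl | rfl
    · exfalso
      obtain ⟨ψ, hψ⟩ := Finset.card_eq_one.mp (show A.card = 1 by have := h.data.cardA; omega)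
      have hψA : ψ ∈ A := by rw [hψ]; exact Finset.mem_singleton_self _
      have heq := h.deg_eq hχe
      rw [hψ, Finset.sum_singleton] at heq
      have h1 := h.data.degA ψ hψA
      have h2 := h.data.degE χe hχe
      obtain ⟨k1, k2⟩ := no_consecutive _ (mem_dgList hc ψ) _ (mem_dgList hc χe) ⟨by
        rcases h.data.sign ψ hψA with s | s <;> rw [s] at h1 <;> simp only [dg] at h1 ⊢ <;> omega, by
        rcases h.data.signE with s | s <;> rw [s] at h2 <;> simp only [dg] at h2 ⊢ <;> omega⟩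
      have := dg_pos' ψ; have := dg_pos' χe
      rcases h.data.sign ψ hψA with s | s <;> rcases h.data.signE with r | r <;>
        rw [s, r] at heq <;> omega
    · norm_num at hj2
    · rfl
  subst hj
  have hE1 : E.card = 1 := by rw [h.data.cardE]
  obtain ⟨x, hx⟩ := exists_prime_orderOf_dvd_card' (G := G) 23 (by rw [hc]; norm_num)
  obtain ⟨F', E', hcol⟩ := col23 hc hx
  have hjoint := joint_col hcol hx h h23 hχe
  -- a negative term
  obtain ⟨χ, s, hmem, hs, hd, hneg⟩ : ∃ (χ : IrrCharacter G) (s : ℤ), (χ ∈ A ∨ χ ∈ E) ∧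
      (s = 1 ∨ s = -1) ∧ s * (dg χ : ℤ) % 5 = 1 ∧ s * w23 (dg χ) < 0 := by
    by_contra! hno
    have hA : 0 ≤ ∑ ψ ∈ A, τ ψ * w23 (dg ψ) := Finset.sum_nonneg fun ψ hψ =>
      hno ψ (τ ψ) (Or.inl hψ) (h.data.sign ψ hψ) (h.data.degA ψ hψ).2
    have hE : 0 ≤ -η * w23 (dg χe) := by
      refine hno χe (-η) (Or.inr hχe) (by rcases h.data.signE with s | s <;> simp [s]) ?_
      have h2 := (h.data.degE χe hχe).2
      norm_num at h2
      rcases h.data.signE with s | s <;> rw [s] at h2 ⊢ <;> simp only [dg] at h2 ⊢ <;> omega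
    have hw : w23 1 = 2 := by decide
    rw [hw] at hjoint
    linarith
  have h896 : dg χ = 896 := (negative_check _ (mem_dgList hc χ) s (by simpa using hs) ⟨hd, hneg⟩).resolve_left
    (no_degree_126 hc χ)
  have hv : ∀ r k : ℕ, [Fact r.Prime] → ¬ r ^ (k + 1) ∣ 10200960 → r ^ k ∣ 896 → ¬ r ∣ c := by
    intro r k hr hr2 hrd hrc
    have := h.not_mem_of_vanish (χ := χ) hrc (defect_le hr.out Nat.card_pos.ne'
      (dg_pos' χ).ne' (by rwa [hc]) (by rwa [h896]))
    exact hmem.elim this.1 this.2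
  have h2c := hv 2 7 (by norm_num) (by norm_num)
  have h7c := hv 7 1 (by norm_num) (by norm_num)
  set d := Nat.card (Sylow 5 G)
  have h23c : ¬ 23 ∣ c := fun h' => h23 (hC ▸ dvd_mul_of_dvd_right h' _)
  have h11c : ¬ 11 ∣ c := fun h' => h11 (hC ▸ dvd_mul_of_dvd_right h' _)
  have hcd : c * d = 510048 := by linarith
  have hc9 : c ∣ 9 := by
    have hdv : c ∣ 32 * (7 * (11 * (23 * 9))) := ⟨d, by rw [hcd]⟩
    have c2 : Nat.Coprime c 32 := by
      rw [show 32 = 2 ^ 5 by rfl]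
      exact ((Nat.prime_two.coprime_iff_not_dvd.mpr h2c).symm).pow_right 5
    have c7 : Nat.Coprime c 7 := ((Nat.Prime.coprime_iff_not_dvd (by norm_num)).mpr h7c).symm
    have c11 : Nat.Coprime c 11 := ((Nat.Prime.coprime_iff_not_dvd (by norm_num)).mpr h11c).symm
    have c23 : Nat.Coprime c 23 := ((Nat.Prime.coprime_iff_not_dvd (by norm_num)).mpr h23c).symm
    exact c23.dvd_of_dvd_mul_left (c11.dvd_of_dvd_mul_left (c7.dvd_of_dvd_mul_left
      (c2.dvd_of_dvd_mul_left hdv)))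
  have hc3 : c = 3 := by
    have hle := Nat.le_of_dvd (by norm_num) hc9
    have hmem9 : c = 1 ∨ c = 3 ∨ c = 9 := by
      interval_cases c <;> simp_all
    rcases hmem9 with rfl | rfl | rfl <;> omega
  exact ⟨by rw [hC, hc3], by rw [hN, hc3], χ, h896⟩

end Cfsg.Agent.Order10200960
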