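/-
The degrees prime to 253 and their companions.

Main results (namespace `Cfsg.Agent.Order10200960`):
* `Degs`, `exists_degs` : the characters with nonzero weight at 11 or at 23
* `Degs.sum_w11`, `Degs.sum_w23` : the weighted sums
-/
import Cfsg.Agent.Lib.Order10200960.OrdFive
import Cfsg.Agent.Lib.Order10200960.OrdEnum

set_option autoImplicit false
set_option maxRecDepth 10000
set_option synthInstance.maxSize 1024
set_option maxHeartbeats 1000000

open scoped ComplexConjugate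

namespace Cfsg.Agent.Order10200960

open Cfsg Cfsg.Agent.Blocks Cfsg.Agent.CyclicDefect Cfsg.Agent.SmallOrders
open Cfsg.Agent.SmallOrders.BlockDegrees (oneChar)
open Cfsg.Agent.OrderM22 (dg Col)

/-- Degrees which may have nonzero weight at 11. -/
def degs11 : List ℕ := [12, 23, 45, 230, 252, 276, 483, 736, 1035, 1288, 2760]

/-- Degrees divisible by 11 which are `±1` mod 23. -/
def degs23 : List ℕ := [22, 231, 528, 990, 1540]

/-- The degrees of the six characters and the exceptional degree at 23. -/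
def cands : List (List ℕ × ℕ) :=
  ((msets degs23 6).flatMap fun S => [264, 495, 770, 1760, 2772].map fun y => (S, y)).filter fun q =>
    decide ((2 : ℤ) - 180 - 3584 + (q.1.map fun d : ℕ => w23 d * (d : ℤ)).sum + 2 * w23 q.2 * (q.2 : ℤ) = 0) &&
      decide (1 + 2 * 45 ^ 2 + 2 * 896 ^ 2 + 230 ^ 2 + 1035 ^ 2 + (q.1.map fun d => d ^ 2).sum +
        2 * q.2 ^ 2 ≤ 10200960)

theorem degs11_check : ∀ d ∈ dgList, (d % 11 = 1 ∨ d % 11 = 10) → d ≠ 1 → d ∈ degs11 := by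
  decide +kernel

theorem degs23_check : ∀ d ∈ dgList, d % 11 = 0 →
    ((d % 23 = 1 ∨ d % 23 = 22) → d ∈ degs23) ∧
      ((d % 23 = 11 ∨ d % 23 = 12) → d ∈ [264, 495, 770, 1760, 2772]) := by decide +kernel

theorem msets11_check : ∀ S ∈ msets degs11 4,
    (4 : ℤ) + (S.map fun d => w23 d * w11 d).sum + 4 = 0 →
    (2 : ℤ) + (S.map fun d => w11 d * (d : ℤ)).sum - 2 * 896 = 0 →
    S = [45, 45, 230, 1035] ∨ S = [45, 45, 483, 1288] := by decide +kernel

theorem cands_length : cands.length = 15 := by decide +kernel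

variable {G : Type*} [Group G] [Finite G]

theorem mem_F_iff {p e : ℕ} {a : ℤ} {w : ℕ → ℤ} {x : G} {F E : Finset (IrrCharacter G)}
    (h : Col p e a w x F E) (hp : 1 < p) (he : 1 < e ∧ e + 1 < p) (hF : ∀ d : ℕ, p ∣ d → d % p = 0)
    (χ : IrrCharacter G) : χ ∈ F ↔ dg χ % p = 1 ∨ dg χ % p = p - 1 := by
  have key : ∀ d : ℕ, ∀ r : ℕ, r < p → ((d : ℤ) % p = r ↔ d % p = r) := fun d r _ =>
    ⟨fun e1 => by exact_mod_cast e1, fun e1 => by exact_mod_cast e1⟩
  have key2 : ∀ d : ℕ, ∀ r : ℕ, 0 < r → r < p → (-(d : ℤ) % p = r → d % p = p - r) := by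
    intro d r hr hrp e1
    have h2 : ((d : ℤ) + r) % p = 0 := by
      have := Int.dvd_of_emod_eq_zero (Int.emod_eq_emod_iff_emod_sub_eq_zero.mp
        (e1.trans (Int.emod_eq_of_lt (by positivity) (by exact_mod_cast hrp)).symm))
      rw [← Int.dvd_iff_emod_eq_zero]
      have h3 := this.neg_right
      rwa [show -(-(d : ℤ) - (r : ℤ)) = (d : ℤ) + r by ring] at h3
    have h3 : (d + r) % p = 0 := by exact_mod_cast h2
    have h4 := Nat.mod_lt d (show p > 0 by omega)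
    rw [Nat.add_mod, Nat.mod_eq_of_lt hrp] at h3
    rcases Nat.lt_or_ge (d % p + r) p with e6 | e6
    · rw [Nat.mod_eq_of_lt e6] at h3; omega
    · rw [Nat.mod_eq_sub_mod e6, Nat.mod_eq_of_lt (by omega)] at h3; omega
  constructor
  · intro hχ
    rcases h.degF χ hχ with e1 | e1
    · exact Or.inl ((key _ 1 hp).mp (by simpa using e1))
    · exact Or.inr (key2 _ 1 one_pos hp (by simpa using e1))
  · intro hχ
    by_contra hn
    by_cases hE : χ ∈ E
    · have hep : ((e : ℤ) % p) = (e : ℤ) := Int.emod_eq_of_lt (by positivity) (by exact_mod_cast (by omega : e < p))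
      rcases h.degE χ hE with e1 | e1 <;> rw [hep] at e1
      · have := (key _ e (by omega)).mp e1; omega
      · have := key2 _ e (by omega) (by omega) e1; omega
    · have := hF _ (h.other χ hn hE); omega

/-- The characters with nonzero weight at 11 or 23. -/
structure Degs (G : Type*) [Group G] [Finite G] where
  a₁ : IrrCharacter G
  a₂ : IrrCharacter G
  e₁ : IrrCharacter G
  e₂ : IrrCharacter G
  P : IrrCharacter G
  Q : IrrCharacter G
  y₁ : IrrCharacter G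
  y₂ : IrrCharacter G
  six : List (IrrCharacter G)
  dga₁ : dg a₁ = 45
  dga₂ : dg a₂ = 45
  dge₁ : dg e₁ = 896
  dge₂ : dg e₂ = 896
  dgPQ : dg P = 230 ∧ dg Q = 1035 ∨ dg P = 483 ∧ dg Q = 1288
  dgy : dg y₂ = dg y₁
  cand : (six.map dg, dg y₁) ∈ cands
  nodup : (oneChar G :: a₁ :: a₂ :: e₁ :: e₂ :: P :: Q :: y₁ :: y₂ :: six).Nodup
  rest : ∀ χ : IrrCharacter G,
    χ ∉ oneChar G :: a₁ :: a₂ :: e₁ :: e₂ :: P :: Q :: y₁ :: y₂ :: six →
      w23 (dg χ) = 0 ∧ w11 (dg χ) = 0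

/-- All the characters of the structure. -/
def Degs.list (D : Degs G) : List (IrrCharacter G) :=
  oneChar G :: D.a₁ :: D.a₂ :: D.e₁ :: D.e₂ :: D.P :: D.Q :: D.y₁ :: D.y₂ :: D.six

theorem Degs.mem_six (D : Degs G) {χ : IrrCharacter G} (h : χ ∈ D.six) : dg χ ∈ degs23 := by
  have key : ∀ q ∈ cands, ∀ d ∈ q.1, d ∈ degs23 := by decide +kernel
  exact key _ D.cand _ (List.mem_map_of_mem h)

theorem Degs.y_mem (D : Degs G) : dg D.y₁ ∈ [264, 495, 770, 1760] := by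
  have key : ∀ q ∈ cands, q.2 ∈ [264, 495, 770, 1760] := by decide +kernel
  exact key _ D.cand

theorem Degs.sum_list (D : Degs G) [Fintype (IrrCharacter G)] {M : Type*} [AddCommMonoid M]
    (f : IrrCharacter G → M) (hf : ∀ χ, χ ∉ D.list → f χ = 0) :
    ∑ χ, f χ = f (oneChar G) + (f D.a₁ + (f D.a₂ + (f D.e₁ + (f D.e₂ + (f D.P + (f D.Q +
      (f D.y₁ + (f D.y₂ + (D.six.map f).sum)))))))) := by
  classical
  have hnd : D.list.Nodup := D.nodup
  rw [← Finset.sum_subset (Finset.subset_univ D.list.toFinset) fun χ _ hχ => hf χ (by simpa using hχ),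
    List.sum_toFinset f hnd]
  simp only [Degs.list, List.map_cons, List.sum_cons]

/-- Weighted sums at 23. -/
theorem Degs.sum_w23 (D : Degs G) [Fintype (IrrCharacter G)] (φ : IrrCharacter G → ℂ) :
    ∑ χ : IrrCharacter G, (w23 (dg χ) : ℂ) * φ χ = 2 * φ (oneChar G) -
      2 * (φ D.a₁ + φ D.a₂ + φ D.e₁ + φ D.e₂) + (w23 (dg D.y₁) : ℂ) * (φ D.y₁ + φ D.y₂) +
        (D.six.map fun χ => (w23 (dg χ) : ℂ) * φ χ).sum := by
  rw [D.sum_list _ fun χ hχ => by rw [(D.rest χ hχ).1, Int.cast_zero, zero_mul]]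
  have h1 : w23 1 = 2 := by decide
  have h45 : w23 45 = -2 := by decide
  have h896 : w23 896 = -2 := by decide
  have hP : w23 (dg D.P) = 0 ∧ w23 (dg D.Q) = 0 := by
    rcases D.dgPQ with ⟨e1, e2⟩ | ⟨e1, e2⟩ <;> rw [e1, e2] <;> decide
  rw [dg_oneChar, D.dga₁, D.dga₂, D.dge₁, D.dge₂, D.dgy, hP.1, hP.2, h1, h45, h896]
  push_cast
  ring

/-- Weighted sums at 11. -/
theorem Degs.sum_w11 (D : Degs G) [Fintype (IrrCharacter G)] (φ : IrrCharacter G → ℂ) :
    ∑ χ : IrrCharacter G, (w11 (dg χ) : ℂ) * φ χ = 2 * φ (oneChar G) +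
      2 * (φ D.a₁ + φ D.a₂ - φ D.P + φ D.Q) - (φ D.e₁ + φ D.e₂) := by
  rw [D.sum_list _ fun χ hχ => by rw [(D.rest χ hχ).2, Int.cast_zero, zero_mul]]
  have h1 : w11 1 = 2 := by decide
  have h45 : w11 45 = 2 := by decide
  have h896 : w11 896 = -1 := by decide
  have hP : w11 (dg D.P) = -2 ∧ w11 (dg D.Q) = 2 := by
    rcases D.dgPQ with ⟨e1, e2⟩ | ⟨e1, e2⟩ <;> rw [e1, e2] <;> decide
  have hy : w11 (dg D.y₁) = 0 := by
    have key : ∀ d ∈ [264, 495, 770, 1760], w11 d = 0 := by decide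
    exact key _ D.y_mem
  have hS : (D.six.map fun χ => (w11 (dg χ) : ℂ) * φ χ).sum = 0 := by
    refine List.sum_eq_zero fun v hv => ?_
    obtain ⟨χ, hχ, rfl⟩ := List.mem_map.mp hv
    have key : ∀ d ∈ degs23, w11 d = 0 := by decide
    rw [key _ (D.mem_six hχ), Int.cast_zero, zero_mul]
  rw [dg_oneChar, D.dga₁, D.dga₂, D.dge₁, D.dge₂, D.dgy, hP.1, hP.2, h1, h45, h896, hy, hS]
  push_cast
  ring

theorem deg_weighted {p e : ℕ} {a : ℤ} {w : ℕ → ℤ} {x : G} {F E : Finset (IrrCharacter G)}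
    (h : Col p e a w x F E) (hx : orderOf x = p) (hp : 1 < p) [Fintype (IrrCharacter G)] :
    ∑ χ : IrrCharacter G, w (dg χ) * (dg χ : ℤ) = 0 := by
  have h0 := h.rel (g := 1) (by rw [orderOf_one, Nat.dvd_one]; omega) fun hc => by
    obtain ⟨u, hu⟩ := isConj_iff.mp hc
    rw [mul_one, mul_inv_cancel] at hu
    rw [← hu, orderOf_one] at hx
    omega
  simp only [dg_cast] at h0
  exact_mod_cast h0

variable [IsSimpleGroup G]

theorem exists_degs (hc : Nat.card G = 10200960) : Nonempty (Degs G) := by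
  classical
  have := Fintype.ofFinite (IrrCharacter G)
  have : Fact (Nat.Prime 5) := ⟨by norm_num⟩
  have : Fact (Nat.Prime 11) := ⟨by norm_num⟩
  have : Fact (Nat.Prime 23) := ⟨by norm_num⟩
  obtain ⟨b, hb⟩ := exists_prime_orderOf_dvd_card' (G := G) 5 (by rw [hc]; norm_num)
  obtain ⟨x, hx⟩ := exists_prime_orderOf_dvd_card' (G := G) 23 (by rw [hc]; norm_num)
  obtain ⟨z, hz⟩ := exists_prime_orderOf_dvd_card' (G := G) 11 (by rw [hc]; norm_num)
  obtain ⟨F, E, h⟩ := col23 hc hx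
  obtain ⟨F', E', h'⟩ := col11 hc hz
  obtain ⟨d1, hd1, hE, hu⟩ := exc_pair h (by norm_num) (by rw [h.cardE]) (by norm_num)
  obtain ⟨d2, -, hE', hu'⟩ := exc_pair h' (by norm_num) (by rw [h'.cardE]) (by norm_num)
  have hF := mem_F_iff h (by norm_num) (by norm_num) fun d hd => Nat.mod_eq_zero_of_dvd hd
  have hF' := mem_F_iff h' (by norm_num) (by norm_num) fun d hd => Nat.mod_eq_zero_of_dvd hd
  obtain ⟨-, -, χ8, hχ8⟩ := five_data hc hb
  have hd2 : d2 = 896 := by rw [← hu' χ8 (by rw [hχ8]; norm_num), hχ8]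
  subst hd2
  have h5 : ∀ χ : IrrCharacter G, (dg χ % 11 = 5 ∨ dg χ % 11 = 6) → dg χ = 896 := fun χ hχ =>
    hu' χ (by simpa using hχ)
  obtain ⟨e₁, e₂, he12, hE8⟩ := Finset.card_eq_two.mp (show E'.card = 2 by rw [h'.cardE])
  have he8 : ∀ χ : IrrCharacter G, dg χ = 896 ↔ χ = e₁ ∨ χ = e₂ := fun χ => by
    rw [← hE' χ, hE8, Finset.mem_insert, Finset.mem_singleton]
  -- the degrees at 11
  set F₀ := F'.erase (oneChar G)
  have hF₀ : F₀.card = 4 := by rw [Finset.card_erase_of_mem h'.one, h'.cardF]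
  have hmem₀ : ∀ χ ∈ F₀, dg χ ∈ degs11 := fun χ hχ => by
    obtain ⟨hne, hm⟩ := Finset.mem_erase.mp hχ
    exact degs11_check _ (mem_dgList hc χ) ((hF' χ).mp hm) (dg_ne_one hc hne)
  obtain ⟨S, hS, hSM⟩ := exists_mem_msets degs11 4 (F₀.val.map dg)
    (by rw [Multiset.card_map]; exact hF₀) (fun a ha => by
      obtain ⟨χ, hχ, rfl⟩ := Multiset.mem_map.mp ha; exact hmem₀ χ hχ)
  have hw0 : ∀ χ, χ ∉ insert (oneChar G) F₀ ∪ E' → w11 (dg χ) = 0 := fun χ hχ => by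
    rw [Finset.mem_union, Finset.insert_erase h'.one, not_or] at hχ
    have := Nat.mod_eq_zero_of_dvd (h'.other χ hχ.1 hχ.2)
    simp [w11, this]
  have hdisj : Disjoint (insert (oneChar G) F₀) E' := by rw [Finset.insert_erase h'.one]; exact h'.disj
  have hsum : ∀ f : IrrCharacter G → ℤ, (∀ χ, w11 (dg χ) = 0 → f χ = 0) →
      ∑ χ, f χ = f (oneChar G) + ∑ χ ∈ F₀, f χ + (f e₁ + f e₂) := fun f hf => by
    rw [← Finset.sum_subset (Finset.subset_univ (insert (oneChar G) F₀ ∪ E')) fun χ _ hχ =>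
      hf χ (hw0 χ hχ), Finset.sum_union hdisj, Finset.sum_insert (Finset.notMem_erase _ _), hE8,
      Finset.sum_pair he12]
  have k1 := weights_orth (G := G) hc
  rw [hsum _ (fun χ e => by rw [e, mul_zero]), dg_oneChar, (he8 e₁).mpr (Or.inl rfl),
    (he8 e₂).mpr (Or.inr rfl), sum_map_eq_of_finset dg (fun d => w23 d * w11 d) hSM.symm] at k1
  have k2 := deg_weighted h' hz (by norm_num)
  rw [hsum _ (fun χ e => by rw [e, zero_mul]), dg_oneChar, (he8 e₁).mpr (Or.inl rfl),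
    (he8 e₂).mpr (Or.inr rfl), sum_map_eq_of_finset dg (fun d => w11 d * (d : ℤ)) hSM.symm] at k2
  have hw8 : w23 1 = 2 ∧ w11 1 = 2 ∧ w23 896 = -2 ∧ w11 896 = -1 := by decide
  obtain ⟨c1, c2, c3, c4⟩ := hw8
  rw [c1, c2, c3, c4] at k1
  rw [c2, c4] at k2
  obtain ⟨B, B', hBB, rfl⟩ : ∃ B B', (B = 230 ∧ B' = 1035 ∨ B = 483 ∧ B' = 1288) ∧
      S = [45, 45, B, B'] := by
    rcases msets11_check S hS (by omega) (by push_cast at k2 ⊢; omega) with e | e <;>
      exact ⟨_, _, by simp, e⟩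
  obtain ⟨l, hlnd, hlmem, hlmap⟩ := exists_list_of_finset dg hSM.symm
  obtain ⟨a₁, l, rfl, ha₁, hlmap⟩ := List.map_eq_cons_iff.mp hlmap
  obtain ⟨a₂, l, rfl, ha₂, hlmap⟩ := List.map_eq_cons_iff.mp hlmap
  obtain ⟨P, l, rfl, hP, hlmap⟩ := List.map_eq_cons_iff.mp hlmap
  obtain ⟨Q, l, rfl, hQ, hlmap⟩ := List.map_eq_cons_iff.mp hlmap
  rw [List.map_eq_nil_iff] at hlmap
  subst hlmap
  have h11 : ∀ χ : IrrCharacter G, (dg χ % 11 = 1 ∨ dg χ % 11 = 10) →
      χ = oneChar G ∨ χ = a₁ ∨ χ = a₂ ∨ χ = P ∨ χ = Q := fun χ hχ => by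
    by_cases he : χ = oneChar G
    · exact Or.inl he
    right
    simpa using (hlmem χ).mpr (Finset.mem_erase.mpr ⟨he, (hF' χ).mpr hχ⟩)
  -- the six at 23
  have hone : oneChar G ∉ [a₁, a₂, P, Q] := fun hm =>
    (Finset.mem_erase.mp ((hlmem _).mp hm)).1 rfl
  have hne : ∀ χ ψ : IrrCharacter G, dg χ ≠ dg ψ → χ ≠ ψ := fun χ ψ hd e => hd (by rw [e])
  have hBne : B % 23 = 0 ∧ B' % 23 = 0 ∧ B ≠ 896 ∧ B' ≠ 896 ∧ 230 ≤ B ∧ 1035 ≤ B' ∧
      B % 11 ≠ 0 ∧ B' % 11 ≠ 0 := by rcases hBB with ⟨rfl, rfl⟩ | ⟨rfl, rfl⟩ <;> norm_num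
  have he1 := (he8 e₁).mpr (Or.inl rfl)
  have he2 := (he8 e₂).mpr (Or.inr rfl)
  simp only [List.nodup_cons, List.mem_cons, List.not_mem_nil, or_false, not_or] at hlnd hone
  set five : Finset (IrrCharacter G) := {oneChar G, a₁, a₂, e₁, e₂}
  have hfive : five.card = 5 := by
    simp only [five]
    rw [Finset.card_insert_of_notMem, Finset.card_insert_of_notMem, Finset.card_insert_of_notMem,
      Finset.card_pair he12]
    · simp only [Finset.mem_insert, Finset.mem_singleton, not_or]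
      exact ⟨hne _ _ (by omega), hne _ _ (by omega)⟩
    · simp only [Finset.mem_insert, Finset.mem_singleton, not_or]
      exact ⟨hlnd.1.1, hne _ _ (by omega), hne _ _ (by omega)⟩
    · simp only [Finset.mem_insert, Finset.mem_singleton, not_or]
      exact ⟨hone.1, hone.2.1, hne _ _ (by rw [dg_oneChar]; omega), hne _ _ (by rw [dg_oneChar]; omega)⟩
  have hfiveF : five ⊆ F := by
    intro χ hχ
    simp only [five, Finset.mem_insert, Finset.mem_singleton] at hχ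
    refine (hF χ).mpr ?_
    rcases hχ with rfl | rfl | rfl | rfl | rfl
    · rw [dg_oneChar]; norm_num
    all_goals omega
  set six₀ := F \ five
  have hsix : six₀.card = 6 := by rw [Finset.card_sdiff_of_subset hfiveF, h.cardF, hfive]
  have h11z : ∀ χ : IrrCharacter G, dg χ % 23 ≠ 0 → χ ∉ five → dg χ % 11 = 0 := fun χ h23 hn => by
    have := allowed11 hc χ
    unfold res11 at this
    simp only [five, Finset.mem_insert, Finset.mem_singleton, not_or] at hn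
    rcases this with e | e | e | e | e
    · exact e
    · rcases h11 χ (Or.inl e) with e' | e' | e' | e' | e'
      exacts [absurd e' hn.1, absurd e' hn.2.1, absurd e' hn.2.2.1,
        absurd (by rw [e', hP]; exact hBne.1) h23, absurd (by rw [e', hQ]; exact hBne.2.1) h23]
    · rcases h11 χ (Or.inr e) with e' | e' | e' | e' | e'
      exacts [absurd e' hn.1, absurd e' hn.2.1, absurd e' hn.2.2.1,
        absurd (by rw [e', hP]; exact hBne.1) h23, absurd (by rw [e', hQ]; exact hBne.2.1) h23]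
    · exact ((he8 χ).mp (h5 χ (Or.inl e))).elim (fun e' => absurd e' hn.2.2.2.1)
        fun e' => absurd e' hn.2.2.2.2
    · exact ((he8 χ).mp (h5 χ (Or.inr e))).elim (fun e' => absurd e' hn.2.2.2.1)
        fun e' => absurd e' hn.2.2.2.2
  have hmem6 : ∀ χ ∈ six₀, dg χ ∈ degs23 := fun χ hχ => by
    obtain ⟨hm, hn⟩ := Finset.mem_sdiff.mp hχ
    have hr := (hF χ).mp hm
    exact (degs23_check _ (mem_dgList hc χ) (h11z χ (by omega) hn)).1 (by simpa using hr)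
  obtain ⟨S6, hS6, hSM6⟩ := exists_mem_msets degs23 6 (six₀.val.map dg)
    (by rw [Multiset.card_map]; exact hsix) (fun a ha => by
      obtain ⟨χ, hχ, rfl⟩ := Multiset.mem_map.mp ha; exact hmem6 χ hχ)
  obtain ⟨six, hnd6, hmem6', hmap6⟩ := exists_list_of_finset dg hSM6.symm
  obtain ⟨y₁, y₂, hy12, hEy⟩ := Finset.card_eq_two.mp (show E.card = 2 by rw [h.cardE])
  have hy1 := (hE y₁).mp (by simp [hEy])
  have hy2 := (hE y₂).mp (by simp [hEy])
  have hd1' : d1 % 23 = 11 ∨ d1 % 23 = 12 := by simpa using hd1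
  have hy11 : d1 % 11 = 0 := by
    rw [← hy1]
    refine h11z y₁ (by omega) fun hm => ?_
    have := (hF y₁).mp (hfiveF hm)
    omega
  have hymem := (degs23_check _ (mem_dgList hc y₁) (by omega)).2 (by omega)
  have h6r : ∀ χ ∈ six, (dg χ % 23 = 1 ∨ dg χ % 23 = 22) ∧ dg χ % 11 = 0 := fun χ hχ => by
    have := hmem6 χ ((hmem6' χ).mp hχ)
    have key : ∀ d ∈ degs23, (d % 23 = 1 ∨ d % 23 = 22) ∧ d % 11 = 0 := by decide
    exact key _ this
  have hnodup : (oneChar G :: a₁ :: a₂ :: e₁ :: e₂ :: P :: Q :: y₁ :: y₂ :: six).Nodup := by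
    simp only [List.nodup_cons, List.mem_cons, not_or]
    refine ⟨⟨hone.1, hone.2.1, hne _ _ ?_, hne _ _ ?_, hone.2.2.1, hone.2.2.2, hne _ _ ?_, hne _ _ ?_, ?_⟩,
      ⟨hlnd.1.1, hne _ _ ?_, hne _ _ ?_, hlnd.1.2.1, hlnd.1.2.2, hne _ _ ?_, hne _ _ ?_, ?_⟩,
      ⟨hne _ _ ?_, hne _ _ ?_, hlnd.2.1.1, hlnd.2.1.2, hne _ _ ?_, hne _ _ ?_, ?_⟩,
      ⟨he12, hne _ _ ?_, hne _ _ ?_, hne _ _ ?_, hne _ _ ?_, ?_⟩,
      ⟨hne _ _ ?_, hne _ _ ?_, hne _ _ ?_, hne _ _ ?_, ?_⟩,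
      ⟨hlnd.2.2.1, hne _ _ ?_, hne _ _ ?_, ?_⟩,
      ⟨hne _ _ ?_, hne _ _ ?_, ?_⟩, ⟨hy12, ?_⟩, ?_, hnd6⟩
    all_goals first
      | (rw [dg_oneChar]; omega)
      | omega
      | (intro hm; have := h6r _ hm; first | (rw [dg_oneChar] at this; omega) | omega)
  have hrest : ∀ χ : IrrCharacter G,
      χ ∉ oneChar G :: a₁ :: a₂ :: e₁ :: e₂ :: P :: Q :: y₁ :: y₂ :: six →
        w23 (dg χ) = 0 ∧ w11 (dg χ) = 0 := fun χ hχ => by
    simp only [List.mem_cons, not_or] at hχ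
    obtain ⟨n0, n1, n2, n3, n4, n5, n6, n7, n8, n9⟩ := hχ
    constructor
    · have hn : χ ∉ F ∧ χ ∉ E := by
        refine ⟨fun hm => n9 ((hmem6' χ).mpr (Finset.mem_sdiff.mpr ⟨hm, ?_⟩)), by simp [hEy, n7, n8]⟩
        simp [five, n0, n1, n2, n3, n4]
      have := Nat.mod_eq_zero_of_dvd (h.other χ hn.1 hn.2)
      simp [w23, this]
    · refine hw0 χ ?_
      rw [Finset.mem_union, Finset.insert_erase h'.one, hF', hE8]
      rintro (hm | hm)
      · rcases h11 χ hm with e | e | e | e | e <;> contradiction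
      · simp [n3, n4] at hm
  let Dd : List (IrrCharacter G) := oneChar G :: a₁ :: a₂ :: e₁ :: e₂ :: P :: Q :: y₁ :: y₂ :: six
  -- the candidate
  have k3 := deg_weighted h hx (by norm_num)
  rw [← Finset.sum_subset (Finset.subset_univ Dd.toFinset) fun χ _ hχ => by
      rw [(hrest χ (by simpa [Dd] using hχ)).1, zero_mul], List.sum_toFinset _ hnodup] at k3
  have k4 : (Dd.map fun χ => dg χ ^ 2).sum ≤ 10200960 := by
    rw [← List.sum_toFinset _ hnodup, ← hc, ← sum_dg_sq' (G := G)]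
    exact Finset.sum_le_sum_of_subset (Finset.subset_univ _)
  have hS6w : (six.map fun χ => w23 (dg χ) * (dg χ : ℤ)) = S6.map fun d => w23 d * (d : ℤ) := by
    rw [← hmap6, List.map_map]; rfl
  have hS6q : (six.map fun χ => dg χ ^ 2) = S6.map fun d => d ^ 2 := by
    rw [← hmap6, List.map_map]; rfl
  simp only [Dd, List.map_cons, List.sum_cons, hS6w, hS6q, dg_oneChar, ha₁, ha₂, hP, hQ, he1, he2,
    hy1, hy2] at k3 k4
  have c5 : w23 45 = -2 ∧ w23 B = 0 ∧ w23 B' = 0 := by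
    rcases hBB with ⟨rfl, rfl⟩ | ⟨rfl, rfl⟩ <;> decide
  rw [c1, c3, c5.1, c5.2.1, c5.2.2] at k3
  refine ⟨⟨a₁, a₂, e₁, e₂, P, Q, y₁, y₂, six, ha₁, ha₂, he1, he2, ?_, hy2.trans hy1.symm, ?_, hnodup,
    hrest⟩⟩
  · rw [hP, hQ]; exact hBB
  · rw [hmap6, hy1]
    refine List.mem_filter.mpr ⟨List.mem_flatMap.mpr ⟨S6, hS6, List.mem_map.mpr ⟨d1, hy1 ▸ hymem, rfl⟩⟩, ?_⟩
    simp only [Bool.and_eq_true, decide_eq_true_eq]
    refine ⟨by push_cast at k3 ⊢; linarith, ?_⟩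
    have hb1 := Nat.pow_le_pow_left hBne.2.2.2.2.1 2
    have hb2 := Nat.pow_le_pow_left hBne.2.2.2.2.2.1 2
    omega

end Cfsg.Agent.Order10200960
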