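/-
The arithmetic of the values at an involution.

Main results (namespace `Cfsg.Agent.Order10200960`):
* `check11` : the values of the characters in the block at 11
* `srch`, `srch_complete`, `srch_values` : the values of the six characters at 23
-/
import Cfsg.Agent.Lib.Order10200960.OrdDegrees

set_option autoImplicit false
set_option maxRecDepth 10000

namespace Cfsg.Agent.Order10200960

/-- The possible orders of the centraliser of an involution. -/
def cents : List ℕ := (List.range 8065).filter fun C => decide (8064 % C = 0 ∧ C % 2 = 0)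

/-- The solutions at 11. -/
def sols11 : List (ℕ × ℤ × ℤ × ℤ × ℤ × ℕ) :=
  [(230, -3, -3, 22, 27, 2688), (230, -3, -3, 22, 27, 1344), (230, -3, 5, 22, 19, 896),
    (230, 5, -3, 22, 19, 896)]

/-- The relation between squares at 11. -/
def eq11 (B B' : ℕ) (a b P : ℤ) : Bool :=
  decide (45 * (B : ℤ) * B' + (a * a + b * b) * B * B' - P * P * 45 * B' +
    (P - 1 - a - b) * (P - 1 - a - b) * 45 * B = 0)

/-- The further conditions at 11, with the conclusion. -/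
def cond11 (B B' : ℕ) (a b P : ℤ) (C : ℕ) : Bool :=
  !decide (1 + a * a + b * b + P * P + (P - 1 - a - b) * (P - 1 - a - b) ≤ C) ||
    (!decide ((P - 1 - a - b).natAbs < B') ||
      (!decide ((10200960 / C : ℕ) * a % 45 = 0) || (!decide ((10200960 / C : ℕ) * b % 45 = 0) ||
        (!decide ((10200960 / C : ℕ) * P % B = 0) ||
          (!decide ((10200960 / C : ℕ) * (P - 1 - a - b) % B' = 0) ||
            sols11.contains (B, a, b, P, P - 1 - a - b, C))))))

theorem eq11_check : ∀ V ∈ [(230, 1035), (483, 1288)], ∀ i ∈ List.range 22, ∀ j ∈ List.range 22,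
    ∀ k ∈ List.range 45, eq11 V.1 V.2 (4 * i - 43) (4 * j - 43) (4 * k - if V.1 = 230 then 86 else 89) = true →
    ∀ C ∈ cents, cond11 V.1 V.2 (4 * i - 43) (4 * j - 43) (4 * k - if V.1 = 230 then 86 else 89) C = true := by
  decide +kernel

theorem check11 {B B' : ℕ} (hV : B = 230 ∧ B' = 1035 ∨ B = 483 ∧ B' = 1288) {C : ℕ} (hC : C ∣ 8064)
    (hC2 : 2 ∣ C) {a b P Q : ℤ} (ha : (45 - a) % 4 = 0) (hb : (45 - b) % 4 = 0)
    (hP : ((B : ℤ) - P) % 4 = 0) (ha' : a.natAbs < 45) (hb' : b.natAbs < 45) (hQ' : Q.natAbs < B')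
    (hQ : Q = P - 1 - a - b) (hs : 1 + a ^ 2 + b ^ 2 + P ^ 2 + Q ^ 2 ≤ C)
    (heq : 45 * (B : ℤ) * B' + (a * a + b * b) * B * B' - P * P * 45 * B' + Q * Q * 45 * B = 0)
    (da : (45 : ℤ) ∣ (10200960 / C : ℕ) * a) (db : (45 : ℤ) ∣ (10200960 / C : ℕ) * b)
    (dP : (B : ℤ) ∣ (10200960 / C : ℕ) * P) (dQ : (B' : ℤ) ∣ (10200960 / C : ℕ) * Q) :
    (B, a, b, P, Q, C) ∈ sols11 := by
  have hC8 : C ≤ 8064 := Nat.le_of_dvd (by norm_num) hC
  have hP2 : P ^ 2 ≤ 8064 := by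
    have := sq_nonneg a; have := sq_nonneg b; have := sq_nonneg Q
    have : (C : ℤ) ≤ 8064 := by exact_mod_cast hC8
    linarith
  have hP1 : -89 ≤ P ∧ P ≤ 89 := ⟨by nlinarith, by nlinarith⟩
  obtain ⟨i, hi, rfl⟩ : ∃ i : ℕ, i < 22 ∧ a = 4 * (i : ℤ) - 43 :=
    ⟨((a + 43) / 4).toNat, by omega, by omega⟩
  obtain ⟨j, hj, rfl⟩ : ∃ j : ℕ, j < 22 ∧ b = 4 * (j : ℤ) - 43 :=
    ⟨((b + 43) / 4).toNat, by omega, by omega⟩
  obtain ⟨k, hk, rfl⟩ : ∃ k : ℕ, k < 45 ∧ P = 4 * (k : ℤ) - if B = 230 then 86 else 89 := by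
    rcases hV with ⟨rfl, -⟩ | ⟨rfl, -⟩
    · exact ⟨((P + 86) / 4).toNat, by omega, by norm_num; omega⟩
    · exact ⟨((P + 89) / 4).toNat, by omega, by norm_num; omega⟩
  subst hQ
  have hc := eq11_check (B, B') (by rcases hV with ⟨rfl, rfl⟩ | ⟨rfl, rfl⟩ <;> simp) i
    (List.mem_range.mpr hi) j (List.mem_range.mpr hj) k (List.mem_range.mpr hk)
    (decide_eq_true heq) C (List.mem_filter.mpr ⟨List.mem_range.mpr (by omega),
      decide_eq_true ⟨Nat.mod_eq_zero_of_dvd hC, Nat.mod_eq_zero_of_dvd hC2⟩⟩)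
  simp only [pow_two] at hs
  simpa only [cond11, Bool.or_eq_true, Bool.not_eq_true', decide_eq_false_iff_not, hs, hQ',
    Int.emod_eq_zero_of_dvd da, Int.emod_eq_zero_of_dvd db, Int.emod_eq_zero_of_dvd dP,
    Int.emod_eq_zero_of_dvd dQ, not_true_eq_false, false_or, List.contains_iff_mem] using hc

/-- A common multiple of the degrees. -/
def cm : ℕ := 110880

/-- The possible values of a character of the degree `d`, the centraliser having order `C`. -/
def vbase (C d : ℕ) : List ℤ :=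
  if d = 22 then [-18, -14, -10, -6, -2, 2, 6, 10, 14, 18]
  else if d = 231 then [-21, 7, 35]
  else if d = 528 then if C = 2688 then [-32, -16, 0, 16, 32] else [-8, 0, 8]
  else if d = 990 then if C = 2688 then [-30, -18, -6, 6, 18, 30] else [-6, -2, 2, 6]
  else if d = 1540 then [-28, 0, 28]
  else []

/-- The remaining budget for the six at a given centraliser order. -/
def bud (C : ℕ) (a b P Q : ℤ) : ℤ := C - (1 + a * a + b * b + P * P + Q * Q)

theorem vbase_check : ∀ q ∈ sols11, ∀ d ∈ degs23, ∀ i ∈ List.range 77,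
    ((i : ℤ) - 38).natAbs < d → ((d : ℤ) - ((i : ℤ) - 38)) % 4 = 0 →
    ((i : ℤ) - 38) * ((i : ℤ) - 38) ≤ bud q.2.2.2.2.2 q.2.1 q.2.2.1 q.2.2.2.1 q.2.2.2.2.1 →
    ((10200960 / q.2.2.2.2.2 : ℕ) : ℤ) * ((i : ℤ) - 38) % d = 0 →
    (i : ℤ) - 38 ∈ vbase q.2.2.2.2.2 d := by decide +kernel

theorem bud_le : ∀ q ∈ sols11, bud q.2.2.2.2.2 q.2.1 q.2.2.1 q.2.2.2.1 q.2.2.2.2.1 ≤ 1456 := by
  decide +kernel

theorem mem_vbase {B : ℕ} {a b P Q : ℤ} {C : ℕ} (hq : (B, a, b, P, Q, C) ∈ sols11) {d : ℕ}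
    (hd : d ∈ degs23) {v : ℤ} (h1 : v.natAbs < d) (h2 : ((d : ℤ) - v) % 4 = 0)
    (h3 : v * v ≤ bud C a b P Q) (h4 : (d : ℤ) ∣ (10200960 / C : ℕ) * v) : v ∈ vbase C d := by
  have h5 : bud C a b P Q ≤ 1456 := bud_le _ hq
  have h6 : -38 ≤ v ∧ v ≤ 38 := ⟨by nlinarith, by nlinarith⟩
  obtain ⟨i, hi, rfl⟩ : ∃ i : ℕ, i < 77 ∧ v = (i : ℤ) - 38 := ⟨(v + 38).toNat, by omega, by omega⟩
  exact vbase_check _ hq d hd i (List.mem_range.mpr hi) h1 h2 h3 (Int.emod_eq_zero_of_dvd h4)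

/-- The value of the exceptional characters from the relation at 23. -/
def yval (a b : ℤ) (y : ℕ) (sv : ℤ) : ℤ := -(w23 y) * ((2 - 2 * (a + b) + sv) / 2)

/-- The conditions on the exceptional value. -/
def leaf (h a b : ℤ) (y : ℕ) (r sv sp : ℤ) : Bool :=
  decide ((2 - 2 * (a + b) + sv) % 2 = 0) &&
    (decide (2 * (yval a b y sv * yval a b y sv) ≤ r) &&
      (decide (((y : ℤ) - yval a b y sv) % 4 = 0) &&
        (decide ((yval a b y sv).natAbs < y) &&
          (decide (h * yval a b y sv % y = 0) &&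
            decide (2 * (cm : ℤ) - 2 * ((a * a + b * b) * (cm / 45 : ℕ)) +
              2 * w23 y * (yval a b y sv * yval a b y sv * (cm / y : ℕ)) + sp = 0)))))

/-- The search over the six values, increasing among equal degrees. -/
def srch (vb : ℕ → List ℤ) (lf : ℤ → ℤ → ℤ → Bool) : List ℕ → ℕ → ℤ → ℤ → ℤ → ℤ → List (List ℤ)
  | [], _, _, r, sv, sp => if lf r sv sp then [[]] else []
  | d :: S, pd, pv, r, sv, sp => (vb d).flatMap fun v =>
      if v * v ≤ r ∧ (pd = d → pv ≤ v) then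
        (srch vb lf S d v (r - v * v) (sv + w23 d * v) (sp + w23 d * (v * v * (cm / d : ℕ)))).map (v :: ·)
      else []

theorem srch_complete {vb : ℕ → List ℤ} {lf : ℤ → ℤ → ℤ → Bool} : ∀ (l : List (ℕ × ℤ)) (pd : ℕ) (pv r sv sp : ℤ),
    (∀ q ∈ l, q.2 ∈ vb q.1) →
    List.IsChain (fun p q : ℕ × ℤ => p.1 = q.1 → p.2 ≤ q.2) ((pd, pv) :: l) →
    (l.map fun q => q.2 * q.2).sum ≤ r →
    lf (r - (l.map fun q => q.2 * q.2).sum) (sv + (l.map fun q => w23 q.1 * q.2).sum)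
      (sp + (l.map fun q => w23 q.1 * (q.2 * q.2 * (cm / q.1 : ℕ))).sum) = true →
    l.map Prod.snd ∈ srch vb lf (l.map Prod.fst) pd pv r sv sp
  | [], pd, pv, r, sv, sp, _, _, _, h => by simp [srch] at h ⊢; simp [h]
  | (d, v) :: l, pd, pv, r, sv, sp, hv, hch, hr, h => by
    have hnn : 0 ≤ (l.map fun q => q.2 * q.2).sum := List.sum_nonneg fun t ht => by
      obtain ⟨q, -, rfl⟩ := List.mem_map.mp ht
      exact mul_self_nonneg _
    rw [List.isChain_cons_cons] at hch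
    simp only [List.map_cons, List.sum_cons] at hr h ⊢
    rw [srch, List.mem_flatMap]
    refine ⟨v, hv (d, v) List.mem_cons_self, ?_⟩
    rw [if_pos ⟨by linarith, hch.1⟩]
    refine List.mem_map_of_mem (srch_complete l d v _ _ _ (fun q hq => hv q (List.mem_cons_of_mem _ hq))
      hch.2 (by linarith) ?_)
    convert h using 2 <;> ring

/-- The survivors. -/
def sols23 : List (List ℕ × ℕ × List ℤ × ℤ) :=
  [([22, 22, 22, 231, 990, 990], 264, [-2, 6, 6, -21, -6, 30], 0),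
    ([22, 22, 22, 528, 990, 990], 495, [2, 2, 6, 0, -18, 30], -9),
    ([22, 22, 22, 528, 990, 990], 495, [-6, 2, 2, 0, -30, 6], 15),
    ([22, 231, 231, 231, 990, 990], 770, [6, 7, 7, 7, -18, -18], -14),
    ([22, 231, 528, 990, 990, 990], 770, [2, 7, 16, 6, 6, 6], 14),
    ([22, 231, 528, 990, 990, 990], 770, [-2, 7, -16, -6, -6, -6], 14),
    ([231, 528, 528, 990, 990, 990], 264, [7, -16, 16, -18, 6, 6], 8)]

theorem srch_2688 : ∀ c ∈ cands, ∀ vs ∈ srch (vbase 2688) (leaf 3795 (-3) (-3) c.2) c.1 0 0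
      (bud 2688 (-3) (-3) 22 27) 0 0,
    (c.1, c.2, vs, yval (-3) (-3) c.2 ((List.zipWith (fun d v => w23 d * v) c.1 vs).sum)) ∈ sols23 := by
  decide +kernel

theorem srch_1344 : ∀ c ∈ cands,
    srch (vbase 1344) (leaf 7590 (-3) (-3) c.2) c.1 0 0 (bud 1344 (-3) (-3) 22 27) 0 0 = [] := by
  decide +kernel

theorem srch_896 : ∀ c ∈ cands,
    srch (vbase 896) (leaf 11385 (-3) 5 c.2) c.1 0 0 (bud 896 (-3) 5 22 19) 0 0 = [] ∧
      srch (vbase 896) (leaf 11385 5 (-3) c.2) c.1 0 0 (bud 896 5 (-3) 22 19) 0 0 = [] := by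
  decide +kernel

end Cfsg.Agent.Order10200960
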