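/-
The values at an involution and the order of its centraliser.

Main results (namespace `Cfsg.Agent.Order10200960`):
* `exists_vals` : the integral values at an involution
* `invol_data` : the centraliser has order 2688; the possible values
-/
import Cfsg.Agent.Lib.Order10200960.OrdInvolSearch

set_option autoImplicit false
set_option maxRecDepth 10000
set_option maxHeartbeats 1000000
set_option synthInstance.maxSize 1024

open scoped ComplexConjugate

namespace Cfsg.Agent.Order10200960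

open Cfsg Cfsg.Agent.Blocks Cfsg.Agent.CyclicDefect Cfsg.Agent.SmallOrders
open Cfsg.Agent.SmallOrders.BlockDegrees (oneChar exists_int_mod_four norm_lt_of_ne_one norm_int_lt)
open Cfsg.Agent.OrderM22 (dg Col)

variable {G : Type*} [Group G] [Finite G]

/-- No pairs of involutions with product `x` when no element inverts `x`. -/
theorem pairs_zero [Fintype (IrrCharacter G)] {p e : ℕ} {a : ℤ} {w : ℕ → ℤ} {x t : G}
    {F E : Finset (IrrCharacter G)} (h : Col p e a w x F E) (hp : ¬ p ∣ orderOf t)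
    (ht : orderOf t = 2) (hno : ∀ g : G, g * x * g⁻¹ ≠ x⁻¹)
    {u : IrrCharacter G → ℤ} (hu : ∀ χ : IrrCharacter G, (χ : G → ℂ) t = u χ) :
    ∑ χ : IrrCharacter G, (w (dg χ) : ℂ) * ((u χ : ℂ) * (u χ : ℂ) / (dg χ : ℂ)) = 0 := by
  have he : IsEmpty {q : G × G // IsConj t q.1 ∧ IsConj t q.2 ∧ q.1 * q.2 = x} := ⟨fun q => by
    obtain ⟨⟨c, d⟩, hc, hd, hq⟩ := q
    have hinv : ∀ v : G, IsConj t v → v * v = 1 := fun v hv => by
      obtain ⟨g, rfl⟩ := isConj_iff.mp hv
      rw [show g * t * g⁻¹ * (g * t * g⁻¹) = g * (t * t) * g⁻¹ by group,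
        show t * t = 1 by rw [← pow_two, ← ht, pow_orderOf_eq_one], mul_one, mul_inv_cancel]
    simp only at hq
    refine hno c ?_
    rw [inv_eq_of_mul_eq_one_right (hinv c hc), ← hq, mul_inv_rev,
      inv_eq_of_mul_eq_one_right (hinv c hc), inv_eq_of_mul_eq_one_right (hinv d hd),
      ← mul_assoc c c d, hinv c hc, one_mul]⟩
  have h0 := h.pairs (t := t) hp
  rw [Nat.card_of_isEmpty, Nat.cast_zero, mul_zero, zero_mul] at h0
  rw [← (mul_eq_zero.mp h0.symm).resolve_left (Nat.cast_ne_zero.mpr Nat.card_pos.ne')]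
  exact Finset.sum_congr rfl fun χ _ => by rw [hu]

variable [IsSimpleGroup G]

theorem exists_vals (hc : Nat.card G = 10200960) [Fintype (IrrCharacter G)] {t : G} (ht : orderOf t = 2) :
    ∃ u : IrrCharacter G → ℤ, (∀ χ : IrrCharacter G, (χ : G → ℂ) t = u χ) ∧
      (∀ χ, ((dg χ : ℤ) - u χ) % 4 = 0) ∧ (∀ χ, χ ≠ oneChar G → (u χ).natAbs < dg χ) ∧
      u (oneChar G) = 1 ∧ (∀ χ, dg χ = 896 → u χ = 0) ∧
      ∑ χ, u χ ^ 2 = (Nat.card (cnt1 t) : ℤ) ∧
      ∀ χ, (dg χ : ℤ) ∣ (10200960 / Nat.card (cnt1 t) : ℕ) * u χ := by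
  classical
  have := Fintype.ofFinite G
  have htt : t * t = 1 := by rw [← pow_two, ← ht, pow_orderOf_eq_one]
  have ht1 : t ≠ 1 := fun e => by rw [e, orderOf_one] at ht; omega
  have hna := not_comm_ord hc
  choose u hu hu4 using fun χ : IrrCharacter G =>
    exists_int_mod_four hna (Char.IsIrrCharacter.isCharacter χ.2) htt
  refine ⟨u, hu, hu4, fun χ hne => norm_int_lt (by
      rw [← hu χ]
      exact norm_lt_of_ne_one hna χ.2 (fun e => hne (Subtype.ext e)) ht1), ?_, fun χ hχ => ?_, ?_, fun χ => ?_⟩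
  · have e := hu (oneChar G)
    rw [show (oneChar G : G → ℂ) t = 1 from rfl] at e
    exact_mod_cast e.symm
  · have := Char.vanishes_of_defect_zero Nat.prime_two χ.2 (dg_cast χ) (by
      rw [hc]; exact defect_le Nat.prime_two (by norm_num) (dg_pos' χ).ne' (k := 7) (by norm_num)
        (by rw [hχ]; norm_num)) t (by rw [ht])
    rw [hu χ] at this
    exact_mod_cast this
  · have o := Char.column_orth (G := G) t t
    rw [if_pos (IsConj.refl t)] at o
    apply Int.cast_injective (α := ℂ)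
    push_cast
    rw [← o]
    exact Finset.sum_congr rfl fun χ _ => by rw [hu χ, map_intCast]; ring
  · have h1 := dvd_class_mul χ (hu χ)
    have h2 := (cnt1 t).index_mul_card
    rw [hc] at h2
    rwa [← h2, Nat.mul_div_cancel _ Nat.card_pos]

theorem cent_invol_dvd (hc : Nat.card G = 10200960) {t : G} (ht : orderOf t = 2) :
    Nat.card (cnt1 t) ∣ 8064 ∧ 2 ∣ Nat.card (cnt1 t) := by
  have : Fact (Nat.Prime 5) := ⟨by norm_num⟩
  have : Fact (Nat.Prime 11) := ⟨by norm_num⟩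
  have : Fact (Nat.Prime 23) := ⟨by norm_num⟩
  have hd : Nat.card (cnt1 t) ∣ 8064 * 1265 := by
    rw [show 8064 * 1265 = Nat.card G by rw [hc]]
    exact Subgroup.card_subgroup_dvd_card _
  have h5 : ¬ 5 ∣ Nat.card (cnt1 t) := not_dvd_cnt1_symm (q := 5)
    (fun y hy => by rw [(five_data hc hy).1]; norm_num) ht
  have h11 : ¬ 11 ∣ Nat.card (cnt1 t) := not_dvd_cnt1_symm (q := 11)
    (fun y hy => by rw [(eleven_data hc hy).1]; norm_num) ht
  have h23 : ¬ 23 ∣ Nat.card (cnt1 t) := not_dvd_cnt1_symm (q := 23)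
    (fun y hy => by rw [(twentyThree_data hc hy).1]; norm_num) ht
  refine ⟨Nat.Coprime.dvd_of_dvd_mul_right ?_ hd,
    ht ▸ Subgroup.orderOf_dvd_natCard _ (Subgroup.mem_centralizer_singleton_iff.mpr rfl)⟩
  rw [show 1265 = 5 * (11 * 23) by norm_num]
  exact Nat.Coprime.mul_right ((Nat.Prime.coprime_iff_not_dvd Fact.out).mpr h5).symm
    (Nat.Coprime.mul_right ((Nat.Prime.coprime_iff_not_dvd Fact.out).mpr h11).symm
      ((Nat.Prime.coprime_iff_not_dvd Fact.out).mpr h23).symm)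

theorem no_inverter (hc : Nat.card G = 10200960) {p : ℕ} (hp : p = 11 ∨ p = 23) {x : G}
    (hx : orderOf x = p) (g : G) : g * x * g⁻¹ ≠ x⁻¹ := by
  intro h
  rcases hp with rfl | rfl
  · have : Fact (Nat.Prime 11) := ⟨by norm_num⟩
    obtain ⟨h1, h2⟩ := eleven_data hc hx
    exact false_of_inverted (p := 11) (c := 1) (j := 5) (by norm_num) hx h1 h2 (by decide) h
  · have : Fact (Nat.Prime 23) := ⟨by norm_num⟩
    obtain ⟨h1, h2⟩ := twentyThree_data hc hx
    exact false_of_inverted (p := 23) (c := 1) (j := 11) (by norm_num) hx h1 h2 (by decide) h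

theorem eq_y (hc : Nat.card G = 10200960) (D : Degs G) {t : G} (ht : ¬ 23 ∣ orderOf t) :
    (D.y₂ : G → ℂ) t = (D.y₁ : G → ℂ) t := by
  have : Fact (Nat.Prime 23) := ⟨by norm_num⟩
  obtain ⟨x, hx⟩ := exists_prime_orderOf_dvd_card' (G := G) 23 (by rw [hc]; norm_num)
  obtain ⟨F, E, h⟩ := col23 hc hx
  obtain ⟨d1, -, hE, hu⟩ := exc_pair h (by norm_num) (by rw [h.cardE]) (by norm_num)
  have key : ∀ d ∈ [264, 495, 770, 1760], d % 23 = 11 ∨ d % 23 = 23 - 11 := by decide
  exact h.eqE _ ((hE _).mpr (hu _ (key _ (D.dgy ▸ D.y_mem)))) _ ((hE _).mpr (hu _ (key _ D.y_mem))) t ht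

theorem invol_data (hc : Nat.card G = 10200960) (D : Degs G) [Fintype (IrrCharacter G)] {t : G}
    (ht : orderOf t = 2) :
    Nat.card (cnt1 t) = 2688 ∧ dg D.P = 230 ∧ dg D.Q = 1035 ∧
      ∃ u : IrrCharacter G → ℤ, (∀ χ : IrrCharacter G, (χ : G → ℂ) t = u χ) ∧
        (∀ χ, ((dg χ : ℤ) - u χ) % 4 = 0) ∧ (∀ χ, χ ≠ oneChar G → (u χ).natAbs < dg χ) ∧
        (∀ χ, (dg χ : ℤ) ∣ (3795 : ℕ) * u χ) ∧
        ∑ χ, u χ ^ 2 = 2688 ∧ u (oneChar G) = 1 ∧ (∀ χ, dg χ = 896 → u χ = 0) ∧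
        u D.a₁ = -3 ∧ u D.a₂ = -3 ∧ u D.P = 22 ∧ u D.Q = 27 ∧ u D.y₂ = u D.y₁ ∧
        ∃ l : List (IrrCharacter G), l.Perm D.six ∧ l.map dg = D.six.map dg ∧
          (l.map dg, dg D.y₁, l.map u, u D.y₁) ∈ sols23 := by
  classical
  obtain ⟨u, hu, hu4, hlt, hone, h8, hsum, hdvd⟩ := exists_vals hc ht
  obtain ⟨hC8, hC2⟩ := cent_invol_dvd hc ht
  have : Fact (Nat.Prime 11) := ⟨by norm_num⟩
  have : Fact (Nat.Prime 23) := ⟨by norm_num⟩
  obtain ⟨x, hx⟩ := exists_prime_orderOf_dvd_card' (G := G) 23 (by rw [hc]; norm_num)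
  obtain ⟨z, hz⟩ := exists_prime_orderOf_dvd_card' (G := G) 11 (by rw [hc]; norm_num)
  obtain ⟨F, E, h⟩ := col23 hc hx
  obtain ⟨F', E', h'⟩ := col11 hc hz
  have hne : ∀ χ : IrrCharacter G, 1 < dg χ → χ ≠ oneChar G := fun χ hd e => by
    rw [e, dg_oneChar] at hd; omega
  have hnc : ∀ {y : G}, orderOf y ≠ 2 → ¬ IsConj t y := fun hy e => by
    obtain ⟨g, hg⟩ := isConj_iff.mp e
    refine hy ?_
    rw [← hg, ← ht]
    exact orderOf_injective (MulAut.conj g).toMonoidHom (MulAut.conj g).injective t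
  have hyy : u D.y₂ = u D.y₁ := by
    have := eq_y hc D (t := t) (by rw [ht]; norm_num)
    rw [hu, hu] at this
    exact_mod_cast this
  -- the block at 11
  have r1 := h'.rel (g := t) (by rw [ht]; norm_num) (hnc (by rw [hz]; norm_num))
  have r2 := pairs_zero h' (by rw [ht]; norm_num) ht (no_inverter hc (Or.inl rfl) hz) hu
  rw [D.sum_w11] at r1 r2
  simp only [hu, hone, h8 _ D.dge₁, h8 _ D.dge₂, dg_oneChar, D.dga₁, D.dga₂, D.dge₁, D.dge₂] at r1 r2
  norm_num at r1 r2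
  have hB : dg D.P = 230 ∧ dg D.Q = 1035 ∨ dg D.P = 483 ∧ dg D.Q = 1288 := D.dgPQ
  have e1 : u D.Q = u D.P - 1 - u D.a₁ - u D.a₂ := by
    have : ((u D.Q : ℤ) : ℂ) = ((u D.P - 1 - u D.a₁ - u D.a₂ : ℤ) : ℂ) := by
      push_cast; linear_combination (1 / 2 : ℂ) * r1
    exact_mod_cast this
  have hP0 : (dg D.P : ℂ) ≠ 0 := Nat.cast_ne_zero.mpr (dg_pos' D.P).ne'
  have hQ0 : (dg D.Q : ℂ) ≠ 0 := Nat.cast_ne_zero.mpr (dg_pos' D.Q).ne'
  have e2 : 45 * (dg D.P : ℤ) * dg D.Q + (u D.a₁ * u D.a₁ + u D.a₂ * u D.a₂) * dg D.P * dg D.Q -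
      u D.P * u D.P * 45 * dg D.Q + u D.Q * u D.Q * 45 * dg D.P = 0 := by
    apply Int.cast_injective (α := ℂ)
    push_cast
    field_simp at r2
    linear_combination (1 / 2 : ℂ) * r2
  have hlist := D.nodup
  have hle : ((D.list.map fun χ => u χ ^ 2).sum : ℤ) ≤ Nat.card (cnt1 t) := by
    rw [← hsum, ← List.sum_toFinset (fun χ => u χ ^ 2) (show D.list.Nodup from hlist)]
    exact Finset.sum_le_sum_of_subset_of_nonneg (Finset.subset_univ _) fun χ _ _ => sq_nonneg _
  simp only [Degs.list, List.map_cons, List.sum_cons, hone, h8 _ D.dge₁, h8 _ D.dge₂, hyy] at hle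
  have hsix0 : 0 ≤ (D.six.map fun χ => u χ ^ 2).sum := List.sum_nonneg fun v hv => by
    obtain ⟨χ, -, rfl⟩ := List.mem_map.mp hv
    exact sq_nonneg _
  have hA := D.dga₁; have hA' := D.dga₂
  have hs11 := check11 hB hC8 hC2 (a := u D.a₁) (b := u D.a₂) (P := u D.P) (Q := u D.Q)
    (by simpa [hA] using hu4 D.a₁) (by simpa [hA'] using hu4 D.a₂) (hu4 D.P)
    (by simpa [hA] using hlt D.a₁ (hne _ (by omega))) (by simpa [hA'] using hlt D.a₂ (hne _ (by omega)))
    (hlt D.Q (hne _ (by omega))) e1 (by have := sq_nonneg (u D.y₁); linarith) e2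
    (by simpa [hA] using hdvd D.a₁) (by simpa [hA'] using hdvd D.a₂) (hdvd D.P) (hdvd D.Q)
  -- the six
  let le : IrrCharacter G → IrrCharacter G → Bool := fun χ ψ =>
    decide (dg χ < dg ψ ∨ dg χ = dg ψ ∧ u χ ≤ u ψ)
  set l := D.six.mergeSort le
  have hperm : l.Perm D.six := List.mergeSort_perm _ _
  have hpw : l.Pairwise fun χ ψ => le χ ψ = true := List.pairwise_mergeSort
    (fun a b c => by simp only [le, decide_eq_true_eq]; omega)
    (fun a b => by simp only [le, Bool.or_eq_true, decide_eq_true_eq]; omega) _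
  have hmap : l.map dg = D.six.map dg := by
    have key : ∀ q ∈ cands, List.Pairwise (· ≤ ·) q.1 := by decide +kernel
    refine List.Perm.eq_of_pairwise' (hpw.map dg fun χ ψ e => ?_) (key _ D.cand) (hperm.map dg)
    simp only [le, decide_eq_true_eq] at e
    omega
  have hlmem : ∀ χ ∈ l, dg χ ∈ degs23 := fun χ hχ => D.mem_six (hperm.subset hχ)
  set C := Nat.card (cnt1 t)
  set y := dg D.y₁
  set W := u D.y₁
  set a := u D.a₁
  set b := u D.a₂
  set P := u D.P
  set Q := u D.Q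
  set pl : List (ℕ × ℤ) := l.map fun χ => (dg χ, u χ)
  have hfst : pl.map Prod.fst = D.six.map dg := by rw [← hmap, List.map_map]; rfl
  have hsnd : pl.map Prod.snd = l.map u := by rw [List.map_map]; rfl
  have hsq : (pl.map fun q => q.2 * q.2).sum = (D.six.map fun χ => u χ ^ 2).sum := by
    rw [List.map_map]
    refine ((hperm.map _).sum_eq).trans (congrArg List.sum (List.map_congr_left fun χ _ => ?_))
    simp [pow_two]
  have hr : (pl.map fun q => q.2 * q.2).sum + 2 * (W * W) ≤ bud C a b P Q := by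
    rw [hsq, bud]; simp only [← pow_two]; linarith
  have hch : List.IsChain (fun p q : ℕ × ℤ => p.1 = q.1 → p.2 ≤ q.2) ((0, 0) :: pl) := by
    refine List.isChain_cons.mpr ⟨fun q hq e => ?_, ?_⟩
    · obtain ⟨χ, hχ, rfl⟩ := List.mem_map.mp (List.mem_of_mem_head? hq)
      have := dg_pos' χ
      simp only at e
      omega
    · refine (hpw.map _ fun χ ψ e => ?_).isChain
      simp only [le, decide_eq_true_eq] at e
      intro e'; simp only at e' ⊢; omega
  have hvb : ∀ q ∈ pl, q.2 ∈ vbase C q.1 := fun q hq => by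
    obtain ⟨χ, hχ, rfl⟩ := List.mem_map.mp hq
    have hd := hlmem χ hχ
    have hd1 : 1 < dg χ := by
      have key : ∀ d ∈ degs23, 1 < d := by decide
      exact key _ hd
    refine mem_vbase hs11 hd (hlt χ (hne χ hd1)) (hu4 χ) ?_ (hdvd χ)
    have h1 := List.single_le_sum (l := pl.map fun q => q.2 * q.2) (fun v hv => by
      obtain ⟨q', -, rfl⟩ := List.mem_map.mp hv
      exact mul_self_nonneg _) (u χ * u χ) (List.mem_map.mpr ⟨_, hq, rfl⟩)
    have := mul_self_nonneg W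
    linarith
  -- the relations at 23
  have r3 := h.rel (g := t) (by rw [ht]; norm_num) (hnc (by rw [hx]; norm_num))
  have r4 := pairs_zero h (by rw [ht]; norm_num) ht (no_inverter hc (Or.inr rfl) hx) hu
  rw [D.sum_w23] at r3 r4
  simp only [hu, hone, h8 _ D.dge₁, h8 _ D.dge₂, dg_oneChar, D.dga₁, D.dga₂, D.dge₁, D.dge₂, hyy, D.dgy,
    Int.cast_zero, zero_mul, zero_div, add_zero, Int.cast_one, Nat.cast_one, mul_one, div_one] at r3 r4
  have key : ∀ d ∈ degs23, d ∣ cm := by decide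
  set sv := (pl.map fun q => w23 q.1 * q.2).sum with hsv
  set sp := (pl.map fun q => w23 q.1 * (q.2 * q.2 * (cm / q.1 : ℕ))).sum with hsp
  have s3 : (D.six.map fun χ => (w23 (dg χ) : ℂ) * (u χ : ℂ)).sum = (sv : ℂ) := by
    rw [hsv, List.map_map, (hperm.map _).sum_eq, Int.cast_list_sum, List.map_map]
    exact congrArg List.sum (List.map_congr_left fun χ _ => by simp)
  have hcm : (cm : ℂ) ≠ 0 := by norm_num [cm]
  have hdiv : ∀ {d : ℕ}, 0 < d → d ∣ cm → ∀ v : ℂ, v / (d : ℂ) * (cm : ℂ) = v * ((cm / d : ℕ) : ℂ) := by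
    intro d hd0 hd v
    rw [Nat.cast_div hd (Nat.cast_ne_zero.mpr hd0.ne')]
    ring
  have s4 : (D.six.map fun χ => (w23 (dg χ) : ℂ) * ((u χ : ℂ) * (u χ : ℂ) / (dg χ : ℂ))).sum * (cm : ℂ) =
      (sp : ℂ) := by
    rw [hsp, List.map_map, (hperm.map _).sum_eq, Int.cast_list_sum, List.map_map,
      ← List.sum_map_mul_right]
    refine congrArg List.sum (List.map_congr_left fun χ hχ => ?_)
    rw [mul_assoc, hdiv (dg_pos' χ) (key _ (D.mem_six hχ))]
    simp only [Function.comp_apply]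
    generalize cm / dg χ = k
    push_cast
    ring
  rw [s3] at r3
  have hW : 2 - 2 * (a + b) + 2 * w23 y * W + sv = 0 := by
    apply Int.cast_injective (α := ℂ)
    push_cast
    linear_combination r3
  have hy0 : ∀ d ∈ [264, 495, 770, 1760], (w23 d = 1 ∨ w23 d = -1) ∧ d ∣ cm ∧ 1 < d := by decide
  obtain ⟨hw, hycm, hy1⟩ := hy0 _ D.y_mem
  have hWv : W = yval a b y sv := by
    unfold yval
    rcases hw with e | e <;> rw [e] at hW ⊢ <;> omega
  have hp4 : 2 * (cm : ℤ) - 2 * ((a * a + b * b) * (cm / 45 : ℕ)) +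
      2 * w23 y * (W * W * (cm / y : ℕ)) + sp = 0 := by
    apply Int.cast_injective (α := ℂ)
    have e45 := hdiv (d := 45) (by norm_num) (by norm_num [cm])
    have ey := hdiv (d := y) (dg_pos' D.y₁) hycm
    generalize cm / 45 = k45 at e45 ⊢
    generalize cm / y = ky at ey ⊢
    push_cast at e45 ⊢
    linear_combination (cm : ℂ) * r4 - s4 + 2 * e45 ((a : ℂ) * a) + 2 * e45 ((b : ℂ) * b)
      - 2 * (w23 y : ℂ) * ey ((W : ℂ) * W)
  have hleaf : ∀ h0 : ℤ, ((10200960 / C : ℕ) : ℤ) = h0 →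
      leaf h0 a b y (bud C a b P Q - (pl.map fun q => q.2 * q.2).sum) (0 + sv) (0 + sp) = true := by
    intro h0 e0
    simp only [leaf, zero_add, ← hWv, Bool.and_eq_true, decide_eq_true_eq]
    refine ⟨?_, by linarith, hu4 D.y₁, hlt D.y₁ (hne _ hy1), ?_, hp4⟩
    · rcases hw with e | e <;> rw [e] at hW <;> omega
    · rw [← e0]; exact Int.emod_eq_zero_of_dvd (hdvd D.y₁)
  have hmem := fun (h0 : ℤ) (e0 : ((10200960 / C : ℕ) : ℤ) = h0) =>
    srch_complete (vb := vbase C) (lf := leaf h0 a b y) pl 0 0 (bud C a b P Q) 0 0 hvb hch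
      (by have := mul_self_nonneg W; linarith) (hleaf h0 e0)
  rw [hfst, hsnd] at hmem
  simp only [sols11, List.mem_cons, Prod.mk.injEq, List.not_mem_nil, or_false] at hs11
  rcases hs11 with ⟨hP, ea, eb, eP, eQ, eC⟩ | ⟨hP, ea, eb, eP, eQ, eC⟩ | ⟨hP, ea, eb, eP, eQ, eC⟩ |
    ⟨hP, ea, eb, eP, eQ, eC⟩
  rotate_left
  · have := hmem 7590 (by rw [eC]; norm_num)
    rw [ea, eb, eP, eQ, eC, srch_1344 _ D.cand] at this
    exact absurd this List.not_mem_nil
  · have := hmem 11385 (by rw [eC]; norm_num)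
    rw [ea, eb, eP, eQ, eC, (srch_896 _ D.cand).1] at this
    exact absurd this List.not_mem_nil
  · have := hmem 11385 (by rw [eC]; norm_num)
    rw [ea, eb, eP, eQ, eC, (srch_896 _ D.cand).2] at this
    exact absurd this List.not_mem_nil
  have hm := hmem 3795 (by rw [eC]; norm_num)
  rw [ea, eb, eP, eQ, eC] at hm
  have hfin := srch_2688 _ D.cand _ hm
  have hQ : dg D.Q = 1035 := by rcases hB with ⟨-, e⟩ | ⟨e, -⟩ <;> omega
  refine ⟨eC, hP, hQ, u, hu, hu4, hlt, fun χ => ?_, ?_, hone, h8, ea, eb, eP, eQ, hyy, l, hperm, hmap, ?_⟩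
  · have := hdvd χ
    rw [eC] at this
    simpa using this
  · rw [hsum, eC]; norm_num
  · have hz' : List.zipWith (fun d v => w23 d * v) (D.six.map dg) (l.map u) =
        pl.map fun q => w23 q.1 * q.2 := by
      rw [← hmap, List.zipWith_map, List.zipWith_self, List.map_map]; rfl
    simp only [hz', ← hsv] at hfin
    rw [hmap, show u D.y₁ = _ from hWv, ea, eb]
    exact hfin

end Cfsg.Agent.Order10200960
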