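/-
The principal block at an element of order 7.

Main results (namespace `Cfsg.Agent.Order10200960`):
* `seven_local` : the centraliser has even order
* `seven_block` : the block has the degrees 1, 990, 990, 1035, 2024
-/
import Cfsg.Agent.Lib.Order10200960.OrdInvol

set_option autoImplicit false
set_option maxRecDepth 10000
set_option maxHeartbeats 1000000
set_option synthInstance.maxSize 1024

open scoped ComplexConjugate

namespace Cfsg.Agent.Order10200960

open Cfsg Cfsg.Agent.Blocks Cfsg.Agent.CyclicDefect Cfsg.Agent.SmallOrders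
open Cfsg.Agent.SmallOrders.BlockDegrees (oneChar)
open Cfsg.Agent.OrderM22 (dg Col)

theorem no_consecutive_seven : ∀ d ∈ dgList, ∀ m ∈ dgList,
    (d % 7 = 1 ∨ d % 7 = 6) ∧ (m % 7 = 2 ∨ m % 7 = 5) ∧ d ≠ 23 ∧ m ≠ 23 → m ≠ d + 1 ∧ d ≠ m + 1 := by
  decide +kernel

/-- The residue of a signed member. -/
def memRes (j : ℕ) (s : ℤ) (d : ℕ) (inE : Bool) : Bool :=
  if j = 6 then decide (s * (d : ℤ) % 7 = 1)
  else if inE then decide (s * (d : ℤ) % 7 = 4) else decide (s * (d : ℤ) % 7 = 1)

theorem six_negative : ∀ d ∈ degs23, ∀ s ∈ [(1 : ℤ), -1], ∀ j ∈ [3, 6], ∀ b ∈ [true, false],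
    memRes j s d b = true → s * w23 d < 0 →
      (d = 22 ∧ s = 1 ∧ (j = 6 ∨ b = false)) ∨ (d = 990 ∧ j = 3 ∧ b = true) := by decide +kernel

theorem y_outside : ∀ d ∈ [264, 495, 770], ∀ s ∈ [(1 : ℤ), -1], ∀ j ∈ [3, 6], ∀ b ∈ [true, false],
    memRes j s d b = false := by decide +kernel

theorem sols23_y : ∀ q ∈ sols23, q.2.1 ∈ [264, 495, 770] := by decide +kernel

theorem sols23_twentytwo : ∀ q ∈ sols23, ∀ i < 6, q.1[i]? = some 22 →
    (∃ v, q.2.2.1[i]? = some v ∧ (1 - v) % 7 = 0) →
    q = ([22, 22, 22, 528, 990, 990], 495, [-6, 2, 2, 0, -30, 6], 15) := by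
  have key : ∀ q ∈ sols23, ∀ i < 6, q.1[i]? = some 22 →
      (1 - (q.2.2.1[i]?).getD 0) % 7 = 0 →
      q = ([22, 22, 22, 528, 990, 990], 495, [-6, 2, 2, 0, -30, 6], 15) := by decide +kernel
  rintro q hq i hi h1 ⟨v, hv, hv7⟩
  exact key q hq i hi h1 (by rw [hv]; simpa using hv7)

theorem sols23_pair' : ∀ q ∈ sols23, ∀ i ∈ List.range 6, ∀ k ∈ List.range 6, i ≠ k →
    q.1.getD i 0 = 990 → q.1.getD k 0 = 990 → q.2.2.1.getD i 0 = q.2.2.1.getD k 0 →
    (2 * q.2.2.1.getD i 0 + 1) % 7 = 0 →
    q = ([22, 231, 231, 231, 990, 990], 770, [6, 7, 7, 7, -18, -18], -14) := by decide +kernel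

theorem sols23_pair : ∀ q ∈ sols23, ∀ i < 6, ∀ k < 6, i ≠ k → q.1[i]? = some 990 → q.1[k]? = some 990 →
    (q.2.2.1[i]?).getD 0 = (q.2.2.1[k]?).getD 0 → (2 * (q.2.2.1[i]?).getD 0 + 1) % 7 = 0 →
    q = ([22, 231, 231, 231, 990, 990], 770, [6, 7, 7, 7, -18, -18], -14) := fun q hq i hi k hk hne h1 h2 h3 h4 =>
  sols23_pair' q hq i (List.mem_range.mpr hi) k (List.mem_range.mpr hk) hne
    (by rw [List.getD_eq_getElem?_getD, h1]; rfl) (by rw [List.getD_eq_getElem?_getD, h2]; rfl)
    (by rw [List.getD_eq_getElem?_getD, List.getD_eq_getElem?_getD]; exact h3)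
    (by rw [List.getD_eq_getElem?_getD]; exact h4)

theorem six_bound : ∀ m < 6, ∀ r ∈ [(1 : ℤ), -1],
    r * ((([22, 22, 22, 528, 990, 990] : List ℕ).getD m 0 : ℕ) : ℤ) % 7 = 1 →
    (r - ([-6, 2, 2, 0, -30, 6] : List ℤ).getD m 0) % 7 = 0 →
    r * ([-6, 2, 2, 0, -30, 6] : List ℤ).getD m 0 ≤ 1 := by decide +kernel

theorem small_sq {v : ℤ} (h : v ^ 2 ≤ 26) : -5 ≤ v ∧ v ≤ 5 := ⟨by nlinarith, by nlinarith⟩

theorem outside_small : ∀ d ∈ dgList, ∀ s ∈ [(1 : ℤ), -1], ∀ i ∈ List.range 11,
    s * (d : ℤ) % 7 = 1 → ((i : ℤ) - 5 - s) % 7 = 0 → s * ((i : ℤ) - 5) ≤ 1 := by decide +kernel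

variable {G : Type*} [Group G] [Finite G] [IsSimpleGroup G]

theorem no_degree_23 (D : Degs G) (hy : dg D.y₁ ≠ 23) (χ : IrrCharacter G) : dg χ ≠ 23 := by
  intro e
  by_cases hl : χ ∈ D.list
  · simp only [Degs.list, List.mem_cons] at hl
    rcases hl with rfl | rfl | rfl | rfl | rfl | rfl | rfl | rfl | rfl | hl
    · rw [dg_oneChar] at e; omega
    · rw [D.dga₁] at e; omega
    · rw [D.dga₂] at e; omega
    · rw [D.dge₁] at e; omega
    · rw [D.dge₂] at e; omega
    · rcases D.dgPQ with ⟨h1, -⟩ | ⟨h1, -⟩ <;> omega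
    · rcases D.dgPQ with ⟨-, h1⟩ | ⟨-, h1⟩ <;> omega
    · exact hy e
    · exact hy (D.dgy ▸ e)
    · have := D.mem_six hl
      rw [e] at this
      exact absurd this (by decide)
  · have := (D.rest χ hl).2
    rw [e] at this
    exact absurd this (by decide)

theorem seven_local (hc : Nat.card G = 10200960) {y : G} (hy : orderOf y = 7) :
    ∃ c j : ℕ, Nat.card (cnt1 y) = 7 * c ∧ Nat.card (nrm y) = 7 * c * j ∧ (j = 2 ∨ j = 3 ∨ j = 6) ∧
      7 * c * j * Nat.card (Sylow 7 G) = 10200960 ∧ Nat.card (Sylow 7 G) % 7 = 1 ∧ 2 ∣ c ∧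
      ¬ 5 ∣ c ∧ ¬ 11 ∣ Nat.card (cnt1 y) ∧ ¬ 23 ∣ Nat.card (cnt1 y) := by
  classical
  have : Fact (Nat.Prime 2) := ⟨Nat.prime_two⟩
  have : Fact (Nat.Prime 5) := ⟨by norm_num⟩
  have : Fact (Nat.Prime 7) := ⟨by norm_num⟩
  have : Fact (Nat.Prime 11) := ⟨by norm_num⟩
  have : Fact (Nat.Prime 23) := ⟨by norm_num⟩
  have := Fintype.ofFinite (IrrCharacter G)
  obtain ⟨c, j, hC, hN, hj1, hj2, hn, hmod, -, -⟩ := local_data hc (by decide) hy
  have h5 : ¬ 5 ∣ Nat.card (cnt1 y) := not_dvd_cnt1_symm (q := 5)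
    (fun b hb => by rw [(five_data hc hb).1]; norm_num) hy
  have h11 : ¬ 11 ∣ Nat.card (cnt1 y) := not_dvd_cnt1_symm (q := 11)
    (fun b hb => by rw [(eleven_data hc hb).1]; norm_num) hy
  have h23 : ¬ 23 ∣ Nat.card (cnt1 y) := not_dvd_cnt1_symm (q := 23)
    (fun b hb => by rw [(twentyThree_data hc hb).1]; norm_num) hy
  refine ⟨c, j, hC, hN, ?_, hn, hmod, ?_, fun h => h5 (hC ▸ dvd_mul_of_dvd_right h _), h11, h23⟩
  · have h1 := Nat.le_of_dvd (by norm_num) hj2
    interval_cases j <;> first | omega | norm_num at hj2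
  · -- an involution centralises an element of order 7
    obtain ⟨D⟩ := exists_degs hc
    obtain ⟨t, ht⟩ := exists_prime_orderOf_dvd_card' (G := G) 2 (by rw [hc]; norm_num)
    obtain ⟨b, hb, hbo⟩ := exists_orderOf_of_dvd (q := 7) (H := cnt1 t)
      (by rw [(invol_data hc D ht).1]; norm_num)
    have h2 : 2 ∣ Nat.card (cnt1 b) := by
      rw [← ht]
      exact Subgroup.orderOf_dvd_natCard _ (Subgroup.mem_centralizer_singleton_iff.mpr
        (Subgroup.mem_centralizer_singleton_iff.mp hb).symm)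
    rw [cnt1_same hc (by decide) hbo hy, hC] at h2
    exact (Nat.Coprime.dvd_mul_left (by norm_num : Nat.Coprime 2 7)).mp h2

/-- The congruences of the members' values at a regular element of order two. -/
theorem member_congr {c e lo : ℕ} {y : G} {L : Subgroup G} {A E : Finset (IrrCharacter G)}
    {τ : IrrCharacter G → ℤ} {η : ℤ} [Fact (Nat.Prime 7)] (h : Blk 7 c e lo y L A E τ η)
    {k : K y L} (hk : orderOf ((k : L) : G) = 2) {u : IrrCharacter G → ℤ}
    (hu : ∀ χ : IrrCharacter G, (χ : G → ℂ) ((k : L) : G) = u χ) :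
    (∀ χ ∈ A, (τ χ - u χ) % 7 = 0) ∧
      ∀ χ ∈ E, ((E.card : ℤ) * u χ + η) % 7 = 0 := by
  classical
  set t := ((k : L) : G)
  have hpow : (y * t) ^ 7 = t := by
    rw [(h.set.commute_K k).mul_pow, ← h.set.hx, pow_orderOf_eq_one, one_mul, h.set.hx,
      pow_eq_pow_mod 7 (show t ^ 2 = 1 by rw [← hk, pow_orderOf_eq_one]), pow_one]
  refine ⟨fun χ hχ => ?_, fun χ hχ => ?_⟩
  · have h1 := int_congr_pow (p := 7) (Char.IsIrrCharacter.isCharacter χ.2) (g := y * t)
      (a := τ χ) (b := u χ) (h.data.valA χ hχ k) (by rw [hpow]; exact hu χ)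
    refine Int.emod_eq_zero_of_dvd ?_
    rcases h.data.sign χ hχ with s | s <;> rw [s] at h1 ⊢ <;> simpa using h1
  · have hchar : IsCharacter G (∑ ψ ∈ E, (ψ : G → ℂ)) :=
      Char.IsCharacter.sum E fun ψ _ => Char.IsIrrCharacter.isCharacter ψ.2
    have h1 := int_congr_pow (p := 7) hchar (g := y * t) (a := -η) (b := E.card * u χ)
      (by rw [Finset.sum_apply]; push_cast; exact h.data.valE k)
      (by
        rw [hpow, Finset.sum_apply]
        push_cast
        rw [Finset.sum_congr rfl fun ψ hψ => by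
          rw [h.eqE hψ hχ (g := t) (by rw [hk]; norm_num), hu χ], Finset.sum_const, nsmul_eq_mul])
    refine Int.emod_eq_zero_of_dvd ?_
    rcases h.data.signE with s | s <;> rw [s] at h1 ⊢ <;> norm_num at h1 ⊢ <;>
      [skip; skip] <;> omega

/-- A negative term in a relation between two blocks. -/
theorem exists_negative {p c e lo : ℕ} {x : G} {L : Subgroup G} {A E : Finset (IrrCharacter G)}
    {τ : IrrCharacter G → ℤ} {η : ℤ} (_h : Blk p c e lo x L A E τ η) {χe : IrrCharacter G} (he : χe ∈ E)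
    {f : IrrCharacter G → ℤ} {a : ℤ} (ha : 0 < a)
    (h0 : a + ∑ χ ∈ A, τ χ * f χ - η * f χe = 0) :
    ∃ (χ : IrrCharacter G) (s : ℤ), (χ ∈ A ∧ s = τ χ ∨ χ ∈ E ∧ s = -η) ∧ s * f χ < 0 := by
  by_contra! hno
  have hA : 0 ≤ ∑ ψ ∈ A, τ ψ * f ψ := Finset.sum_nonneg fun ψ hψ => hno ψ _ (Or.inl ⟨hψ, rfl⟩)
  have hE : 0 ≤ -η * f χe := hno χe _ (Or.inr ⟨he, rfl⟩)
  linarith

theorem seven_block (hc : Nat.card G = 10200960) (D : Degs G) {y : G} (hy : orderOf y = 7) :
    D.six.map dg = [22, 231, 231, 231, 990, 990] ∧ dg D.y₁ = 770 ∧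
    ∃ (c : ℕ) (L : Subgroup G) (A E : Finset (IrrCharacter G)) (τ : IrrCharacter G → ℤ)
      (R : IrrCharacter G),
      Nat.card (cnt1 y) = 7 * c ∧ Nat.card (nrm y) = 7 * c * 3 ∧
      7 * c * 3 * Nat.card (Sylow 7 G) = 10200960 ∧ Nat.card (Sylow 7 G) % 7 = 1 ∧ 2 ∣ c ∧ ¬ 5 ∣ c ∧
      ¬ 11 ∣ Nat.card (cnt1 y) ∧ ¬ 23 ∣ Nat.card (cnt1 y) ∧
      Blk 7 c 3 2 y L A E τ 1 ∧ D.Q ∈ A ∧ τ D.Q = -1 ∧ R ∈ A ∧ τ R = 1 ∧ dg R = 2024 ∧
      ∀ χ ∈ E, dg χ = 990 := by
  classical
  have : Fact (Nat.Prime 2) := ⟨Nat.prime_two⟩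
  have : Fact (Nat.Prime 7) := ⟨by norm_num⟩
  have : Fact (Nat.Prime 11) := ⟨by norm_num⟩
  have : Fact (Nat.Prime 23) := ⟨by norm_num⟩
  have := Fintype.ofFinite (IrrCharacter G)
  obtain ⟨c, j, hC, hN, hj, hn, hmod, h2c, h5c, h11, h23⟩ := seven_local hc hy
  obtain ⟨L, A, E, τ, η, h⟩ := exists_blk (lo := 2) (not_comm_ord hc) (by norm_num) hy
    (not_sq_ord hc (by decide)) hC hN (Or.inl le_rfl)
  obtain ⟨χe, hχe⟩ := h.data.nonempty
  have hAE := h.data.cardA
  have hEc := h.data.cardE
  have hj36 : j = 3 ∨ j = 6 := by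
    rcases hj with rfl | hj
    · exfalso
      obtain ⟨ψ, hψ⟩ := Finset.card_eq_one.mp (show A.card = 1 by omega)
      have hψA : ψ ∈ A := by rw [hψ]; exact Finset.mem_singleton_self _
      have heq := h.deg_eq hχe
      rw [hψ, Finset.sum_singleton] at heq
      have h1 := h.data.degA ψ hψA
      have h2 := h.data.degE χe hχe
      have hy23 : dg D.y₁ ≠ 23 := fun e => by
        have := D.y_mem; rw [e] at this; exact absurd this (by decide)
      obtain ⟨k1, k2⟩ := no_consecutive_seven _ (mem_dgList hc ψ) _ (mem_dgList hc χe) ⟨by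
        rcases h.data.sign ψ hψA with s | s <;> rw [s] at h1 <;> simp only [dg] at h1 ⊢ <;> omega, by
        rcases h.data.signE with s | s <;> rw [s] at h2 <;> simp only [dg] at h2 ⊢ <;> omega,
        no_degree_23 D hy23 ψ, no_degree_23 D hy23 χe⟩
      have := dg_pos' ψ; have := dg_pos' χe
      rcases h.data.sign ψ hψA with s | s <;> rcases h.data.signE with r | r <;>
        rw [s, r] at heq <;> omega
    · exact hj
  obtain ⟨k0, hk0⟩ := exists_prime_orderOf_dvd_card' (G := K y L) 2 (h.cardK.symm ▸ h2c)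
  have hk : orderOf ((k0 : L) : G) = 2 := by rw [Subgroup.orderOf_coe, Subgroup.orderOf_coe, hk0]
  obtain ⟨-, hP, hQ, u, hu, hu4, hlt, hdvd, hsum, hone, h8, ha, hb, huP, huQ, hyy, l, hperm, hmap, hsol⟩ :=
    invol_data hc D hk
  obtain ⟨hA7, hE7⟩ := member_congr h hk hu
  -- a signed member
  have hmem : ∀ (χ : IrrCharacter G) (s : ℤ), (χ ∈ A ∧ s = τ χ ∨ χ ∈ E ∧ s = -η) →
      (s = 1 ∨ s = -1) ∧ χ ≠ oneChar G ∧ (∃ b : Bool, memRes j s (dg χ) b = true ∧ (b = true → χ ∈ E) ∧
        (b = false → χ ∈ A)) ∧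
      (j = 6 ∨ χ ∈ A → (s - u χ) % 7 = 0) ∧ (j = 3 → χ ∈ E → (2 * u χ - s) % 7 = 0) ∧ dg χ ≠ 896 := by
    intro χ s hs
    have hne8 : dg χ ≠ 896 := fun e => by
      have := h.not_mem_of_vanish (χ := χ) h2c (defect_le Nat.prime_two Nat.card_pos.ne'
        (dg_pos' χ).ne' (k := 7) (by rw [hc]; norm_num) (by rw [e]; norm_num))
      exact hs.elim (fun e => this.1 e.1) fun e => this.2 e.1
    rcases hs with ⟨hm, rfl⟩ | ⟨hm, rfl⟩
    · have h1 := (h.data.degA χ hm).2
      refine ⟨h.data.sign χ hm, h.ne_one_A hm, ⟨false, ?_, by simp, fun _ => hm⟩,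
        fun _ => hA7 χ hm, fun _ hmE => absurd hmE (Finset.disjoint_left.mp h.data.disj hm), hne8⟩
      unfold memRes; simp only [dg] at h1 ⊢
      rcases hj36 with rfl | rfl <;> simpa using h1
    · have h1 := (h.data.degE χ hm).2
      refine ⟨by rcases h.data.signE with e | e <;> simp [e], h.ne_one_E hm,
        ⟨true, ?_, fun _ => hm, by simp⟩, fun ho => ?_, fun e _ => ?_, hne8⟩
      · unfold memRes; simp only [dg] at h1 ⊢
        rcases hj36 with rfl | rfl <;> simp <;> rcases h.data.signE with e | e <;> rw [e] at h1 ⊢ <;>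
          norm_num at h1 ⊢ <;> omega
      · rcases ho with e | hmA
        · have := hE7 χ hm
          rw [hEc, e] at this
          norm_num at this
          omega
        · exact absurd hm (Finset.disjoint_left.mp h.data.disj hmA)
      · have := hE7 χ hm
        rw [hEc, e] at this
        norm_num at this
        omega
  have hq7 : 7 ∣ 7 := dvd_rfl
  have hy7 : dg D.y₁ ∈ [264, 495, 770] := sols23_y _ hsol
  have hPQ : dg D.P = 230 ∧ dg D.Q = 1035 := ⟨hP, hQ⟩
  -- who may be a member with nonzero weight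
  have hlistM : ∀ (χ : IrrCharacter G) (s : ℤ), (χ ∈ A ∧ s = τ χ ∨ χ ∈ E ∧ s = -η) → χ ∈ D.list →
      ((χ = D.P ∨ χ = D.Q) ∧ s = -1 ∧ (j = 3 → χ ∈ A) ∧ χ = D.Q) ∨ χ ∈ D.six := by
    intro χ s hs hl
    obtain ⟨hs1, hne, ⟨b, hb', hbE, hbA⟩, hV, hV3, hne8⟩ := hmem χ s hs
    simp only [Degs.list, List.mem_cons] at hl
    have h45 : dg χ = 45 → u χ = -3 → False := fun e eu => by
      rw [e] at hb'
      unfold memRes at hb'
      rcases hj36 with rfl | rfl
      · cases b
        · rcases hs1 with rfl | rfl <;> norm_num at hb'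
        · have := hV3 rfl (hbE rfl)
          rw [eu] at this
          rcases hs1 with rfl | rfl <;> first | (norm_num at hb'; done) | (norm_num at this; done)
      · rcases hs1 with rfl | rfl <;> norm_num at hb'
    rcases hl with rfl | rfl | rfl | rfl | rfl | rfl | rfl | rfl | rfl | hl
    · exact absurd rfl hne
    · exact (h45 D.dga₁ ha).elim
    · exact (h45 D.dga₂ hb).elim
    · exact absurd D.dge₁ hne8
    · exact absurd D.dge₂ hne8
    · exfalso
      rw [hP] at hb'
      unfold memRes at hb'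
      rcases hj36 with rfl | rfl
      · cases b
        · have := hV (Or.inr (hbA rfl))
          rw [huP] at this
          rcases hs1 with rfl | rfl <;> first | (norm_num at hb'; done) | (norm_num at this; done)
        · rcases hs1 with rfl | rfl <;> norm_num at hb'
      · have := hV (Or.inl rfl)
        rw [huP] at this
        rcases hs1 with rfl | rfl <;> first | (norm_num at hb'; done) | (norm_num at this; done)
    · left
      rw [hQ] at hb'
      unfold memRes at hb'
      refine ⟨Or.inr rfl, ?_, fun e => ?_, rfl⟩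
      · rcases hj36 with rfl | rfl <;> cases b <;> rcases hs1 with rfl | rfl <;> first | rfl | (norm_num at hb'; done)
      · subst e
        cases b
        · exact hbA rfl
        · rcases hs1 with rfl | rfl <;> norm_num at hb'
    · exact absurd hb' (by rw [y_outside _ hy7 s (by simpa using hs1) j (by simpa using hj36) b (by cases b <;> simp)]; simp)
    · exact absurd hb' (by rw [D.dgy, y_outside _ hy7 s (by simpa using hs1) j (by simpa using hj36) b (by cases b <;> simp)]; simp)
    · exact Or.inr hl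
  -- the member of degree 1035
  obtain ⟨x11, hx11⟩ := exists_prime_orderOf_dvd_card' (G := G) 11 (by rw [hc]; norm_num)
  obtain ⟨x23, hx23⟩ := exists_prime_orderOf_dvd_card' (G := G) 23 (by rw [hc]; norm_num)
  obtain ⟨F', E', hcol11⟩ := col11 hc hx11
  obtain ⟨F'', E'', hcol23⟩ := col23 hc hx23
  have hj11 := joint_col hcol11 hx11 h h11 hχe
  have hj23 := joint_col hcol23 hx23 h h23 hχe
  have hw1 : w11 1 = 2 ∧ w23 1 = 2 := by decide
  rw [hw1.1] at hj11
  rw [hw1.2] at hj23
  have hQmem : D.Q ∈ A ∨ D.Q ∈ E := by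
    obtain ⟨χ, s, hs, hneg⟩ := exists_negative h hχe two_pos hj11
    have hl : χ ∈ D.list := by
      by_contra hl
      rw [(D.rest χ hl).2, mul_zero] at hneg
      omega
    rcases hlistM χ s hs hl with ⟨-, -, -, rfl⟩ | h6
    · exact hs.elim (fun e => Or.inl e.1) fun e => Or.inr e.1
    · have key : ∀ d ∈ degs23, w11 d = 0 := by decide
      rw [key _ (D.mem_six h6), mul_zero] at hneg
      omega
  have hQs : ∀ s, (D.Q ∈ A ∧ s = τ D.Q ∨ D.Q ∈ E ∧ s = -η) → s = -1 ∧ (j = 3 → D.Q ∈ A) := by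
    intro s hs
    rcases hlistM D.Q s hs (by simp [Degs.list]) with ⟨-, e1, e2, -⟩ | h6
    · exact ⟨e1, e2⟩
    · have := D.mem_six h6
      rw [hQ] at this
      exact absurd this (by decide)
  -- the member with negative weight at 23
  obtain ⟨χ, s, hs, hneg⟩ := exists_negative h hχe two_pos hj23
  have hl : χ ∈ D.list := by
    by_contra hl
    rw [(D.rest χ hl).1, mul_zero] at hneg
    omega
  have h6 : χ ∈ D.six := (hlistM χ s hs hl).resolve_left fun ⟨_, _, _, e⟩ => by
    rw [e, hQ, show w23 1035 = 0 by decide, mul_zero] at hneg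
    omega
  obtain ⟨hs1, -, ⟨b, hb', hbE, hbA⟩, hV, hV3, -⟩ := hmem χ s hs
  have hl6 : χ ∈ l := hperm.symm.subset h6
  obtain ⟨i, hi, hig⟩ := List.mem_iff_getElem.mp hl6
  have hlen : l.length = 6 := by
    have key : ∀ q ∈ sols23, q.1.length = 6 := by decide
    simpa using key _ hsol
  have hi1 : (l.map dg)[i]? = some (dg χ) := by rw [List.getElem?_map, List.getElem?_eq_getElem hi, hig]; rfl
  have hi2 : (l.map u)[i]? = some (u χ) := by rw [List.getElem?_map, List.getElem?_eq_getElem hi, hig]; rfl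
  rcases six_negative _ (D.mem_six h6) s (by simpa using hs1) j (by simpa using hj36) b
    (by cases b <;> simp) hb' hneg with ⟨hd, rfl, hcase⟩ | ⟨hd, rfl, rfl⟩
  · -- the case of degree 22 is impossible
    exfalso
    have h1 : (1 - u χ) % 7 = 0 := hV (hcase.imp id fun e => hbA e)
    have hS := sols23_twentytwo _ hsol i (by omega) (by rw [hi1, hd]) ⟨u χ, hi2, h1⟩
    simp only [Prod.mk.injEq] at hS
    obtain ⟨hS1, hSy, hS3, hSW⟩ := hS
    have hsix : (D.six.map fun χ => u χ ^ 2).sum = 980 := by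
      rw [← (hperm.map _).sum_eq, show (l.map fun χ => u χ ^ 2) = (l.map u).map (fun v => v ^ 2) by
        rw [List.map_map]; rfl, hS3]
      norm_num
    have hnd : D.list.Nodup := D.nodup
    have hout : ∀ ψ : IrrCharacter G, ψ ∉ D.list → u ψ ^ 2 ≤ 26 := fun ψ hψ => by
      have h1 : (((ψ :: D.list).map fun χ => u χ ^ 2).sum : ℤ) ≤ 2688 := by
        rw [← hsum, ← List.sum_toFinset (fun χ => u χ ^ 2) (List.nodup_cons.mpr ⟨hψ, hnd⟩)]
        exact Finset.sum_le_sum_of_subset_of_nonneg (Finset.subset_univ _) fun χ _ _ => sq_nonneg _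
      simp only [Degs.list, List.map_cons, List.sum_cons, hone, h8 _ D.dge₁, h8 _ D.dge₂, ha, hb, huP,
        huQ, hyy, hSW, hsix] at h1
      norm_num at h1
      linarith
    rcases hj36 with rfl | rfl
    · -- two members and a pair of degree 1012
      have hχA : χ ∈ A := hbA (hcase.resolve_left (by norm_num))
      have hQA : D.Q ∈ A := hQmem.elim id fun e => (hQs _ (Or.inr ⟨e, rfl⟩)).2 rfl
      have hτQ : τ D.Q = -1 := (hQs _ (Or.inl ⟨hQA, rfl⟩)).1
      have hτχ : τ χ = 1 := by
        rcases hs with ⟨-, e⟩ | ⟨e, -⟩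
        · exact e.symm
        · exact absurd e (Finset.disjoint_left.mp h.data.disj hχA)
      have hne : χ ≠ D.Q := fun e => by rw [e, hQ] at hd; omega
      have hAeq : A = {χ, D.Q} := (Finset.eq_of_subset_of_card_le
        (Finset.insert_subset hχA (Finset.singleton_subset_iff.mpr hQA))
        (by rw [Finset.card_pair hne]; omega)).symm
      have h1 := h.deg_eq hχe
      rw [hAeq, Finset.sum_pair hne, hτχ, hτQ, hd, hQ] at h1
      have h2 := h.data.rel ((k0 : L) : G) (by rw [hk]; norm_num) χe hχe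
      rw [hAeq, Finset.sum_pair hne, hτχ, hτQ, hu, hu, hu, huQ] at h2
      have h3 : η * u χe = 1 + u χ - 27 := by
        apply Int.cast_injective (α := ℂ)
        push_cast at h2 ⊢
        linear_combination h2
      have huχ : u χ ≤ 2 := by
        have key : ∀ v ∈ [(-6 : ℤ), 2, 2, 0, -30, 6].take 3, v ≤ 2 := by decide
        have hi3 : i < 3 := by
          by_contra hge
          rw [hS1] at hi1
          have key2 : ∀ i < 6, 3 ≤ i → ([22, 22, 22, 528, 990, 990] : List ℕ)[i]? ≠ some 22 := by decide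
          exact key2 i (by omega) (by omega) (hd ▸ hi1)
        rw [hS3] at hi2
        refine key _ (List.mem_of_getElem? (i := i) ?_)
        rw [List.getElem?_take, if_pos hi3]
        exact hi2
      have hout' : χe ∉ D.list := fun hl' => by
        have hde : dg χe = 1012 := by rcases h.data.signE with e | e <;> rw [e] at h1 <;> omega
        simp only [Degs.list, List.mem_cons] at hl'
        rcases hl' with e | e | e | e | e | e | e | e | e | e
        all_goals first
          | (rw [e, dg_oneChar] at hde; omega)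
          | (rw [e, D.dga₁] at hde; omega)
          | (rw [e, D.dga₂] at hde; omega)
          | (rw [e, D.dge₁] at hde; omega)
          | (rw [e, D.dge₂] at hde; omega)
          | (rw [e, hP] at hde; omega)
          | (rw [e, hQ] at hde; omega)
          | (rw [e, hSy] at hde; omega)
          | (rw [e, D.dgy, hSy] at hde; omega)
          | (have := D.mem_six e; rw [hde] at this; exact absurd this (by decide))
      have h4 := hout χe hout'
      have h5 := small_sq h4
      rcases h.data.signE with e | e <;> rw [e] at h3 <;> omega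
    · -- six members with signs
      have hE1 : E = {χe} := by
        obtain ⟨a, ha'⟩ := Finset.card_eq_one.mp (show E.card = 1 by omega)
        rw [ha'] at hχe ⊢
        rw [Finset.mem_singleton.mp hχe]
      have h2 := h.data.rel ((k0 : L) : G) (by rw [hk]; norm_num) χe hχe
      set f : IrrCharacter G → ℤ := fun ψ => (if ψ ∈ A then τ ψ else -η) * u ψ with hf
      have h3 : ∑ ψ ∈ A ∪ E, f ψ = -1 := by
        rw [Finset.sum_union h.data.disj, hE1, Finset.sum_singleton,
          Finset.sum_congr rfl (g := fun ψ => τ ψ * u ψ) fun ψ hψ => by rw [hf]; simp [hψ]]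
        have hχA : χe ∉ A := Finset.disjoint_right.mp h.data.disj hχe
        rw [hf]
        simp only [if_neg hχA]
        apply Int.cast_injective (α := ℂ)
        push_cast
        simp only [hu] at h2
        linear_combination -h2
      have hbound : ∀ ψ ∈ A ∪ E, f ψ ≤ if ψ = D.Q then -27 else 1 := by
        intro ψ hψ
        have hs' : ψ ∈ A ∧ (if ψ ∈ A then τ ψ else -η) = τ ψ ∨
            ψ ∈ E ∧ (if ψ ∈ A then τ ψ else -η) = -η := by
          rcases Finset.mem_union.mp hψ with h' | h'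
          · exact Or.inl ⟨h', if_pos h'⟩
          · exact Or.inr ⟨h', if_neg (Finset.disjoint_right.mp h.data.disj h')⟩
        obtain ⟨hs1', -, ⟨b', hb'', -, -⟩, hV', -, -⟩ := hmem ψ _ hs'
        have hres : (if ψ ∈ A then τ ψ else -η) * (dg ψ : ℤ) % 7 = 1 := by
          simpa [memRes] using hb''
        have hcg := hV' (Or.inl rfl)
        split_ifs with hψQ
        · subst hψQ
          rw [hf]; simp only
          rw [(hQs _ hs').1, huQ]
          norm_num
        · rw [hf]; simp only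
          generalize (if ψ ∈ A then τ ψ else -η) = r at hs1' hres hcg hs' ⊢
          by_cases hl' : ψ ∈ D.list
          · rcases hlistM ψ r hs' hl' with ⟨-, -, -, e⟩ | h6'
            · exact absurd e hψQ
            · obtain ⟨m, hm, hmg⟩ := List.mem_iff_getElem.mp (hperm.symm.subset h6')
              have e1 : (l.map dg)[m]? = some (dg ψ) := by
                rw [List.getElem?_map, List.getElem?_eq_getElem hm, hmg]; rfl
              have e2 : (l.map u)[m]? = some (u ψ) := by
                rw [List.getElem?_map, List.getElem?_eq_getElem hm, hmg]; rfl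
              rw [hS1] at e1
              rw [hS3] at e2
              have key : ∀ m < 6, ∀ r ∈ [(1 : ℤ), -1],
                  r * ((([22, 22, 22, 528, 990, 990] : List ℕ).getD m 0 : ℕ) : ℤ) % 7 = 1 →
                  (r - ([-6, 2, 2, 0, -30, 6] : List ℤ).getD m 0) % 7 = 0 →
                  r * ([-6, 2, 2, 0, -30, 6] : List ℤ).getD m 0 ≤ 1 := six_bound
              have g1 : ([22, 22, 22, 528, 990, 990] : List ℕ).getD m 0 = dg ψ := by
                rw [List.getD_eq_getElem?_getD, e1]; rfl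
              have g2 : ([-6, 2, 2, 0, -30, 6] : List ℤ).getD m 0 = u ψ := by
                rw [List.getD_eq_getElem?_getD, e2]; rfl
              have := key m (by omega) r (by simpa using hs1') (by rw [g1]; exact hres)
                (by rw [g2]; exact hcg)
              rwa [g2] at this
          · have h4 := hout ψ hl'
            obtain ⟨n, hn', he'⟩ : ∃ n : ℕ, n < 11 ∧ u ψ = (n : ℤ) - 5 :=
              ⟨(u ψ + 5).toNat, by have := small_sq h4; omega, by have := small_sq h4; omega⟩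
            rw [he']
            exact outside_small _ (mem_dgList hc ψ) r (by simpa using hs1') n (List.mem_range.mpr hn')
              hres (by omega)
      have h5 := Finset.sum_le_sum hbound
      have hQm : D.Q ∈ A ∪ E := Finset.mem_union.mpr hQmem
      rw [h3, ← Finset.add_sum_erase _ _ hQm, if_pos rfl,
        Finset.sum_congr rfl (g := fun _ => (1 : ℤ)) fun ψ hψ => if_neg (Finset.mem_erase.mp hψ).1,
        Finset.sum_const, Finset.card_erase_of_mem hQm, Finset.card_union_of_disjoint h.data.disj,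
        nsmul_eq_mul, mul_one] at h5
      rw [show A.card + E.card - 1 = 5 by omega] at h5
      norm_num at h5
  · -- the pair of degree 990
    have hχE : χ ∈ E := hbE rfl
    obtain ⟨χ', hχ'E, hne⟩ := Finset.exists_mem_ne (show 1 < E.card by omega) χ
    have hd' : dg χ' = 990 := by rw [h.dgE hχ'E hχE, hd]
    have hη : η = 1 := by
      have h1 := (h.data.degE χ hχE).2
      rcases h.data.signE with e | e
      · exact e
      · rw [e] at h1; simp only [dg] at hd; rw [hd] at h1; norm_num at h1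
    subst hη
    have hl' : χ' ∈ D.list := by
      by_contra hl'
      have := (D.rest χ' hl').1
      rw [hd'] at this
      exact absurd this (by decide)
    have h6' : χ' ∈ D.six := (hlistM χ' (-1) (Or.inr ⟨hχ'E, rfl⟩) hl').resolve_left fun ⟨_, _, _, e⟩ => by
      rw [e, hQ] at hd'; omega
    obtain ⟨m, hm, hmg⟩ := List.mem_iff_getElem.mp (hperm.symm.subset h6')
    have hu' : u χ' = u χ := by
      have := h.eqE hχ'E hχE (g := ((k0 : L) : G)) (by rw [hk]; norm_num)
      rw [hu, hu] at this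
      exact_mod_cast this
    have hm1 : (l.map dg)[m]? = some 990 := by
      rw [List.getElem?_map, List.getElem?_eq_getElem hm, hmg, ← hd']; rfl
    have hm2 : (l.map u)[m]? = some (u χ) := by
      rw [List.getElem?_map, List.getElem?_eq_getElem hm, hmg, ← hu']; rfl
    have hS := sols23_pair _ hsol i (by omega) m (by omega)
      (fun e => by subst e; exact hne (hmg.symm.trans hig)) (by rw [hi1, hd]) hm1
      (by rw [hi2, hm2])
      (by
        have h1 := hV3 rfl hχE
        rcases hs with ⟨e, -⟩ | ⟨-, e⟩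
        · exact absurd hχE (Finset.disjoint_left.mp h.data.disj e)
        · rw [e] at h1; rw [hi2]; simpa using h1)
    simp only [Prod.mk.injEq] at hS
    have hQA : D.Q ∈ A := hQmem.elim id fun e => (hQs _ (Or.inr ⟨e, rfl⟩)).2 rfl
    have hτQ : τ D.Q = -1 := (hQs _ (Or.inl ⟨hQA, rfl⟩)).1
    obtain ⟨R, hRA, hRne⟩ := Finset.exists_mem_ne (show 1 < A.card by omega) D.Q
    have hAeq : A = {D.Q, R} := (Finset.eq_of_subset_of_card_le
      (Finset.insert_subset hQA (Finset.singleton_subset_iff.mpr hRA))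
      (by rw [Finset.card_pair hRne.symm]; omega)).symm
    have h1 := h.deg_eq hχE
    rw [hAeq, Finset.sum_pair hRne.symm, hτQ, hQ, hd] at h1
    have hR : τ R = 1 ∧ dg R = 2024 := by
      rcases h.data.sign R hRA with e | e <;> rw [e] at h1
      · exact ⟨e, by omega⟩
      · omega
    exact ⟨hmap ▸ hS.1, hS.2.1, c, L, A, E, τ, R, hC, hN, hn, hmod, h2c, h5c, h11, h23, h,
      hQA, hτQ, hRA, hR.1, hR.2, fun ψ hψ => by rw [h.dgE hψ hχE, hd]⟩

end Cfsg.Agent.Order10200960
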