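/-
The local data of a simple group of order 10200960.

Main results (namespace `Cfsg.Agent.Order10200960`):
* `conj_invol_ord` : one class of involutions
* `seven_data` : `|C(y)| = 14` and `|N(⟨y⟩)| = 42`
* `localData_of_order` : the data used for the identification
-/
import Cfsg.Agent.Lib.Order10200960.OrdSeven
import Cfsg.Agent.Lib.Order10200960.OrdCyclicSeven

set_option autoImplicit false
set_option maxRecDepth 10000
set_option maxHeartbeats 1000000
set_option synthInstance.maxSize 1024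

open scoped ComplexConjugate

namespace Cfsg.Agent.Order10200960

open Cfsg Cfsg.Agent.Blocks Cfsg.Agent.CyclicDefect Cfsg.Agent.SmallOrders
open Cfsg.Agent.SmallOrders.BlockDegrees (oneChar)
open Cfsg.Agent.OrderM22 (dg Col)

theorem sols23_six : ∀ q ∈ sols23, q.1 = [22, 231, 231, 231, 990, 990] →
    q.2.2.1 = [6, 7, 7, 7, -18, -18] ∧ q.2.2.2 = -14 := by decide +kernel

theorem outside_253 : ∀ d ∈ dgList, w23 d = 0 → w11 d = 0 → d ≠ 115 → d % 253 = 0 ∧ 253 ≤ d := by
  decide +kernel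

variable {G : Type*} [Group G] [Finite G]

/-- An element of order 7 with an automizer of order 3 is conjugate to its square. -/
theorem exists_conj_sq [Fact (Nat.Prime 7)] {y : G} {c : ℕ} (hy : orderOf y = 7)
    (hC : Nat.card (cnt1 y) = 7 * c) (hN : Nat.card (nrm y) = 7 * c * 3) : IsConj y (y ^ 2) := by
  let θ : nrm y →* MulAut (Subgroup.zpowers y) := (Subgroup.zpowers y).normalizerMonoidHom
  have hk : θ.ker = (cnt1 y).subgroupOf (nrm y) := by
    rw [cnt1, ← SmallOrders.centralizer_zpowers]; exact (Subgroup.zpowers y).normalizerMonoidHom_ker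
  have hidx : θ.ker.index = 3 := by
    have h1 := θ.ker.card_mul_index
    conv_lhs at h1 => arg 1; rw [hk, Nat.card_congr (Subgroup.subgroupOfEquivOfLe (cnt1_le_nrm y)).toEquiv, hC]
    have hpos : 0 < 7 * c := hC ▸ Nat.card_pos
    exact Nat.eq_of_mul_eq_mul_left hpos (h1.trans hN)
  have hne : θ.ker ≠ ⊤ := fun e => by rw [e, Subgroup.index_top] at hidx; omega
  obtain ⟨g, -, hg⟩ := SetLike.exists_of_lt (lt_top_iff_ne_top.mpr hne)
  have hm : (g : G) * y * (g : G)⁻¹ ∈ Subgroup.zpowers y :=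
    (Subgroup.mem_normalizer_iff.mp g.2 y).mp (Subgroup.mem_zpowers y)
  obtain ⟨i, hi⟩ := (mem_powers_iff_mem_zpowers.mpr hm)
  simp only at hi
  have hit : ∀ n : ℕ, (g : G) ^ n * y * ((g : G) ^ n)⁻¹ = y ^ (i ^ n) := by
    intro n
    induction n with
    | zero => simp
    | succ m ih =>
      rw [pow_succ', mul_inv_rev, show (g : G) * (g : G) ^ m * y * (((g : G) ^ m)⁻¹ * (g : G)⁻¹) =
          (g : G) * ((g : G) ^ m * y * ((g : G) ^ m)⁻¹) * (g : G)⁻¹ by group, ih, ← conj_pow, ← hi,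
        ← pow_mul, ← pow_succ']
  have h3 : y ^ (i ^ 3) = y := by
    have hm3 := Subgroup.pow_index_mem θ.ker g
    rw [hidx, hk, Subgroup.mem_subgroupOf, Subgroup.mem_centralizer_singleton_iff] at hm3
    simp only [SubgroupClass.coe_pow] at hm3
    rw [← hit 3, hm3, mul_inv_cancel_right]
  have hi1 : i % 7 ≠ 1 := fun e => by
    refine hg ?_
    rw [hk, Subgroup.mem_subgroupOf, Subgroup.mem_centralizer_singleton_iff]
    have e1 : y ^ i = y := by rw [pow_eq_pow_mod i (show y ^ 7 = 1 by rw [← hy, pow_orderOf_eq_one]), e, pow_one]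
    rw [e1] at hi
    exact (mul_inv_eq_iff_eq_mul.mp hi.symm)
  have hmod : i ^ 3 % 7 = 1 := by
    have := pow_eq_pow_iff_modEq.mp (h3.trans (pow_one y).symm)
    rw [hy] at this
    exact this
  rw [Nat.pow_mod] at hmod
  have hy7 : y ^ 7 = 1 := by rw [← hy, pow_orderOf_eq_one]
  obtain ⟨n, hn⟩ : ∃ n : ℕ, (i % 7) ^ n % 7 = 2 := by
    have := Nat.mod_lt i (show 7 > 0 by norm_num)
    generalize i % 7 = r at hmod hi1 this ⊢
    interval_cases r <;> first
      | exact absurd rfl hi1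
      | exact ⟨1, rfl⟩
      | exact ⟨2, rfl⟩
      | exact absurd hmod (by decide)
  refine isConj_iff.mpr ⟨(g : G) ^ n, ?_⟩
  rw [hit, pow_eq_pow_mod (i ^ n) hy7, Nat.pow_mod, hn]

variable [IsSimpleGroup G]

theorem degs_six (hc : Nat.card G = 10200960) (D : Degs G) :
    D.six.map dg = [22, 231, 231, 231, 990, 990] ∧ dg D.y₁ = 770 := by
  have : Fact (Nat.Prime 7) := ⟨by norm_num⟩
  obtain ⟨y, hy⟩ := exists_prime_orderOf_dvd_card' (G := G) 7 (by rw [hc]; norm_num)
  exact ⟨(seven_block hc D hy).1, (seven_block hc D hy).2.1⟩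

theorem invol_six (hc : Nat.card G = 10200960) (D : Degs G) [Fintype (IrrCharacter G)] {t : G}
    (ht : orderOf t = 2) :
    ∃ u : IrrCharacter G → ℤ, (∀ χ : IrrCharacter G, (χ : G → ℂ) t = u χ) ∧
      ∑ χ, u χ ^ 2 = 2688 ∧
      (∀ χ ∈ D.list, u χ = if dg χ = 1 then 1 else if dg χ = 45 then -3 else if dg χ = 230 then 22
        else if dg χ = 1035 then 27 else if dg χ = 22 then 6 else if dg χ = 231 then 7
        else if dg χ = 990 then -18 else if dg χ = 770 then -14 else 0) := by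
  obtain ⟨hs, hy⟩ := degs_six hc D
  obtain ⟨-, hP, hQ, u, hu, -, -, -, hsum, hone, h8, ha, hb, huP, huQ, hyy, l, hperm, hmap, hsol⟩ :=
    invol_data hc D ht
  refine ⟨u, hu, hsum, fun χ hχ => ?_⟩
  obtain ⟨hv, hW⟩ := sols23_six _ hsol (hmap.trans hs)
  simp only at hv hW
  simp only [Degs.list, List.mem_cons] at hχ
  rcases hχ with e | e | e | e | e | e | e | e | e | e
  · simp [e, dg_oneChar, hone]
  · simp [e, D.dga₁, ha]
  · simp [e, D.dga₂, hb]
  · simp [e, D.dge₁, h8 _ D.dge₁]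
  · simp [e, D.dge₂, h8 _ D.dge₂]
  · simp [e, hP, huP]
  · simp [e, hQ, huQ]
  · simp [e, hy, hW]
  · simp [e, D.dgy, hy, hyy, hW]
  · obtain ⟨i, hi, rfl⟩ := List.mem_iff_getElem.mp (hperm.symm.subset e)
    have hlen : l.length = 6 := by simpa using congrArg List.length (hmap.trans hs)
    have e1 : dg l[i] = ([22, 231, 231, 231, 990, 990] : List ℕ).getD i 0 := by
      rw [← hmap.trans hs, List.getD_eq_getElem _ _ (by simpa using hi), List.getElem_map]
    have e2 : u l[i] = ([6, 7, 7, 7, -18, -18] : List ℤ).getD i 0 := by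
      rw [← hv, List.getD_eq_getElem _ _ (by simpa using hi), List.getElem_map]
    rw [e1, e2]
    have key : ∀ i < 6, ([6, 7, 7, 7, -18, -18] : List ℤ).getD i 0 =
        (let d := ([22, 231, 231, 231, 990, 990] : List ℕ).getD i 0
        if d = 1 then 1 else if d = 45 then -3 else if d = 230 then 22
        else if d = 1035 then 27 else if d = 22 then 6 else if d = 231 then 7
        else if d = 990 then -18 else if d = 770 then -14 else 0) := by decide
    exact key i (by omega)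

theorem conj_invol_ord (hc : Nat.card G = 10200960) {s t : G} (hs : orderOf s = 2) (ht : orderOf t = 2) :
    IsConj s t := by
  classical
  by_contra hn
  have := Fintype.ofFinite G
  have := Fintype.ofFinite (IrrCharacter G)
  have : Fact (Nat.Prime 7) := ⟨by norm_num⟩
  obtain ⟨D⟩ := exists_degs hc
  obtain ⟨hsix, hy⟩ := degs_six hc D
  obtain ⟨-, hP, hQ, -⟩ := invol_data hc D hs
  obtain ⟨u, hu, hus, hul⟩ := invol_six hc D hs
  obtain ⟨v, hv, hvs, hvl⟩ := invol_six hc D ht
  have h0 : ∑ χ, u χ * v χ = 0 := by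
    have o := Char.column_orth (G := G) s t
    rw [if_neg hn] at o
    apply Int.cast_injective (α := ℂ)
    push_cast
    rw [← o]
    exact Finset.sum_congr rfl fun χ _ => by rw [hu χ, hv χ, map_intCast]
  have hnd : D.list.Nodup := D.nodup
  set T := D.list.toFinset with hT
  have huv : ∀ χ ∈ T, v χ = u χ := fun χ hχ => by
    rw [hul χ (List.mem_toFinset.mp hχ), hvl χ (List.mem_toFinset.mp hχ)]
  have h2455 : ∑ χ ∈ T, u χ ^ 2 = 2455 := by
    rw [hT, List.sum_toFinset _ hnd, List.map_congr_left (g := fun χ => (if dg χ = 1 then (1 : ℤ)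
        else if dg χ = 45 then -3 else if dg χ = 230 then 22
        else if dg χ = 1035 then 27 else if dg χ = 22 then 6 else if dg χ = 231 then 7
        else if dg χ = 990 then -18 else if dg χ = 770 then -14 else 0) ^ 2) fun χ hχ => by rw [hul χ hχ]]
    rw [show (fun χ : IrrCharacter G => (if dg χ = 1 then (1 : ℤ)
        else if dg χ = 45 then -3 else if dg χ = 230 then 22
        else if dg χ = 1035 then 27 else if dg χ = 22 then 6 else if dg χ = 231 then 7
        else if dg χ = 990 then -18 else if dg χ = 770 then -14 else 0) ^ 2) = (fun d : ℕ => (if d = 1 then (1 : ℤ)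
        else if d = 45 then -3 else if d = 230 then 22
        else if d = 1035 then 27 else if d = 22 then 6 else if d = 231 then 7
        else if d = 990 then -18 else if d = 770 then -14 else 0) ^ 2) ∘ dg from rfl, ← List.map_map]
    simp only [Degs.list, List.map_cons, dg_oneChar, D.dga₁, D.dga₂, D.dge₁, D.dge₂, hP, hQ, D.dgy, hy, hsix]
    decide
  have key := Finset.sum_sdiff (s₁ := T) (s₂ := Finset.univ) (Finset.subset_univ _)
    (f := fun χ => u χ * v χ)
  have ku := Finset.sum_sdiff (s₁ := T) (s₂ := Finset.univ) (Finset.subset_univ _) (f := fun χ => u χ ^ 2)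
  have kv := Finset.sum_sdiff (s₁ := T) (s₂ := Finset.univ) (Finset.subset_univ _) (f := fun χ => v χ ^ 2)
  rw [h0] at key
  rw [hus, h2455] at ku
  rw [hvs, Finset.sum_congr rfl (s₁ := T) (g := fun χ => u χ ^ 2) fun χ hχ => by rw [huv χ hχ], h2455] at kv
  rw [Finset.sum_congr rfl (s₁ := T) (g := fun χ => u χ ^ 2) fun χ hχ => by rw [huv χ hχ, pow_two],
    h2455] at key
  have hle : ∑ χ ∈ Finset.univ \ T, -(u χ ^ 2 + v χ ^ 2) ≤ ∑ χ ∈ Finset.univ \ T, 2 * (u χ * v χ) :=
    Finset.sum_le_sum fun χ _ => by nlinarith [sq_nonneg (u χ + v χ)]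
  rw [← Finset.mul_sum, Finset.sum_neg_distrib, Finset.sum_add_distrib] at hle
  linarith

/-- The two further characters, of degrees 2024 and 253. -/
theorem exists_rest (hc : Nat.card G = 10200960) (D : Degs G) {R : IrrCharacter G} (hR : dg R = 2024) :
    ∃ S : IrrCharacter G, dg S = 253 ∧ (R :: S :: D.list).Nodup ∧ ∀ χ, χ ∈ R :: S :: D.list := by
  classical
  have := Fintype.ofFinite (IrrCharacter G)
  have : Fact (Nat.Prime 2) := ⟨Nat.prime_two⟩
  obtain ⟨hs, hy⟩ := degs_six hc D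
  obtain ⟨t, ht⟩ := exists_prime_orderOf_dvd_card' (G := G) 2 (by rw [hc]; norm_num)
  obtain ⟨-, hP, hQ, -⟩ := invol_data hc D ht
  have hRl : R ∉ D.list := fun hl => by
    have hall : dg R ∈ D.list.map dg := List.mem_map_of_mem hl
    simp only [Degs.list, List.map_cons, dg_oneChar, D.dga₁, D.dga₂, D.dge₁, D.dge₂, hP, hQ, D.dgy, hy, hs,
      hR] at hall
    exact absurd hall (by decide)
  have hnd : (R :: D.list).Nodup := List.nodup_cons.mpr ⟨hRl, D.nodup⟩
  set T := (R :: D.list).toFinset with hT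
  have hsumT : ∑ χ ∈ T, dg χ ^ 2 = 10136951 := by
    rw [hT, List.sum_toFinset _ hnd, show (fun χ : IrrCharacter G => dg χ ^ 2) = (fun d => d ^ 2) ∘ dg from rfl,
      ← List.map_map]
    simp only [Degs.list, List.map_cons, dg_oneChar, D.dga₁, D.dga₂, D.dge₁, D.dge₂, hP, hQ, D.dgy, hy, hs, hR]
    decide
  have key := Finset.sum_sdiff (s₁ := T) (s₂ := Finset.univ) (Finset.subset_univ _)
    (f := fun χ : IrrCharacter G => dg χ ^ 2)
  rw [sum_dg_sq', hc, hsumT] at key
  have hbig : ∀ χ ∈ Finset.univ \ T, 253 ≤ dg χ := fun χ hχ => by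
    have hn : χ ∉ D.list := fun h => (Finset.mem_sdiff.mp hχ).2 (by
      rw [hT, List.mem_toFinset]; exact List.mem_cons_of_mem _ h)
    obtain ⟨e1, e2⟩ := D.rest χ hn
    refine (outside_253 _ (mem_dgList hc χ) e1 e2 fun e => ?_).2
    rw [e] at e2
    exact absurd e2 (by decide)
  have hle := Finset.sum_le_sum (s := Finset.univ \ T) (f := fun _ => (253 : ℕ) ^ 2)
    (g := fun χ => dg χ ^ 2) fun χ hχ => Nat.pow_le_pow_left (hbig χ hχ) 2
  rw [Finset.sum_const, smul_eq_mul] at hle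
  obtain ⟨S, hS⟩ : ∃ S, Finset.univ \ T = {S} := by
    refine Finset.card_eq_one.mp ?_
    rcases Nat.eq_zero_or_pos (Finset.univ \ T).card with e | e
    · rw [Finset.card_eq_zero.mp e, Finset.sum_empty] at key; omega
    · norm_num at hle; omega
  have hST : S ∉ T := (Finset.mem_sdiff.mp (hS ▸ Finset.mem_singleton_self S : S ∈ Finset.univ \ T)).2
  rw [hS, Finset.sum_singleton] at key
  refine ⟨S, ?_, ?_, fun χ => ?_⟩
  · exact Nat.pow_left_injective (two_ne_zero) (show dg S ^ 2 = 253 ^ 2 by norm_num; omega)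
  · rw [hT, List.mem_toFinset, List.mem_cons, not_or] at hST
    refine List.nodup_cons.mpr ⟨?_, List.nodup_cons.mpr ⟨hST.2, D.nodup⟩⟩
    rw [List.mem_cons, not_or]
    exact ⟨fun e => hST.1 e.symm, hRl⟩
  · by_cases hχ : χ ∈ T
    · rw [hT, List.mem_toFinset, List.mem_cons] at hχ
      rcases hχ with e | e <;> simp [e]
    · have : χ ∈ Finset.univ \ T := Finset.mem_sdiff.mpr ⟨Finset.mem_univ _, hχ⟩
      rw [hS, Finset.mem_singleton] at this
      simp [this]

theorem seven_data (hc : Nat.card G = 10200960) {y : G} (hy : orderOf y = 7) :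
    Nat.card (cnt1 y) = 14 ∧ Nat.card (nrm y) = 42 := by
  classical
  have := Fintype.ofFinite G
  have := Fintype.ofFinite (IrrCharacter G)
  have : Fact (Nat.Prime 2) := ⟨Nat.prime_two⟩
  have : Fact (Nat.Prime 3) := ⟨by norm_num⟩
  have : Fact (Nat.Prime 7) := ⟨by norm_num⟩
  have : Fact (Nat.Prime 11) := ⟨by norm_num⟩
  have : Fact (Nat.Prime 23) := ⟨by norm_num⟩
  obtain ⟨D⟩ := exists_degs hc
  obtain ⟨t, ht⟩ := exists_prime_orderOf_dvd_card' (G := G) 2 (by rw [hc]; norm_num)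
  obtain ⟨-, hP, hQ, -⟩ := invol_data hc D ht
  obtain ⟨hs, hY, c, L, A, E, τ, R, hC, hN, hn, hmod, h2c, h5c, h11, h23, h, hQA, hτQ, hRA, hτR, hR, hE⟩ :=
    seven_block hc D hy
  -- the order of `c`
  obtain ⟨χe, hχe⟩ := h.data.nonempty
  have h3c : ¬ 3 ∣ c := fun hd => (h.not_mem_of_vanish (χ := χe) hd (defect_le (by norm_num)
    Nat.card_pos.ne' (dg_pos' χe).ne' (k := 2) (by rw [hc]; norm_num) (by rw [hE χe hχe]; norm_num))).2 hχe
  have hc128 : c ∣ 2 ^ 7 := by
    have hd : c ∣ 2 ^ 7 * (3 * (5 * (11 * 23))) := ⟨Nat.card (Sylow 7 G), by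
      norm_num at hn ⊢; linarith⟩
    have cop : ∀ q : ℕ, q.Prime → ¬ q ∣ c → c.Coprime q := fun q hq h' => (hq.coprime_iff_not_dvd.mpr h').symm
    refine Nat.Coprime.dvd_of_dvd_mul_right ?_ hd
    exact (cop 3 (by norm_num) h3c).mul_right ((cop 5 (by norm_num) h5c).mul_right
      ((cop 11 (by norm_num) fun h' => h11 (hC ▸ dvd_mul_of_dvd_right h' _)).mul_right
        (cop 23 (by norm_num) fun h' => h23 (hC ▸ dvd_mul_of_dvd_right h' _))))
  have hc3 : c = 2 ∨ c = 16 ∨ c = 128 := by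
    obtain ⟨k, hk, rfl⟩ := (Nat.dvd_prime_pow Nat.prime_two).mp hc128
    generalize Nat.card (Sylow 7 G) = n at hn hmod
    interval_cases k <;> first | omega | (norm_num at h2c; done) | (norm_num at hn ⊢; omega)
  suffices h2 : c = 2 by exact ⟨by rw [hC, h2], by rw [hN, h2]⟩
  by_contra hc2
  have hc16 : (c : ℤ) = 16 ∨ (c : ℤ) = 128 := by omega
  -- the characters
  obtain ⟨S, hS, hnd, hall⟩ := exists_rest hc D hR
  obtain ⟨xx, six, hsix, hxx, hs'⟩ := List.map_eq_cons_iff.mp hs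
  obtain ⟨b₁, six, rfl, hb₁, hs'⟩ := List.map_eq_cons_iff.mp hs'
  obtain ⟨b₂, six, rfl, hb₂, hs'⟩ := List.map_eq_cons_iff.mp hs'
  obtain ⟨b₃, six, rfl, hb₃, hs'⟩ := List.map_eq_cons_iff.mp hs'
  obtain ⟨g, six, rfl, hg, hs'⟩ := List.map_eq_cons_iff.mp hs'
  obtain ⟨k, six, rfl, hk, hs'⟩ := List.map_eq_cons_iff.mp hs'
  rw [List.map_eq_nil_iff] at hs'
  subst hs'
  have hlist : R :: S :: D.list = [R, S, oneChar G, D.a₁, D.a₂, D.e₁, D.e₂, D.P, D.Q, D.y₁, D.y₂, xx, b₁, b₂, b₃, g, k] := by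
    rw [Degs.list, hsix]
  rw [hlist] at hnd hall
  have hcases : ∀ χ : IrrCharacter G, (dg χ = 22 → χ = xx) ∧ (dg χ = 45 → χ = D.a₁ ∨ χ = D.a₂) ∧
      (dg χ = 990 → χ = g ∨ χ = k) := fun χ => by
    have := hall χ
    simp only [List.mem_cons, List.not_mem_nil, or_false] at this
    rcases this with e | e | e | e | e | e | e | e | e | e | e | e | e | e | e | e | e <;>
      simp [e, hR, hS, dg_oneChar, D.dga₁, D.dga₂, D.dge₁, D.dge₂, hP, hQ, hY, D.dgy, hxx, hb₁, hb₂, hb₃, hg, hk]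
  have sum17 : ∀ f : IrrCharacter G → ℂ, ∑ χ, f χ = f R + f S + f (oneChar G) + f D.a₁ + f D.a₂ + f D.e₁ +
      f D.e₂ + f D.P + f D.Q + f D.y₁ + f D.y₂ + f xx + f b₁ + f b₂ + f b₃ + f g + f k := fun f => by
    rw [← Finset.eq_univ_of_forall (s := List.toFinset [R, S, oneChar G, D.a₁, D.a₂, D.e₁, D.e₂, D.P, D.Q,
        D.y₁, D.y₂, xx, b₁, b₂, b₃, g, k]) (fun χ => List.mem_toFinset.mpr (hall χ)),
      List.sum_toFinset f hnd]
    simp only [List.map_cons, List.map_nil, List.sum_cons, List.sum_nil]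
    ring
  -- the values at `y`
  have hK : ((((1 : K y L) : L) : G)) = 1 := by simp
  have vQ : (D.Q : G → ℂ) y = -1 := by
    have := h.data.valA D.Q hQA 1; rw [hK, mul_one, hτQ] at this; simpa using this
  have vR : (R : G → ℂ) y = 1 := by
    have := h.data.valA R hRA 1; rw [hK, mul_one, hτR] at this; simpa using this
  have v1 : (oneChar G : G → ℂ) y = 1 := rfl
  have v0 : ∀ χ : IrrCharacter G, 7 ∣ dg χ → (χ : G → ℂ) y = 0 := fun χ hd =>
    Char.vanishes_of_defect_zero (p := 7) (by norm_num) χ.2 (dg_cast χ) (by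
      rw [hc]; exact defect_le (by norm_num) (by norm_num) (dg_pos' χ).ne' (k := 1) (by norm_num)
        (by simpa using hd)) y (by rw [hy])
  have hgk : g ≠ k := by
    intro e; subst e
    simp [List.nodup_cons] at hnd
  have hEgk : E = {g, k} := Finset.eq_of_subset_of_card_le
    (fun χ hχ => by
      rcases (hcases χ).2.2 (hE χ hχ) with e | e <;> simp [e])
    (by rw [Finset.card_pair hgk, h.data.cardE])
  have hgk1 : (g : G → ℂ) y + (k : G → ℂ) y = ((-1 : ℤ) : ℂ) := by
    have := h.data.valE 1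
    rw [hEgk, Finset.sum_pair hgk, hK, mul_one] at this
    simpa using this
  have z1 := v0 D.e₁ (by rw [D.dge₁]; norm_num)
  have z2 := v0 D.e₂ (by rw [D.dge₂]; norm_num)
  have z3 := v0 D.y₁ (by rw [hY]; norm_num)
  have z4 := v0 D.y₂ (by rw [D.dgy, hY]; norm_num)
  have z5 := v0 b₁ (by rw [hb₁]; norm_num)
  have z6 := v0 b₂ (by rw [hb₂]; norm_num)
  have z7 := v0 b₃ (by rw [hb₃]; norm_num)
  obtain ⟨x23, hx23⟩ := exists_prime_orderOf_dvd_card' (G := G) 23 (by rw [hc]; norm_num)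
  obtain ⟨x11, hx11⟩ := exists_prime_orderOf_dvd_card' (G := G) 11 (by rw [hc]; norm_num)
  obtain ⟨F', E', hcol11⟩ := col11 hc hx11
  obtain ⟨F'', E'', hcol23⟩ := col23 hc hx23
  have hnc : ∀ {z : G}, orderOf z ≠ 7 → ¬ IsConj y z := fun hz e => by
    obtain ⟨u, hu⟩ := isConj_iff.mp e
    refine hz ?_
    rw [← hu, ← hy]
    exact orderOf_injective (MulAut.conj u).toMonoidHom (MulAut.conj u).injective y
  have r11 := hcol11.rel (g := y) (by rw [hy]; norm_num) (hnc (by rw [hx11]; norm_num))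
  have r23 := hcol23.rel (g := y) (by rw [hy]; norm_num) (hnc (by rw [hx23]; norm_num))
  rw [D.sum_w11] at r11
  rw [D.sum_w23, hsix] at r23
  have hw : w23 22 = -2 ∧ w23 231 = 2 ∧ w23 990 = 2 := by decide
  simp only [List.map_cons, List.map_nil, List.sum_cons, List.sum_nil, hxx, hb₁, hb₂, hb₃, hg, hk,
    hw.1, hw.2.1, hw.2.2, v1, z1, z2, z3, z4, z5, z6, z7] at r23
  simp only [v1, vQ, z1, z2] at r11
  push_cast at r23
  have o1 := Char.column_orth (G := G) 1 y
  rw [if_neg (fun e => by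
    obtain ⟨u, hu⟩ := isConj_iff.mp e
    rw [mul_one, mul_inv_cancel] at hu
    rw [← hu, orderOf_one] at hy; omega)] at o1
  have o1' := congrArg conj o1
  rw [map_sum, map_zero, sum17] at o1'
  simp only [map_mul, Complex.conj_conj, dg_cast, map_natCast, hR, hS, dg_oneChar, D.dga₁, D.dga₂, D.dge₁,
    D.dge₂, hP, hQ, hY, D.dgy, hxx, hb₁, hb₂, hb₃, hg, hk, vR, v1, vQ, z1, z2, z3, z4, z5, z6, z7] at o1'
  push_cast at o1'
  -- the value `X`
  have hcj := exists_conj_sq hy hC hN
  have hperm : ∀ (χ ψ : IrrCharacter G) (d : ℕ), χ ≠ ψ → (∀ φ : IrrCharacter G, dg φ = d → φ = χ ∨ φ = ψ) →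
      dg χ = d → dg ψ = d →
      conj ((χ : G → ℂ) y) = (χ : G → ℂ) y ∧ conj ((ψ : G → ℂ) y) = (ψ : G → ℂ) y ∨
        conj ((χ : G → ℂ) y) = (ψ : G → ℂ) y := by
    intro χ ψ d hne hu hχ hψ
    let cj : IrrCharacter G → IrrCharacter G := fun φ => ⟨_, Char.IsIrrCharacter.conj φ.2⟩
    have hd : ∀ φ : IrrCharacter G, dg φ = d → dg (cj φ) = d := fun φ hφ => by
      rw [← hφ]; simp [dg, charDegree, cj]
    have hinj : ∀ φ φ' : IrrCharacter G, cj φ = cj φ' → φ = φ' := fun φ φ' e => Subtype.ext <| funext fun z => by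
      have := congrArg (fun f : IrrCharacter G => conj ((f : G → ℂ) z)) e
      simpa [cj] using this
    have happ : ∀ φ : IrrCharacter G, (cj φ : G → ℂ) y = conj ((φ : G → ℂ) y) := fun φ => rfl
    rcases hu _ (hd χ hχ) with e | e
    · left
      refine ⟨by rw [← happ, e], ?_⟩
      rcases hu _ (hd ψ hψ) with e' | e'
      · exact absurd (hinj _ _ (e.trans e'.symm)) hne
      · rw [← happ, e']
    · right
      rw [← happ, e]
  obtain ⟨-, -, -, -, hint⟩ := seven_value hy hcj xx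
  obtain ⟨X, hX⟩ := hint (by
    have e : (⟨_, Char.IsIrrCharacter.conj xx.2⟩ : IrrCharacter G) = xx := by
      refine (hcases _).1 ?_
      rw [← hxx]; simp [dg, charDegree]
    exact congrArg (fun f : IrrCharacter G => (f : G → ℂ) y) e)
  rw [hX] at r23 o1'
  have eP : (D.P : G → ℂ) y = -(X : ℂ) := by
    push_cast at hgk1
    linear_combination (-1 / 2 : ℂ) * r11 + (-1 / 2 : ℂ) * r23 + hgk1
  have eab : (D.a₁ : G → ℂ) y + (D.a₂ : G → ℂ) y = ((-X : ℤ) : ℂ) := by
    push_cast; linear_combination (1 / 2 : ℂ) * r11 + eP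
  have eS : (S : G → ℂ) y = (X : ℂ) := by
    push_cast at eab hgk1
    linear_combination (1 / 253 : ℂ) * o1' - (230 / 253 : ℂ) * eP - (45 / 253 : ℂ) * eab - (990 / 253 : ℂ) * hgk1
  have ha12 : D.a₁ ≠ D.a₂ := by
    intro e
    have h' := D.nodup
    rw [e] at h'
    simp [List.nodup_cons] at h'
  obtain ⟨s1, n1, hs1, hn1, hp1⟩ := pair_sums hy hcj
    (hperm _ _ 45 ha12 (fun φ => (hcases φ).2.1) D.dga₁ D.dga₂) eab
  obtain ⟨s2, n2, hs2, hn2, hp2⟩ := pair_sums hy hcj
    (hperm _ _ 990 hgk (fun φ => (hcases φ).2.2) hg hk) hgk1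
  have o2 := Char.column_orth (G := G) y y
  rw [if_pos (IsConj.refl y), show Nat.card (Subgroup.centralizer ({y} : Set G)) = 7 * c from hC, sum17] at o2
  have o3 := Char.column_orth (G := G) y y⁻¹
  rw [if_neg (fun e => by
    obtain ⟨u, hu⟩ := isConj_iff.mp e
    exact false_of_inverted (p := 7) (c := c) (j := 3) (by norm_num) hy hC hN (by decide) hu), sum17] at o3
  simp only [fun χ : IrrCharacter G => Char.IsCharacter.apply_inv (Char.IsIrrCharacter.isCharacter χ.2) y,
    Complex.conj_conj, vR, v1, vQ, z1, z2, z3, z4, z5, z6, z7, eS, eP, hX] at o3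
  simp only [vR, v1, vQ, z1, z2, z3, z4, z5, z6, z7, eS, eP, hX, map_one, map_neg, map_zero, map_intCast] at o2
  refine no_seven_sums (X := X) hc16 ?_ ?_ (by simpa using hp1) (by simpa using hp2)
  · apply Int.cast_injective (α := ℂ)
    push_cast
    linear_combination o3 - hs1 - hs2
  · apply Int.cast_injective (α := ℂ)
    push_cast
    push_cast at o2
    linear_combination o2 - hn1 - hn2

theorem localData_of_order (hc : Nat.card G = 10200960) : LocalData G where
  card := hc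
  cent_five _ hg := (five_data hc hg).1
  norm_five _ hg := (five_data hc hg).2.1
  cent_seven _ hg := (seven_data hc hg).1
  norm_seven _ hg := (seven_data hc hg).2
  cent_eleven _ hg := (eleven_data hc hg).1
  norm_eleven _ hg := (eleven_data hc hg).2
  cent_twentythree _ hg := (twentyThree_data hc hg).1
  norm_twentythree _ hg := (twentyThree_data hc hg).2
  conj_invol _ _ hs ht := conj_invol_ord hc hs ht
  cent_invol _ ht := by
    have := Fintype.ofFinite (IrrCharacter G)
    obtain ⟨D⟩ := exists_degs hc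
    exact (invol_data hc D ht).1

end Cfsg.Agent.Order10200960
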