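/-
The elements of order 23 of a simple group of order 10200960.

Main results (namespace `Cfsg.Agent.Order10200960`):
* `twentyThree_data` : `|C(x)| = 23` and `|N(⟨x⟩)| = 253`
-/
import Cfsg.Agent.Lib.Order10200960.OrdTools

set_option autoImplicit false
set_option maxRecDepth 10000

namespace Cfsg.Agent.Order10200960

open Cfsg Cfsg.Agent.Blocks Cfsg.Agent.CyclicDefect Cfsg.Agent.SmallOrders
open Cfsg.Agent.SmallOrders.BlockDegrees (oneChar)
open Cfsg.Agent.OrderM22 (dg)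

/-- The possible number of Sylow 23-subgroups with the automiser. -/
def cases23 (d : ℕ) : Prop :=
  1 < d → d % 23 = 1 → ∀ j ∈ [11, 22], j * d ∣ 443520 →
    (30 < (d - 1) / 23 ∨ 443520 / (j * d) ∣ altCard ((d - 1) / 23)) →
      (d, j) ∈ [(576, 11), (576, 22), (1680, 11), (1680, 22), (40320, 11)]

instance : DecidablePred cases23 := fun d => by unfold cases23; infer_instance

theorem cases23_check : ∀ u < 666, u ∣ 443520 → cases23 u ∧ cases23 (443520 / u) := by decide +kernel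

theorem dvd_24_check : ∀ d < 3195, d ∣ 10200960 → 46 ≤ d ∧ ¬ 5 ∣ d ∧ ¬ 7 ∣ d →
    (d % 23 = 1 ∨ d % 23 = 22 ∨ d % 23 = 11 ∨ d % 23 = 12) → 24 ∣ d := by decide +kernel

set_option synthInstance.maxSize 1024 in
theorem sign_check : ∀ d < (3195 : ℕ), d ∣ 10200960 → 46 ≤ d ∧ ¬ 9 ∣ d ∧ ¬ 128 ∣ d →
    ∀ e ∈ [(11 : ℕ), 22], ∀ s ∈ [(1 : ℤ), -1],
      (s * (d : ℤ) % 23 = 1 ∨ -s * (d : ℤ) % 23 = (e : ℤ)) →
        66 ≤ d ∧ ∀ t ∈ [(1 : ℤ), -1], t * (d : ℤ) % 5 = 1 → s * t = 1 := by decide +kernel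

theorem consecutive_check : ∀ d < 3195, d ∣ 10200960 → ∀ m < 3195, m ∣ 10200960 →
    (m = d + 1 ∨ d = m + 1) → (d % 5 = 1 ∨ d % 5 = 4) → (m % 5 = 2 ∨ m % 5 = 3) →
      d < 66 ∧ m < 66 := by
  intro d hd h1 m hm h2 h3
  have key : ∀ d < 3195, d ∣ 10200960 ∧ (d % 5 = 1 ∨ d % 5 = 4) →
      ((d + 1) ∣ 10200960 ∧ ((d + 1) % 5 = 2 ∨ (d + 1) % 5 = 3) → d < 65) ∧
      ((d - 1) ∣ 10200960 ∧ ((d - 1) % 5 = 2 ∨ (d - 1) % 5 = 3) → d < 66) := by decide +kernel
  intro h4 h5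
  obtain ⟨k1, k2⟩ := key d hd ⟨h1, h4⟩
  rcases h3 with rfl | rfl
  · have := k1 ⟨h2, h5⟩; omega
  · have := k2 ⟨by simpa using h2, by simpa using h5⟩; omega

variable {G : Type*} [Group G] [Finite G] [IsSimpleGroup G]

theorem res_pm {z : ℤ} {d : ℕ} {p r : ℕ} (hp : 1 < p) (hr : r < p) (hs : z = 1 ∨ z = -1)
    (h : z * (d : ℤ) % p = (r : ℤ)) : d % p = r % p ∨ d % p = (p - r) % p := by
  rcases hs with rfl | rfl
  · rw [one_mul] at h; left
    have : d % p = r := by exact_mod_cast h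
    rw [this, Nat.mod_eq_of_lt hr]
  · right
    have h0 : ((d : ℤ) + r) % p = 0 := by
      rw [← h, neg_one_mul, Int.add_emod_emod, add_neg_cancel, Int.zero_emod]
    have h1 : (d + r) % p = 0 := by exact_mod_cast h0
    obtain ⟨k, hk⟩ := Nat.dvd_of_mod_eq_zero h1
    rcases Nat.eq_zero_or_pos r with rfl | hr0
    · simpa using h1
    · have hk0 : 0 < k := Nat.pos_of_ne_zero fun e => by rw [e, mul_zero] at hk; omega
      obtain ⟨k', rfl⟩ : ∃ k', k = k' + 1 := ⟨k - 1, by omega⟩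
      have hd : d = (p - r) + p * k' := by rw [Nat.mul_succ] at hk; omega
      rw [hd, Nat.add_mul_mod_self_left]

/-- Five Sylow configurations are impossible but one: the case of 576 Sylow subgroups. -/
theorem not_case576 (hc : Nat.card G = 10200960) [Fact (Nat.Prime 23)] {x : G} (hx : orderOf x = 23)
    {c e : ℕ} (he : e = 11 ∨ e = 22) (h5 : 5 ∣ c) (h7 : 7 ∣ c)
    (hC : Nat.card (cnt1 x) = 23 * c) (hN : Nat.card (nrm x) = 23 * c * e) : False := by
  classical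
  have : Fact (Nat.Prime 5) := ⟨by norm_num⟩
  have : Fact (Nat.Prime 7) := ⟨by norm_num⟩
  have hc0 : c ≠ 0 := fun e => by rw [e, mul_zero] at hC; exact Nat.card_pos.ne' hC
  have hc1 : 1 < c := by obtain ⟨k, rfl⟩ := h5; omega
  obtain ⟨L, A, E, σ, ε, h⟩ := exists_blk (lo := 46) (not_comm_ord hc) (by norm_num) hx
    (not_sq_ord hc (by decide)) hC hN (Or.inr ⟨hc1, le_rfl⟩)
  have key : ∀ χ, χ ∈ A ∨ χ ∈ E → 24 ∣ dg χ := by
    intro χ hχ
    obtain ⟨hlo, s, hs, hd⟩ := h.signed hχ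
    have hv : ∀ r : ℕ, [Fact r.Prime] → r ∣ c → ¬ r ^ 2 ∣ 10200960 → ¬ r ∣ dg χ := by
      intro r hr hrc hr2 hrd
      have := h.not_mem_of_vanish (χ := χ) hrc (defect_le (k := 1) hr.out Nat.card_pos.ne'
        (dg_pos' χ).ne' (by rwa [hc]) (by rwa [pow_one]))
      exact hχ.elim this.1 this.2
    refine dvd_24_check _ (dg_lt hc χ) (dg_dvd_ord hc χ)
      ⟨hlo, hv 5 h5 (by norm_num), hv 7 h7 (by norm_num)⟩ ?_
    rcases hd with ⟨-, -, hd⟩ | ⟨-, -, hd⟩
    · have := res_pm (p := 23) (r := 1) (by norm_num) (by norm_num) hs hd; omega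
    · rcases he with rfl | rfl
      · have := res_pm (p := 23) (r := 11) (z := -s) (by norm_num) (by norm_num) (by omega) hd
        omega
      · have := res_pm (p := 23) (r := 22) (z := -s) (by norm_num) (by norm_num) (by omega) hd
        omega
  obtain ⟨χe, hχe⟩ := h.data.nonempty
  have hsum : (24 : ℤ) ∣ ∑ χ ∈ A, σ χ * (dg χ : ℤ) :=
    Finset.dvd_sum fun χ hχ => dvd_mul_of_dvd_right (by exact_mod_cast key χ (Or.inl hχ)) _
  have he' : (24 : ℤ) ∣ ε * (dg χe : ℤ) :=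
    dvd_mul_of_dvd_right (by exact_mod_cast key χe (Or.inr hχe)) _
  have := h.deg_eq hχe
  omega

/-- The case of 1680 Sylow subgroups, through the elements of order 5. -/
theorem not_case1680 (hc : Nat.card G = 10200960) [Fact (Nat.Prime 23)] {x : G} (hx : orderOf x = 23)
    {c e : ℕ} (he : e = 11 ∨ e = 22) (h2 : 2 ∣ c) (h3 : 3 ∣ c) (h5 : ¬ 5 ∣ c)
    (hC : Nat.card (cnt1 x) = 23 * c) (hN : Nat.card (nrm x) = 23 * c * e) : False := by
  classical
  have : Fact (Nat.Prime 2) := ⟨Nat.prime_two⟩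
  have : Fact (Nat.Prime 3) := ⟨Nat.prime_three⟩
  have : Fact (Nat.Prime 5) := ⟨by norm_num⟩
  have hc0 : c ≠ 0 := fun e => by rw [e, mul_zero] at hC; exact Nat.card_pos.ne' hC
  have hc1 : 1 < c := by obtain ⟨k, rfl⟩ := h2; omega
  obtain ⟨L, A, E, σ, ε, h⟩ := exists_blk (lo := 46) (not_comm_ord hc) (by norm_num) hx
    (not_sq_ord hc (by decide)) hC hN (Or.inr ⟨hc1, le_rfl⟩)
  obtain ⟨b, hb⟩ := exists_prime_orderOf_dvd_card' (G := G) 5 (by rw [hc]; norm_num)
  obtain ⟨c', e', hC', hN', he1, he2, -⟩ := local_data hc (by decide) hb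
  obtain ⟨L', A', E', τ, η, h'⟩ := exists_blk (lo := 2) (not_comm_ord hc) (by norm_num) hb
    (not_sq_ord hc (by decide)) hC' hN' (Or.inl le_rfl)
  have hnd : ¬ 23 ∣ Nat.card (cnt1 b) := by
    refine not_dvd_cnt1_symm (p := 5) (fun y hy => ?_) hb
    rw [cnt1_same hc (by decide) hy hx, hC]
    intro hd
    exact h5 ((Nat.Coprime.dvd_mul_left (by norm_num)).mp hd)
  refine h.false_of_nonneg h' hnd fun χ s hs => ?_
  have hmem : χ ∈ A ∨ χ ∈ E := hs.imp And.left And.left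
  obtain ⟨hlo, s', hs', hd⟩ := h.signed hmem
  have hss : s' = s ∧ (s * (dg χ : ℤ) % 23 = 1 ∨ -s * (dg χ : ℤ) % 23 = (e : ℤ)) := by
    have hdis := Finset.disjoint_left.mp h.data.disj
    rcases hs with ⟨hm, rfl⟩ | ⟨hm, rfl⟩
    · rcases hd with ⟨-, hs'', hd⟩ | ⟨hm', -⟩
      · subst hs''; exact ⟨rfl, Or.inl hd⟩
      · exact absurd hm' (hdis hm)
    · rcases hd with ⟨hm', -⟩ | ⟨-, hs'', hd⟩
      · exact absurd hm (hdis hm')
      · subst hs''; refine ⟨rfl, Or.inr ?_⟩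
        simpa [Int.emod_eq_of_lt (a := (e : ℤ)) (b := 23) (by omega) (by omega)] using hd
  obtain ⟨rfl, hres⟩ := hss
  have hv : ∀ r k : ℕ, [Fact r.Prime] → r ∣ c → ¬ r ^ (k + 1) ∣ 10200960 → ¬ r ^ k ∣ dg χ := by
    intro r k hr hrc hr2 hrd
    have := h.not_mem_of_vanish (χ := χ) hrc (defect_le hr.out Nat.card_pos.ne'
      (dg_pos' χ).ne' (by rwa [hc]) hrd)
    exact hmem.elim this.1 this.2
  obtain ⟨h66, hsign⟩ := sign_check _ (dg_lt hc χ) (dg_dvd_ord hc χ)
    ⟨hlo, hv 3 2 h3 (by norm_num), hv 2 7 h2 (by norm_num)⟩ e (by simpa using he) s' (by simpa using hs')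
    hres
  by_cases h0 : avg b L' (χ : G → ℂ) = 0
  · exact ⟨0, by rw [h0, mul_zero, Nat.cast_zero]⟩
  have hne : χ ≠ oneChar G := hmem.elim h.ne_one_A h.ne_one_E
  have hj : e' = 2 ∨ e' = 4 := by
    have := Nat.le_of_dvd (by norm_num) he2
    interval_cases e' <;> omega
  rcases hj with rfl | rfl
  · -- two consecutive degrees
    exfalso
    obtain ⟨χe, hχe⟩ := h'.data.nonempty
    obtain ⟨ψ, hψ⟩ := Finset.card_eq_one.mp (show A'.card = 1 by have := h'.data.cardA; omega)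
    have heq := h'.deg_eq hχe
    rw [hψ, Finset.sum_singleton] at heq
    have hψA : ψ ∈ A' := by rw [hψ]; exact Finset.mem_singleton_self _
    have h1 := h'.data.degA ψ hψA
    have h2' := h'.data.degE χe hχe
    have hbound : dg ψ < 66 ∧ dg χe < 66 := by
      refine consecutive_check _ (dg_lt hc ψ) (dg_dvd_ord hc ψ) _ (dg_lt hc χe) (dg_dvd_ord hc χe)
        ?_ ?_ ?_
      · have := dg_pos' ψ; have := dg_pos' χe
        rcases h'.data.sign ψ hψA with a | a <;> rcases h'.data.signE with b | b <;>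
          rw [a, b] at heq <;> omega
      · rcases h'.data.sign ψ hψA with a | a <;> rw [a] at h1 <;> simp only [dg] at h1 ⊢ <;> omega
      · rcases h'.data.signE with b | b <;> rw [b] at h2' <;> simp only [dg] at h2' ⊢ <;> omega
    rcases (h'.mem_of_avg_ne h0).resolve_left hne with hm | hm
    · rw [hψ, Finset.mem_singleton] at hm; subst hm; omega
    · rw [h'.dgE hm hχe] at h66; omega
  · have hE1 : E'.card = 1 := by rw [h'.data.cardE]
    obtain ⟨-, t, ht, htd, havg⟩ := h'.avg_signed hE1 rfl hne h0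
    refine ⟨c', ?_⟩
    have hst : s' * t = 1 := hsign t (by simpa using ht) htd
    rw [havg, mul_left_comm, ← Int.cast_mul, hst, Int.cast_one, mul_one]

theorem no_two_check : ∀ d < 3195, d ∣ 10200960 ∧ 46 ≤ d ∧ (d % 23 = 1 ∨ d % 23 = 22) →
    ((d + 1) ∣ 10200960 ∧ ((d + 1) % 23 = 2 ∨ (d + 1) % 23 = 21) → False) ∧
    ((d - 1) ∣ 10200960 ∧ ((d - 1) % 23 = 2 ∨ (d - 1) % 23 = 21) → False) := by decide +kernel

/-- The automiser has order at least 11: two consecutive degrees would be needed. -/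
theorem not_two (hc : Nat.card G = 10200960) [Fact (Nat.Prime 23)] {x : G} (hx : orderOf x = 23)
    {c : ℕ} (hc1 : 1 < c) (hC : Nat.card (cnt1 x) = 23 * c) (hN : Nat.card (nrm x) = 23 * c * 2) :
    False := by
  classical
  obtain ⟨L, A, E, σ, ε, h⟩ := exists_blk (lo := 46) (not_comm_ord hc) (by norm_num) hx
    (not_sq_ord hc (by decide)) hC hN (Or.inr ⟨hc1, le_rfl⟩)
  obtain ⟨χe, hχe⟩ := h.data.nonempty
  obtain ⟨ψ, hψ⟩ := Finset.card_eq_one.mp (show A.card = 1 by have := h.data.cardA; omega)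
  have heq := h.deg_eq hχe
  rw [hψ, Finset.sum_singleton] at heq
  have hψA : ψ ∈ A := by rw [hψ]; exact Finset.mem_singleton_self _
  have h1 := h.data.degA ψ hψA
  have h2 := h.data.degE χe hχe
  obtain ⟨k1, k2⟩ := no_two_check _ (dg_lt hc ψ) ⟨dg_dvd_ord hc ψ, h1.1, by
    rcases h.data.sign ψ hψA with a | a <;> rw [a] at h1 <;> simp only [dg] at h1 ⊢ <;> omega⟩
  have := dg_pos' χe
  have hr : dg χe % 23 = 2 ∨ dg χe % 23 = 21 := by
    rcases h.data.signE with b | b <;> rw [b] at h2 <;> simp only [dg] at h2 ⊢ <;> omega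
  have hcases : dg χe = dg ψ + 1 ∨ dg χe = dg ψ - 1 := by
    rcases h.data.sign ψ hψA with a | a <;> rcases h.data.signE with b | b <;>
      rw [a, b] at heq <;> omega
  rcases hcases with e1 | e1 <;> rw [e1] at hr
  · exact k1 ⟨e1 ▸ dg_dvd_ord hc χe, hr⟩
  · exact k2 ⟨e1 ▸ dg_dvd_ord hc χe, hr⟩

theorem twentyThree_data (hc : Nat.card G = 10200960) {x : G} (hx : orderOf x = 23) :
    Nat.card (cnt1 x) = 23 ∧ Nat.card (nrm x) = 253 := by
  have : Fact (Nat.Prime 23) := ⟨by norm_num⟩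
  obtain ⟨c, j, hC, hN, hj1, hj2, hn, hmod, hd1, hck⟩ := local_data hc (by decide) hx
  set d := Nat.card (Sylow 23 G)
  have hprod : c * j * d = 443520 := by nlinarith
  have hj : j ∈ [11, 22] := by
    have : ∀ j < 23, 1 < j → j ∣ 22 → j = 2 ∨ j ∈ [11, 22] := by decide
    refine (this j (by have := Nat.le_of_dvd (by norm_num) hj2; omega) hj1 hj2).resolve_left ?_
    rintro rfl
    refine not_two hc hx ?_ hC hN
    by_contra h1
    have : c = 1 := by rcases Nat.eq_zero_or_pos c with rfl | _ <;> omega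
    subst this
    omega
  have hdd : d ∣ 443520 := ⟨c * j, by rw [← hprod]; ring⟩
  have hjd : j * d ∣ 443520 := ⟨c, by rw [← hprod]; ring⟩
  have hcd : 443520 / (j * d) = c := by
    rw [← hprod, show c * j * d = c * (j * d) by ring]
    exact Nat.mul_div_cancel _ (Nat.mul_pos (by omega) (by omega))
  have := forall_dvd_of_check (P := cases23) (by norm_num) (by norm_num : 443520 < 666 * 666)
    cases23_check hdd hd1 hmod j hj hjd (Or.inr (by rwa [hcd]))
  simp only [List.mem_cons, List.not_mem_nil, or_false, Prod.mk.injEq] at this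
  rcases this with ⟨h1, rfl⟩ | ⟨h1, rfl⟩ | ⟨h1, rfl⟩ | ⟨h1, rfl⟩ | ⟨h1, rfl⟩ <;> rw [h1] at hprod
  · exact (not_case576 hc hx (Or.inl rfl) (by omega) (by omega) hC hN).elim
  · exact (not_case576 hc hx (Or.inr rfl) (by omega) (by omega) hC hN).elim
  · exact (not_case1680 hc hx (Or.inl rfl) (by omega) (by omega) (by omega) hC hN).elim
  · exact (not_case1680 hc hx (Or.inr rfl) (by omega) (by omega) (by omega) hC hN).elim
  · exact ⟨by omega, by rw [hN]; omega⟩

end Cfsg.Agent.Order10200960
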